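import Mathlib

set_option autoImplicit false

/-!
A Hall–Higman type lemma for abelian `p'`-groups: if an element `γ` normalizes an abelian
`p'`-group `B` of automorphisms of an elementary abelian `p`-group `Q` and `(γ - 1)^(p-1) = 0`
on `Q`, then `γ` centralizes `B`.
-/

namespace Cfsg.Agent.Lib.Helper14

open Finset

theorem pow_char_eq_one {R : Type*} [Ring R] {p : ℕ} [hp : Fact p.Prime] (hchar : (p : R) = 0)
    (a : R) (h : (a - 1) ^ (p - 1) = 0) : a ^ p = 1 := by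
  have hpp := hp.out
  obtain ⟨t, ht⟩ : ∃ t : R, t = a - 1 := ⟨_, rfl⟩
  have ha : a = t + 1 := by rw [ht]; abel
  rw [← ht] at h
  have hcomm : Commute t 1 := Commute.one_right t
  have htp : t ^ p = 0 := by
    have h1 : p = (p - 1) + 1 := (Nat.sub_add_cancel hpp.pos).symm
    rw [h1, pow_succ, h, zero_mul]
  rw [ha, hcomm.add_pow]
  rw [Finset.sum_eq_single 0]
  · simp
  · intro m hm hm0
    rw [Finset.mem_range] at hm
    by_cases hmp : m = p
    · rw [hmp, htp]; simp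
    · have hlt : m < p := by omega
      obtain ⟨c, hc⟩ := hpp.dvd_choose_self hm0 hlt
      rw [hc, Nat.cast_mul, hchar, zero_mul, mul_zero]
  · intro h0
    exfalso
    exact h0 (Finset.mem_range.mpr (Nat.succ_pos _))

theorem core_ring {R : Type*} [Ring R] {p : ℕ} [hp : Fact p.Prime] (hchar : (p : R) = 0)
    {D : Type*} [Group D] (ρ : D →* R) (hinj : Function.Injective ρ)
    (B : Subgroup D) [Finite B] (hBab : ∀ a ∈ B, ∀ b ∈ B, a * b = b * a)
    (hBcop : (Nat.card B).Coprime p) (γ : D) (hγN : ∀ b ∈ B, γ * b * γ⁻¹ ∈ B)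
    (hnil : (ρ γ - 1) ^ (p - 1) = 0) : ∀ b ∈ B, γ * b = b * γ := by
  have hpp := hp.out
  have hγp : γ ^ p = 1 := by
    apply hinj
    rw [map_pow, map_one]
    exact pow_char_eq_one hchar _ hnil
  have hφmem : ∀ y ∈ B, y * γ * y⁻¹ * γ⁻¹ ∈ B := by
    intro y hy
    have h1 : γ * y⁻¹ * γ⁻¹ ∈ B := hγN _ (B.inv_mem hy)
    have h2 : y * γ * y⁻¹ * γ⁻¹ = y * (γ * y⁻¹ * γ⁻¹) := by group
    rw [h2]
    exact B.mul_mem hy h1
  let B₁ : Subgroup D :=
    { carrier := {x | ∃ y ∈ B, x = y * γ * y⁻¹ * γ⁻¹}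
      mul_mem' := by
        rintro a b ⟨y, hy, rfl⟩ ⟨y', hy', rfl⟩
        refine ⟨y * y', B.mul_mem hy hy', ?_⟩
        have h1 := hBab _ (hφmem y' hy') _ (hγN _ (B.inv_mem hy))
        calc y * γ * y⁻¹ * γ⁻¹ * (y' * γ * y'⁻¹ * γ⁻¹)
            = y * ((γ * y⁻¹ * γ⁻¹) * (y' * γ * y'⁻¹ * γ⁻¹)) := by group
          _ = y * ((y' * γ * y'⁻¹ * γ⁻¹) * (γ * y⁻¹ * γ⁻¹)) := by rw [h1]
          _ = y * y' * γ * (y * y')⁻¹ * γ⁻¹ := by group
      one_mem' := ⟨1, B.one_mem, by group⟩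
      inv_mem' := by
        rintro a ⟨y, hy, rfl⟩
        refine ⟨y⁻¹, B.inv_mem hy, ?_⟩
        have h1 := hBab _ (B.inv_mem hy) _ (hγN _ hy)
        calc (y * γ * y⁻¹ * γ⁻¹)⁻¹ = (γ * y * γ⁻¹) * y⁻¹ := by group
          _ = y⁻¹ * (γ * y * γ⁻¹) := h1.symm
          _ = y⁻¹ * γ * y⁻¹⁻¹ * γ⁻¹ := by group }
  have hB₁def : ∀ x, x ∈ B₁ ↔ ∃ y ∈ B, x = y * γ * y⁻¹ * γ⁻¹ := fun x => Iff.rfl
  have hB₁B : B₁ ≤ B := by
    intro x hx
    obtain ⟨y, hy, rfl⟩ := (hB₁def x).mp hx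
    exact hφmem y hy
  have hfin : Finite ↥B₁ :=
    Finite.of_injective (Subgroup.inclusion hB₁B) (Subgroup.inclusion_injective _)
  -- γ-invariance of B₁
  have hinv1 : ∀ x ∈ B₁, γ * x * γ⁻¹ ∈ B₁ := by
    intro x hx
    obtain ⟨y, hy, rfl⟩ := (hB₁def x).mp hx
    refine (hB₁def _).mpr ⟨γ * y * γ⁻¹, hγN y hy, ?_⟩
    group
  have hinv : ∀ (i : ℕ), ∀ x ∈ B₁, γ ^ i * x * (γ ^ i)⁻¹ ∈ B₁ := by
    intro i
    induction i with
    | zero => intro x hx; simpa using hx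
    | succ i ih =>
      intro x hx
      have h1 := hinv1 _ (ih x hx)
      have h2 : γ ^ (i + 1) * x * (γ ^ (i + 1))⁻¹ = γ * (γ ^ i * x * (γ ^ i)⁻¹) * γ⁻¹ := by
        rw [pow_succ']
        group
      rw [h2]
      exact h1
  -- conjugacy
  have hconj : ∀ x ∈ B₁, ∃ y ∈ B, x * γ = y * γ * y⁻¹ := by
    intro x hx
    obtain ⟨y, hy, rfl⟩ := (hB₁def x).mp hx
    exact ⟨y, hy, by group⟩
  have hpowp : ∀ x ∈ B₁, (x * γ) ^ p = 1 := by
    intro x hx
    obtain ⟨y, hy, hxy⟩ := hconj x hx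
    rw [hxy, conj_pow, hγp]
    group
  have hnilx : ∀ x ∈ B₁, (ρ (x * γ) - 1) ^ (p - 1) = 0 := by
    intro x hx
    obtain ⟨y, hy, hxy⟩ := hconj x hx
    have hyy : ρ y⁻¹ * ρ y = 1 := by rw [← map_mul, inv_mul_cancel, map_one]
    have hyy' : ρ y * ρ y⁻¹ = 1 := by rw [← map_mul, mul_inv_cancel, map_one]
    have h1 : ρ (x * γ) - 1 = ρ y * (ρ γ - 1) * ρ y⁻¹ := by
      rw [hxy, map_mul, map_mul, mul_sub, sub_mul, mul_one, hyy']
    have h2 : ∀ n : ℕ, (ρ y * (ρ γ - 1) * ρ y⁻¹) ^ n = ρ y * (ρ γ - 1) ^ n * ρ y⁻¹ := by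
      intro n
      induction n with
      | zero => simp [hyy']
      | succ n ih =>
        rw [pow_succ, ih, pow_succ]
        calc ρ y * (ρ γ - 1) ^ n * ρ y⁻¹ * (ρ y * (ρ γ - 1) * ρ y⁻¹)
            = ρ y * (ρ γ - 1) ^ n * (ρ y⁻¹ * ρ y) * (ρ γ - 1) * ρ y⁻¹ := by noncomm_ring
          _ = ρ y * ((ρ γ - 1) ^ n * (ρ γ - 1)) * ρ y⁻¹ := by rw [hyy]; noncomm_ring
    rw [h1, h2, hnil, mul_zero, zero_mul]
  -- the maps ν_m
  have hν : ∀ (m : ℕ), ∀ x ∈ B₁, (x * γ) ^ m * (γ ^ m)⁻¹ ∈ B₁ := by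
    intro m
    induction m with
    | zero => intro x _; simpa using B₁.one_mem
    | succ m ih =>
      intro x hx
      have h1 := B₁.mul_mem (ih x hx) (hinv m x hx)
      have h2 : (x * γ) ^ (m + 1) * (γ ^ (m + 1))⁻¹ =
          (x * γ) ^ m * (γ ^ m)⁻¹ * (γ ^ m * x * (γ ^ m)⁻¹) := by
        rw [pow_succ, pow_succ]
        group
      rw [h2]
      exact h1
  have hνinj : ∀ m : ℕ, 0 < m → m < p → ∀ x ∈ B₁, ∀ x' ∈ B₁,
      (x * γ) ^ m * (γ ^ m)⁻¹ = (x' * γ) ^ m * (γ ^ m)⁻¹ → x = x' := by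
    intro m hm0 hmp x hx x' hx' heq
    have h1 : (x * γ) ^ m = (x' * γ) ^ m := mul_right_cancel heq
    have hcop : Nat.Coprime m p := by
      rw [Nat.coprime_comm, Nat.Prime.coprime_iff_not_dvd hpp]
      intro hdvd
      have := Nat.le_of_dvd hm0 hdvd
      omega
    obtain ⟨k, -, hk⟩ := Nat.exists_mul_mod_eq_one_of_coprime hcop hpp.one_lt
    have h2 : ∀ a : D, a ^ p = 1 → (a ^ m) ^ k = a := by
      intro a ha
      rw [← pow_mul, ← Nat.div_add_mod (m * k) p, hk, pow_add, pow_mul, ha, one_pow, one_mul,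
        pow_one]
    have h3 : x * γ = x' * γ := by
      rw [← h2 (x * γ) (hpowp x hx), ← h2 (x' * γ) (hpowp x' hx'), h1]
    exact mul_right_cancel h3
  haveI : Fintype ↥B₁ := Fintype.ofFinite _
  obtain ⟨e, he⟩ : ∃ e : R, e = ∑ x : ↥B₁, ρ (x : D) := ⟨_, rfl⟩
  have hsum : ∀ m : ℕ, 0 < m → m < p → ∑ x : ↥B₁, ρ ((x : D) * γ) ^ m = e * ρ γ ^ m := by
    intro m hm0 hmp
    let f : ↥B₁ → ↥B₁ := fun x => ⟨((x : D) * γ) ^ m * (γ ^ m)⁻¹, hν m x x.2⟩
    have hfinj : Function.Injective f := by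
      intro x x' hxx
      have h1 : ((x : D) * γ) ^ m * (γ ^ m)⁻¹ = ((x' : D) * γ) ^ m * (γ ^ m)⁻¹ :=
        congrArg Subtype.val hxx
      exact Subtype.ext (hνinj m hm0 hmp x x.2 x' x'.2 h1)
    have hfbij : Function.Bijective f := Finite.injective_iff_bijective.mp hfinj
    have h1 : ∑ x : ↥B₁, ρ ((f x : ↥B₁) : D) = ∑ x : ↥B₁, ρ (x : D) :=
      Function.Bijective.sum_comp hfbij (fun x : ↥B₁ => ρ (x : D))
    rw [he, ← h1, Finset.sum_mul]
    apply Finset.sum_congr rfl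
    intro x _
    have h2 : ((f x : ↥B₁) : D) = ((x : D) * γ) ^ m * (γ ^ m)⁻¹ := rfl
    rw [h2, ← map_pow, ← map_pow, ← map_mul]
    congr 1
    group
  have hleft : ∀ x0 ∈ B₁, ρ x0 * e = e := by
    intro x0 hx0
    rw [he, Finset.mul_sum]
    have h1 : ∑ x : ↥B₁, ρ (((⟨x0, hx0⟩ : ↥B₁) * x : ↥B₁) : D) = ∑ x : ↥B₁, ρ (x : D) :=
      Function.Bijective.sum_comp (Group.mulLeft_bijective (⟨x0, hx0⟩ : ↥B₁))
        (fun x : ↥B₁ => ρ (x : D))
    rw [← h1]
    apply Finset.sum_congr rfl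
    intro x _
    rw [← map_mul]
    rfl
  -- the main identity
  obtain ⟨κ, hκ⟩ : ∃ κ : ℕ → R, κ = fun m => (-1 : R) ^ (p - 1 - m) * ((p - 1).choose m : R) :=
    ⟨_, rfl⟩
  have hexp : ∀ x ∈ B₁, ∑ m ∈ Finset.range p, ρ (x * γ) ^ m * κ m = 0 := by
    intro x hx
    have h1 := hnilx x hx
    have hc : Commute (ρ (x * γ)) (-1 : R) := (Commute.one_right _).neg_right
    rw [sub_eq_add_neg, hc.add_pow, Nat.sub_add_cancel hpp.pos] at h1
    rw [← h1, hκ]
    apply Finset.sum_congr rfl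
    intro m _
    rw [mul_assoc]
  have hmain : ∑ m ∈ Finset.range p, (∑ x : ↥B₁, ρ ((x : D) * γ) ^ m) * κ m = 0 := by
    have h1 : ∑ x : ↥B₁, ∑ m ∈ Finset.range p, ρ ((x : D) * γ) ^ m * κ m = 0 :=
      Finset.sum_eq_zero (fun x _ => hexp x x.2)
    rw [Finset.sum_comm] at h1
    rw [← h1]
    apply Finset.sum_congr rfl
    intro m _
    rw [Finset.sum_mul]
  obtain ⟨r, hr⟩ : ∃ r : R, r = ∑ m ∈ Finset.range (p - 1), ρ γ ^ (m + 1) * κ (m + 1) :=
    ⟨_, rfl⟩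
  have hmain2 : (Nat.card ↥B₁ : R) * κ 0 + e * r = 0 := by
    have hp1 : p = (p - 1) + 1 := (Nat.sub_add_cancel hpp.pos).symm
    rw [hp1, Finset.sum_range_succ'] at hmain
    rw [← hmain, add_comm]
    congr 1
    · rw [hr, Finset.mul_sum]
      apply Finset.sum_congr rfl
      intro m hm
      rw [Finset.mem_range] at hm
      rw [hsum (m + 1) (Nat.succ_pos m) (by omega), mul_assoc]
    · simp [Nat.card_eq_fintype_card]
  have hκ0 : κ 0 * κ 0 = 1 := by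
    rw [hκ]
    simp only [Nat.sub_zero, Nat.choose_zero_right, Nat.cast_one, mul_one]
    rw [← pow_add, ← two_mul, pow_mul]
    simp
  have hcopB₁ : (Nat.card ↥B₁).Coprime p :=
    Nat.Coprime.coprime_dvd_left (Subgroup.card_dvd_of_le hB₁B) hBcop
  obtain ⟨s, -, hs⟩ := Nat.exists_mul_mod_eq_one_of_coprime hcopB₁ hpp.one_lt
  have hcs : (Nat.card ↥B₁ : R) * (s : R) = 1 := by
    rw [← Nat.cast_mul, ← Nat.div_add_mod (Nat.card ↥B₁ * s) p, hs, Nat.cast_add, Nat.cast_mul,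
      hchar, zero_mul, zero_add, Nat.cast_one]
  have hone : ∀ x0 ∈ B₁, x0 = 1 := by
    intro x0 hx0
    have h1 : (ρ x0 - 1) * e = 0 := by rw [sub_mul, one_mul, hleft x0 hx0, sub_self]
    have h2 : (ρ x0 - 1) * ((Nat.card ↥B₁ : R) * κ 0) = 0 := by
      have h3 : (Nat.card ↥B₁ : R) * κ 0 = -(e * r) := eq_neg_of_add_eq_zero_left hmain2
      rw [h3, mul_neg, ← mul_assoc, h1, zero_mul, neg_zero]
    have h4 : (ρ x0 - 1) * (Nat.card ↥B₁ : R) = 0 := by
      have h5 : (ρ x0 - 1) * (Nat.card ↥B₁ : R) =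
          (ρ x0 - 1) * ((Nat.card ↥B₁ : R) * κ 0) * κ 0 := by
        rw [mul_assoc, mul_assoc, hκ0, mul_one]
      rw [h5, h2, zero_mul]
    have h6 : ρ x0 - 1 = 0 := by
      have h7 : ρ x0 - 1 = (ρ x0 - 1) * ((Nat.card ↥B₁ : R) * (s : R)) := by
        rw [hcs, mul_one]
      rw [h7, ← mul_assoc, h4, zero_mul]
    apply hinj
    rw [map_one]
    exact sub_eq_zero.mp h6
  intro b hb
  have h1 := hone _ ((hB₁def _).mpr ⟨b, hb, rfl⟩)
  calc γ * b = (b * γ * b⁻¹ * γ⁻¹)⁻¹ * (b * γ) := by group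
    _ = b * γ := by rw [h1, inv_one, one_mul]

/-- Module form: `Q` an elementary abelian `p`-group, `B` an abelian `p'`-group of automorphisms
normalized by `γ`, and `(γ - 1)^(p-1) = 0` on `Q` (written multiplicatively). Then `γ`
centralizes `B`. -/
theorem core_aut {Q : Type*} [Group Q] (hcomm : ∀ a b : Q, a * b = b * a) {p : ℕ}
    [hp : Fact p.Prime] (hexp : ∀ a : Q, a ^ p = 1) (B : Subgroup (MulAut Q)) [Finite B]
    (hBab : ∀ a ∈ B, ∀ b ∈ B, a * b = b * a) (hBcop : (Nat.card B).Coprime p) (γ : MulAut Q)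
    (hγN : ∀ b ∈ B, γ * b * γ⁻¹ ∈ B)
    (hnil : ∀ a : Q, (fun a => γ a * a⁻¹)^[p - 1] a = 1) : ∀ b ∈ B, γ * b = b * γ := by
  letI : CommGroup Q := { (inferInstance : Group Q) with mul_comm := hcomm }
  let ρ : MulAut Q →* AddMonoid.End (Additive Q) :=
    { toFun := fun f => MonoidHom.toAdditive f.toMonoidHom
      map_one' := rfl
      map_mul' := fun f g => rfl }
  have hρ : ∀ (f : MulAut Q) (m : Additive Q),
      ρ f m = Additive.ofMul (f (Additive.toMul m)) := fun f m => rfl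
  have hinj : Function.Injective ρ := by
    intro f g hfg
    ext a
    have h1 := hρ f (Additive.ofMul a)
    rw [hfg, hρ] at h1
    exact (Additive.ofMul.injective h1).symm
  have hchar : ((p : ℕ) : AddMonoid.End (Additive Q)) = 0 := by
    ext m
    rw [AddMonoid.End.natCast_apply]
    have h1 : p • m = Additive.ofMul ((Additive.toMul m) ^ p) := rfl
    rw [h1, hexp]
    rfl
  have hnil' : (ρ γ - 1) ^ (p - 1) = 0 := by
    have h1 : ∀ (k : ℕ) (m : Additive Q), ((ρ γ - 1) ^ k) m =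
        Additive.ofMul ((fun a => γ a * a⁻¹)^[k] (Additive.toMul m)) := by
      intro k
      induction k with
      | zero => intro m; simp
      | succ k ih =>
        intro m
        rw [pow_succ', Function.iterate_succ_apply']
        have h2 : ((ρ γ - 1) * (ρ γ - 1) ^ k) m = (ρ γ - 1) (((ρ γ - 1) ^ k) m) := rfl
        have h3 : ∀ x : Additive Q, (ρ γ - 1) x = ρ γ x - x := fun x => rfl
        rw [h2, ih, h3, hρ]
        have h4 : ∀ y z : Q, Additive.ofMul y - Additive.ofMul z = Additive.ofMul (y / z) :=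
          fun y z => rfl
        rw [h4, div_eq_mul_inv]
        rfl
    ext m
    rw [h1, hnil]
    rfl
  exact core_ring hchar ρ hinj B hBab hBcop γ hγN hnil'

/-- A nontrivial normal subgroup of a finite `p`-group contains a nontrivial central element. -/
theorem exists_central_of_normal' {P : Type*} [Group P] [Finite P] {p : ℕ} [hp : Fact p.Prime]
    (hP : IsPGroup p P) (N : Subgroup P) [hN : N.Normal] (hne : N ≠ ⊥) :
    ∃ z ∈ N, z ≠ 1 ∧ z ∈ Subgroup.center P := by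
  letI : MulAction P ↥N := MulAction.compHom ↥N (MulAut.conjNormal (H := N))
  have hsmul : ∀ (g : P) (n : ↥N), ((g • n : ↥N) : P) = g * n * g⁻¹ := fun g n => rfl
  have hdvd : p ∣ Nat.card ↥N := by
    obtain ⟨k, hk⟩ := IsPGroup.iff_card.mp (hP.to_subgroup N)
    rcases Nat.eq_zero_or_pos k with h0 | hpos
    · exfalso
      rw [h0, pow_zero] at hk
      exact hne ((Subgroup.card_eq_one).mp hk)
    · rw [hk]
      exact dvd_pow_self p hpos.ne'
  have h1 : (1 : ↥N) ∈ MulAction.fixedPoints P ↥N := by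
    intro g
    apply Subtype.ext
    rw [hsmul]
    simp
  obtain ⟨b, hb, hb1⟩ := hP.exists_fixed_point_of_prime_dvd_card_of_fixed_point ↥N hdvd h1
  refine ⟨(b : P), b.2, ?_, ?_⟩
  · intro h
    exact hb1 (Subtype.ext h.symm)
  · rw [Subgroup.mem_center_iff]
    intro g
    have h2 := congrArg Subtype.val (hb g)
    rw [hsmul] at h2
    calc g * (b : P) = (g * b * g⁻¹) * g := by group
      _ = b * g := by rw [h2]

end Cfsg.Agent.Lib.Helper14
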