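import Cfsg.Agent.Lib.Helper17.QuadFrat
import Cfsg.Agent.Lib.Helper14.Cores

set_option autoImplicit false
set_option maxHeartbeats 1000000
set_option linter.unusedVariables false
set_option linter.style.haveILetI false

/-!
Groups whose automizers `N(Q)/C(Q)` of `p`-subgroups have no section `SL(2, p)`: every section is
`p`-stable in the normalizer form.
-/

namespace Cfsg.Agent.Lib.Helper14.AutStable

open Cfsg.Agent.Lib.Helper17
open scoped commutatorElement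

universe u v w

/-- a quadratic element of the normalizer of a `p`-subgroup whose automizer does not involve
`SL(2, p)` has image in the `p`-core of the automizer -/
theorem core_aut {Y : Type u} [Group Y] [Finite Y] {p : ℕ} [hp : Fact p.Prime]
    (hp2 : p ≠ 2) (P : Subgroup Y) (hP : IsPGroup p P) (g : Y)
    (hg : g ∈ Subgroup.normalizer (P : Set Y))
    (hquad : ⁅⁅P, Subgroup.zpowers g⁆, Subgroup.zpowers g⁆ = ⊥)
    (hnoX : ¬ Cfsg.Involves (Matrix.SpecialLinearGroup (Fin 2) (ZMod p))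
      (↥(Subgroup.normalizer (P : Set Y)) ⧸
        (Subgroup.centralizer (P : Set Y)).subgroupOf (Subgroup.normalizer (P : Set Y)))) :
    (QuotientGroup.mk (s := (Subgroup.centralizer (P : Set Y)).subgroupOf
        (Subgroup.normalizer (P : Set Y)))
      (⟨g, hg⟩ : ↥(Subgroup.normalizer (P : Set Y)))) ∈
      Cfsg.pCore p (↥(Subgroup.normalizer (P : Set Y)) ⧸
        (Subgroup.centralizer (P : Set Y)).subgroupOf (Subgroup.normalizer (P : Set Y))) := by
  classical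
  have hker : P.normalizerMonoidHom.ker =
      (Subgroup.centralizer (P : Set Y)).subgroupOf (Subgroup.normalizer (P : Set Y)) :=
    Subgroup.normalizerMonoidHom_ker P
  obtain ⟨φ, hφ⟩ : ∃ φ : (↥(Subgroup.normalizer (P : Set Y)) ⧸
      (Subgroup.centralizer (P : Set Y)).subgroupOf (Subgroup.normalizer (P : Set Y))) →*
      MulAut ↥P, ∀ (h : ↥(Subgroup.normalizer (P : Set Y))),
        φ (QuotientGroup.mk h) = P.normalizerMonoidHom h :=
    ⟨QuotientGroup.lift _ P.normalizerMonoidHom (by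
      intro x hx
      rw [← hker] at hx
      exact hx), fun _ => rfl⟩
  have hφinj : Function.Injective φ := by
    rw [injective_iff_map_eq_one]
    intro x hx
    obtain ⟨h, rfl⟩ := QuotientGroup.mk_surjective x
    rw [hφ] at hx
    have h1 : h ∈ P.normalizerMonoidHom.ker := hx
    rw [hker] at h1
    exact (QuotientGroup.eq_one_iff _).mpr h1
  have hq : ∀ v : ↥P, φ (QuotientGroup.mk ⟨g, hg⟩) (φ (QuotientGroup.mk ⟨g, hg⟩) v * v⁻¹) =
      φ (QuotientGroup.mk ⟨g, hg⟩) v * v⁻¹ := by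
    intro v
    rw [hφ]
    apply Subtype.ext
    show g * ((P.normalizerMonoidHom ⟨g, hg⟩ v * v⁻¹ : ↥P) : Y) * g⁻¹ = _
    rw [Subgroup.coe_mul, Subgroup.coe_inv]
    show g * (g * (v : Y) * g⁻¹ * (v : Y)⁻¹) * g⁻¹ = g * (v : Y) * g⁻¹ * (v : Y)⁻¹
    exact quad_elem_of_comm P g hquad v v.2
  obtain ⟨N, hNn, haN, hN⟩ := quad_na p hp2 hnoX (QuotientGroup.mk ⟨g, hg⟩) _ ↥P rfl hP φ hq
  have hNp : IsPGroup p N := by
    rintro ⟨x, hx⟩
    obtain ⟨k, hk⟩ := hN x hx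
    refine ⟨k, Subtype.ext ?_⟩
    rw [Subgroup.coe_pow, Subgroup.coe_one]
    apply hφinj
    rw [map_pow, hk, map_one]
  exact Cfsg.Agent.Lib.Helper14.le_pCore p hNn hNp haN

/-- a section of an automizer of a `p`-subgroup of a section of `G` lifts to a section of an
automizer of a `p`-subgroup of `G` -/
theorem aut_lift {G : Type u} [Group G] [Finite G] {p : ℕ} [hp : Fact p.Prime]
    {S : Type w} [Group S]
    (K : Subgroup G) {Y : Type v} [Group Y] (π : ↥K →* Y) (hπ : Function.Surjective π)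
    (Pb : Subgroup Y) (hPb : IsPGroup p Pb)
    (hI : Cfsg.Involves S (↥(Subgroup.normalizer (Pb : Set Y)) ⧸
        (Subgroup.centralizer (Pb : Set Y)).subgroupOf (Subgroup.normalizer (Pb : Set Y)))) :
    ∃ Q : Subgroup G, IsPGroup p Q ∧
      Cfsg.Involves S (↥(Subgroup.normalizer (Q : Set G)) ⧸
        (Subgroup.centralizer (Q : Set G)).subgroupOf (Subgroup.normalizer (Q : Set G))) := by
  classical
  obtain ⟨P₀, hP₀p, hmap, hlift⟩ := frattini_lift π hπ p Pb hPb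
  obtain ⟨f₁, hf₁⟩ : ∃ f₁ : ↥(Subgroup.normalizer (P₀ : Set ↥K)) →*
      ↥(Subgroup.normalizer (Pb : Set Y)),
      ∀ z, ((f₁ z : ↥(Subgroup.normalizer (Pb : Set Y))) : Y) = π (z : ↥K) := by
    refine ⟨(π.comp (Subgroup.normalizer (P₀ : Set ↥K)).subtype).codRestrict _ ?_, fun z => rfl⟩
    intro z
    have h0 := Subgroup.le_normalizer_map π (H := P₀) ⟨(z : ↥K), z.2, rfl⟩
    rw [hmap] at h0
    exact h0
  have hf₁s : Function.Surjective f₁ := by
    rintro ⟨nb, hnb⟩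
    obtain ⟨n, hn, hnn⟩ := hlift nb hnb
    exact ⟨⟨n, hn⟩, Subtype.ext (by rw [hf₁, hnn])⟩
  obtain ⟨f₂, hf₂⟩ : ∃ f₂ : ↥(Subgroup.normalizer (P₀ : Set ↥K)) →*
      ↥(Subgroup.normalizer ((P₀.map K.subtype : Subgroup G) : Set G)),
      ∀ z, ((f₂ z : ↥(Subgroup.normalizer ((P₀.map K.subtype : Subgroup G) : Set G))) : G)
        = ((z : ↥K) : G) := by
    refine ⟨(K.subtype.comp (Subgroup.normalizer (P₀ : Set ↥K)).subtype).codRestrict _ ?_,
      fun z => rfl⟩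
    intro z
    exact Subgroup.le_normalizer_map K.subtype (H := P₀) ⟨(z : ↥K), z.2, rfl⟩
  -- the induced maps on automizers
  have hle₁ : (Subgroup.centralizer (P₀ : Set ↥K)).subgroupOf (Subgroup.normalizer (P₀ : Set ↥K)) ≤
      ((Subgroup.centralizer (Pb : Set Y)).subgroupOf (Subgroup.normalizer (Pb : Set Y))).comap f₁ := by
    intro z hz
    rw [Subgroup.mem_comap, Subgroup.mem_subgroupOf, hf₁, Subgroup.mem_centralizer_iff]
    rw [Subgroup.mem_subgroupOf, Subgroup.mem_centralizer_iff] at hz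
    intro y hy
    rw [← hmap] at hy
    obtain ⟨x, hx, rfl⟩ := hy
    rw [← map_mul, ← map_mul, hz x hx]
  have hle₂ : (Subgroup.centralizer (P₀ : Set ↥K)).subgroupOf (Subgroup.normalizer (P₀ : Set ↥K)) ≤
      ((Subgroup.centralizer ((P₀.map K.subtype : Subgroup G) : Set G)).subgroupOf
        (Subgroup.normalizer ((P₀.map K.subtype : Subgroup G) : Set G))).comap f₂ := by
    intro z hz
    rw [Subgroup.mem_comap, Subgroup.mem_subgroupOf, hf₂, Subgroup.mem_centralizer_iff]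
    rw [Subgroup.mem_subgroupOf, Subgroup.mem_centralizer_iff] at hz
    rintro _ ⟨x, hx, rfl⟩
    have h1 := hz x hx
    have h2 := congrArg (Subtype.val) h1
    simpa using h2
  obtain ⟨F₁, hF₁⟩ : ∃ F₁ : (↥(Subgroup.normalizer (P₀ : Set ↥K)) ⧸
      (Subgroup.centralizer (P₀ : Set ↥K)).subgroupOf (Subgroup.normalizer (P₀ : Set ↥K))) →*
      (↥(Subgroup.normalizer (Pb : Set Y)) ⧸
        (Subgroup.centralizer (Pb : Set Y)).subgroupOf (Subgroup.normalizer (Pb : Set Y))),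
      ∀ z, F₁ (QuotientGroup.mk z) = QuotientGroup.mk (f₁ z) :=
    ⟨QuotientGroup.map _ _ f₁ hle₁, fun _ => rfl⟩
  obtain ⟨F₂, hF₂⟩ : ∃ F₂ : (↥(Subgroup.normalizer (P₀ : Set ↥K)) ⧸
      (Subgroup.centralizer (P₀ : Set ↥K)).subgroupOf (Subgroup.normalizer (P₀ : Set ↥K))) →*
      (↥(Subgroup.normalizer ((P₀.map K.subtype : Subgroup G) : Set G)) ⧸
        (Subgroup.centralizer ((P₀.map K.subtype : Subgroup G) : Set G)).subgroupOf
          (Subgroup.normalizer ((P₀.map K.subtype : Subgroup G) : Set G))),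
      ∀ z, F₂ (QuotientGroup.mk z) = QuotientGroup.mk (f₂ z) :=
    ⟨QuotientGroup.map _ _ f₂ hle₂, fun _ => rfl⟩
  have hF₁s : Function.Surjective F₁ := by
    intro y
    obtain ⟨y', rfl⟩ := QuotientGroup.mk_surjective y
    obtain ⟨z, rfl⟩ := hf₁s y'
    exact ⟨QuotientGroup.mk z, hF₁ z⟩
  have hF₂i : Function.Injective F₂ := by
    rw [injective_iff_map_eq_one]
    intro x hx
    obtain ⟨z, rfl⟩ := QuotientGroup.mk_surjective x
    rw [hF₂] at hx
    have h1 := (QuotientGroup.eq_one_iff _).mp hx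
    rw [Subgroup.mem_subgroupOf, hf₂, Subgroup.mem_centralizer_iff] at h1
    apply (QuotientGroup.eq_one_iff _).mpr
    rw [Subgroup.mem_subgroupOf, Subgroup.mem_centralizer_iff]
    intro x hx
    have h2 := h1 (x : G) ⟨x, hx, rfl⟩
    exact Subtype.ext h2
  refine ⟨P₀.map K.subtype, hP₀p.map _, ?_⟩
  exact involves_of_injective_hom F₂ hF₂i (involves_of_surjective_hom F₁ hF₁s hI)

/-- a section of `N/C` pulls back to a section `H/K` of `N` with `C ≤ K` -/
theorem sec_lift {G : Type u} [Group G] {S : Type w} [Group S] (N C : Subgroup G)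
    [hC : (C.subgroupOf N).Normal] (hCN : C ≤ N)
    (h : Cfsg.Involves S (↥N ⧸ C.subgroupOf N)) :
    ∃ (H K : Subgroup G) (_ : (K.subgroupOf H).Normal), C ≤ K ∧ K ≤ H ∧ H ≤ N ∧
      Nonempty ((↥H ⧸ K.subgroupOf H) ≃* S) := by
  obtain ⟨K₀, φ, hφ⟩ := exists_hom_of_involves h
  obtain ⟨H', hH'⟩ : ∃ H' : Subgroup ↥N, H' = K₀.comap (QuotientGroup.mk' (C.subgroupOf N)) :=
    ⟨_, rfl⟩
  obtain ⟨ψ, hψ⟩ : ∃ ψ : ↥H' →* S, ∀ (x : ↥N) (hx : x ∈ H'),
      ψ ⟨x, hx⟩ = φ ⟨QuotientGroup.mk x, by rw [hH'] at hx; exact hx⟩ := by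
    subst hH'
    exact ⟨φ.comp ((QuotientGroup.mk' (C.subgroupOf N)).subgroupComap K₀), fun _ _ => rfl⟩
  have hψs : Function.Surjective ψ := by
    intro s
    obtain ⟨⟨k, hk⟩, rfl⟩ := hφ s
    obtain ⟨x, rfl⟩ := QuotientGroup.mk_surjective k
    have hx : x ∈ H' := by rw [hH']; exact hk
    exact ⟨⟨x, hx⟩, hψ x hx⟩
  obtain ⟨H, hH⟩ : ∃ H : Subgroup G, H = H'.map N.subtype := ⟨_, rfl⟩
  have hHN : H ≤ N := by rw [hH]; exact Subgroup.map_subtype_le _
  have hmemH : ∀ (x : G) (hx : x ∈ H), (⟨x, hHN hx⟩ : ↥N) ∈ H' := by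
    intro x hx
    rw [hH] at hx
    obtain ⟨y, hy, hyx⟩ := hx
    have : y = ⟨x, hHN (by rw [hH]; exact ⟨y, hy, hyx⟩)⟩ := Subtype.ext hyx
    rw [← this]
    exact hy
  obtain ⟨ψ', hψ'⟩ : ∃ ψ' : ↥H →* S, ∀ (x : G) (hx : x ∈ H),
      ψ' ⟨x, hx⟩ = ψ ⟨⟨x, hHN hx⟩, hmemH x hx⟩ := by
    refine ⟨MonoidHom.mk' (fun x : ↥H => ψ ⟨⟨x.1, hHN x.2⟩, hmemH x.1 x.2⟩) ?_, fun _ _ => rfl⟩
    intro a b
    rw [← map_mul]
    rfl
  have hψ's : Function.Surjective ψ' := by
    intro s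
    obtain ⟨⟨x, hx⟩, rfl⟩ := hψs s
    have hxH : (x : G) ∈ H := by rw [hH]; exact ⟨x, hx, rfl⟩
    exact ⟨⟨(x : G), hxH⟩, hψ' _ hxH⟩
  have hR : (ψ'.ker.map H.subtype).subgroupOf H = ψ'.ker :=
    Subgroup.comap_map_eq_self_of_injective H.subtype_injective _
  have key : ∀ (R' : Subgroup ↥H), R' = ψ'.ker →
      ∃ (_ : R'.Normal), Nonempty (↥H ⧸ R' ≃* S) := by
    intro R' h
    subst h
    exact ⟨inferInstance, ⟨QuotientGroup.quotientKerEquivOfSurjective ψ' hψ's⟩⟩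
  obtain ⟨hn, hne⟩ := key _ hR
  refine ⟨H, ψ'.ker.map H.subtype, hn, ?_, Subgroup.map_subtype_le _, hHN, hne⟩
  intro c hc
  have hcN : c ∈ N := hCN hc
  have hcH' : (⟨c, hcN⟩ : ↥N) ∈ H' := by
    rw [hH', Subgroup.mem_comap]
    have : QuotientGroup.mk' (C.subgroupOf N) ⟨c, hcN⟩ = 1 := by
      apply (QuotientGroup.eq_one_iff _).mpr
      exact Subgroup.mem_subgroupOf.mpr hc
    rw [this]
    exact one_mem _
  have hcH : c ∈ H := by rw [hH]; exact ⟨⟨c, hcN⟩, hcH', rfl⟩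
  refine ⟨⟨c, hcH⟩, ?_, rfl⟩
  show (⟨c, hcH⟩ : ↥H) ∈ ψ'.ker
  rw [MonoidHom.mem_ker, hψ' c hcH, hψ _ (hmemH c hcH)]
  have h1 : (⟨QuotientGroup.mk (⟨c, hHN hcH⟩ : ↥N), by
      have := hmemH c hcH; rw [hH'] at this; exact this⟩ : ↥K₀) = 1 := by
    apply Subtype.ext
    apply (QuotientGroup.eq_one_iff _).mpr
    exact Subgroup.mem_subgroupOf.mpr hc
  rw [h1, map_one]

/-- if no automizer of a `p`-subgroup of `G` has a section `SL(2, p)` (`p` odd), every section of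
`G` is `p`-stable in the normalizer form -/
theorem sections_stable_of_aut_free {G : Type u} [Group G] [Finite G] {p : ℕ} [Fact p.Prime]
    (hp2 : p ≠ 2)
    (hfree : ∀ Q : Subgroup G, IsPGroup p ↥Q →
      ¬ ∃ (H K : Subgroup G) (_ : (K.subgroupOf H).Normal),
        Subgroup.centralizer (Q : Set G) ≤ K ∧ K ≤ H ∧ H ≤ Subgroup.normalizer (Q : Set G) ∧
        Nonempty ((↥H ⧸ K.subgroupOf H) ≃* Matrix.SpecialLinearGroup (Fin 2) (ZMod p)))
    (K R : Subgroup G) [hR : (R.subgroupOf K).Normal] :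
    Cfsg.IsNormalizerPStable p (↥K ⧸ R.subgroupOf K) := by
  intro Pb hPb g hg hquad
  apply core_aut hp2 Pb hPb g hg hquad
  intro hI
  obtain ⟨Q, hQ, hI'⟩ := aut_lift K (QuotientGroup.mk' (R.subgroupOf K))
    (QuotientGroup.mk'_surjective _) Pb hPb hI
  obtain ⟨H, K', hn, h1, h2, h3, h4⟩ := sec_lift (Subgroup.normalizer (Q : Set G))
    (Subgroup.centralizer (Q : Set G)) (Subgroup.centralizer_le_normalizer _) hI'
  exact hfree Q hQ ⟨H, K', hn, h1, h2, h3, h4⟩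

end Cfsg.Agent.Lib.Helper14.AutStable
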