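import Mathlib

set_option autoImplicit false

namespace Cfsg.Agent.Lib.Helper14

universe u

variable {G : Type u} [Group G]

/-- For a normal subgroup `K` meeting `H` trivially, `|HK| = |H| |K|`. -/
theorem card_sup_eq_mul_of_inf_eq_bot [Finite G] (H K : Subgroup G) [K.Normal]
    (h : H ⊓ K = ⊥) : Nat.card ↥(H ⊔ K) = Nat.card H * Nat.card K := by
  have h1 : K.relIndex (H ⊔ K) * Nat.card K = Nat.card ↥(H ⊔ K) := by
    rw [mul_comm]
    have := Subgroup.card_mul_index (K.subgroupOf (H ⊔ K))
    rw [Nat.card_congr (Subgroup.subgroupOfEquivOfLe (le_sup_right : K ≤ H ⊔ K)).toEquiv] at this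
    exact this
  rw [← h1, Subgroup.relIndex_sup_right, ← Subgroup.inf_relIndex_right, inf_comm, h,
    Subgroup.relIndex_bot_left]

/-- First isomorphism theorem, counting form. -/
theorem card_ker_mul_card_range [Finite G] {H : Type*} [Group H] (f : G →* H) :
    Nat.card f.ker * Nat.card f.range = Nat.card G := by
  rw [← Subgroup.index_ker]
  exact Subgroup.card_mul_index _

end Cfsg.Agent.Lib.Helper14
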