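import Cfsg.Agent.Lib.Helper14.ChainStab
import Cfsg.Agent.Lib.Helper14.Cores

set_option autoImplicit false
set_option linter.unusedVariables false

/-!
A Frattini end-game: an element of a Sylow `p`-subgroup that acts nontrivially on a normal
subgroup `V` but lies in a normal subgroup `R` with `R / C(V)` a `p`-group forces the elements
centralized by all proper overgroups of the Sylow subgroup to be central.
-/

namespace Cfsg.Agent.Lib.Helper14.EndGame

open Cfsg Cfsg.Agent.Lib.Helper14

universe u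

theorem central_of_mem_normal_pgroup_mod {X : Type u} [Group X] [Finite X] {p : ℕ}
    [Fact p.Prime] (T : Sylow p X) (V : Subgroup X) [V.Normal]
    (hQV : pCore p X ≤ Subgroup.centralizer (V : Set X))
    (R : Subgroup X) [hRn : R.Normal] (hCR : Subgroup.centralizer (V : Set X) ≤ R)
    (hRp : ∃ m : ℕ, (Subgroup.centralizer (V : Set X)).relIndex R = p ^ m)
    (a : X) (haT : a ∈ (T : Subgroup X)) (haR : a ∈ R)
    (haV : a ∉ Subgroup.centralizer (V : Set X))
    (x : X) (hxV : x ∈ V) (hxT : ∀ s ∈ (T : Subgroup X), s * x = x * s)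
    (hmax : ∀ K : Subgroup X, (T : Subgroup X) ≤ K → K ≠ ⊤ → ∀ k ∈ K, k * x = x * k) :
    ∀ y : X, y * x = x * y := by
  classical
  obtain ⟨C, hC⟩ : ∃ C : Subgroup X, C = Subgroup.centralizer (V : Set X) := ⟨_, rfl⟩
  rw [← hC] at hQV hCR hRp haV
  have hTp : IsPGroup p (T : Subgroup X) := T.isPGroup'
  have hfn : ¬ p ∣ ((T : Subgroup X) ⊓ ⊤).relIndex ⊤ := by
    rw [inf_top_eq, Subgroup.relIndex_top_right]
    exact T.not_dvd_index
  obtain ⟨hDidx, hfr⟩ := frattini_normal (S := (T : Subgroup X)) (Nn := ⊤) (Sg := R) hTp hfn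
    le_top (fun n _ r hr => hRn.conj_mem r hr n)
  have hTN : (T : Subgroup X) ≤
      Subgroup.normalizer (((T : Subgroup X) ⊓ R : Subgroup X) : Set X) := by
    intro t ht
    rw [Subgroup.mem_normalizer_iff]
    intro z
    constructor
    · intro hz
      exact Subgroup.mem_inf.mpr ⟨mul_mem (mul_mem ht (Subgroup.mem_inf.mp hz).1) (inv_mem ht),
        hRn.conj_mem z (Subgroup.mem_inf.mp hz).2 t⟩
    · intro hz
      have h1 : z = t⁻¹ * (t * z * t⁻¹) * t⁻¹⁻¹ := by group
      rw [h1]
      exact Subgroup.mem_inf.mpr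
        ⟨mul_mem (mul_mem (inv_mem ht) (Subgroup.mem_inf.mp hz).1) (inv_mem (inv_mem ht)),
          hRn.conj_mem _ (Subgroup.mem_inf.mp hz).2 t⁻¹⟩
  have hNne : Subgroup.normalizer (((T : Subgroup X) ⊓ R : Subgroup X) : Set X) ≠ ⊤ := by
    intro htop
    have hn : ((T : Subgroup X) ⊓ R).Normal := Subgroup.normalizer_eq_top_iff.mp htop
    have hle : (T : Subgroup X) ⊓ R ≤ pCore p X := le_pCore p hn (hTp.to_le inf_le_left)
    exact haV (hQV (hle (Subgroup.mem_inf.mpr ⟨haT, haR⟩)))
  have hNx := hmax _ hTN hNne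
  have hsup : R ≤ C ⊔ ((T : Subgroup X) ⊓ R) := by
    rw [← Subgroup.relIndex_eq_one]
    have h1 : (C ⊔ ((T : Subgroup X) ⊓ R)).relIndex R ∣ C.relIndex R :=
      Subgroup.relIndex_dvd_of_le_left R le_sup_left
    have h2 : (C ⊔ ((T : Subgroup X) ⊓ R)).relIndex R ∣ ((T : Subgroup X) ⊓ R).relIndex R :=
      Subgroup.relIndex_dvd_of_le_left R le_sup_right
    obtain ⟨m, hm⟩ := hRp
    rw [hm] at h1
    obtain ⟨j, hj, hj'⟩ := (Nat.dvd_prime_pow Fact.out).mp h1
    rcases Nat.eq_zero_or_pos j with h0 | hpos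
    · rw [hj', h0, pow_zero]
    · exfalso
      apply hDidx
      refine dvd_trans ?_ h2
      rw [hj']
      exact dvd_pow_self p (by omega)
  have hCle : C ≤ Subgroup.centralizer ({x} : Set X) := by
    intro c hc
    rw [Subgroup.mem_centralizer_iff]
    intro z hz
    rw [Set.mem_singleton_iff] at hz
    rw [hz]
    rw [hC] at hc
    exact Subgroup.mem_centralizer_iff.mp hc x hxV
  have hDle : (T : Subgroup X) ⊓ R ≤ Subgroup.centralizer ({x} : Set X) := by
    intro d hd
    rw [Subgroup.mem_centralizer_iff]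
    intro z hz
    rw [Set.mem_singleton_iff] at hz
    rw [hz]
    exact (hxT d (Subgroup.mem_inf.mp hd).1).symm
  have hRx : ∀ r ∈ R, r * x = x * r := by
    intro r hr
    have h1 := (sup_le hCle hDle) (hsup hr)
    rw [Subgroup.mem_centralizer_iff] at h1
    exact (h1 x (Set.mem_singleton x)).symm
  intro y
  obtain ⟨k, hkR, hky⟩ := hfr y (Subgroup.mem_top y)
  have h1 := hNx (k * y) hky
  have h2 := hRx k hkR
  have h3 : k * (y * x) = k * (x * y) := by
    calc k * (y * x) = k * y * x := by group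
      _ = x * (k * y) := h1
      _ = x * k * y := by group
      _ = k * x * y := by rw [h2]
      _ = k * (x * y) := by group
  exact mul_left_cancel h3

/-- Quotient form: `a ∈ T` acts nontrivially on `V` but its image lies in `O_p(X / C_X(V))`. -/
theorem central_of_mk_mem_pCore {X : Type u} [Group X] [Finite X] {p : ℕ}
    [Fact p.Prime] (T : Sylow p X) (V : Subgroup X) [V.Normal]
    (hQV : pCore p X ≤ Subgroup.centralizer (V : Set X))
    (C : Subgroup X) [hCn : C.Normal] (hC : C = Subgroup.centralizer (V : Set X))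
    (a : X) (haT : a ∈ (T : Subgroup X))
    (ha : (QuotientGroup.mk a : X ⧸ C) ∈ pCore p (X ⧸ C))
    (haV : a ∉ Subgroup.centralizer (V : Set X))
    (x : X) (hxV : x ∈ V) (hxT : ∀ s ∈ (T : Subgroup X), s * x = x * s)
    (hmax : ∀ K : Subgroup X, (T : Subgroup X) ≤ K → K ≠ ⊤ → ∀ k ∈ K, k * x = x * k) :
    ∀ y : X, y * x = x * y := by
  classical
  obtain ⟨R, hR⟩ : ∃ R : Subgroup X, R = (pCore p (X ⧸ C)).comap (QuotientGroup.mk' C) :=
    ⟨_, rfl⟩
  have hQn : (pCore p (X ⧸ C)).Normal := inferInstance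
  have hRn : R.Normal := by
    rw [hR]
    exact hQn.comap _
  have hCR : C ≤ R := by
    intro c hc
    rw [hR, Subgroup.mem_comap, QuotientGroup.mk'_apply, (QuotientGroup.eq_one_iff c).mpr hc]
    exact one_mem _
  have hRp : ∃ m : ℕ, C.relIndex R = p ^ m := by
    have hCk : C = (⊥ : Subgroup (X ⧸ C)).comap (QuotientGroup.mk' C) := by
      rw [MonoidHom.comap_bot, QuotientGroup.ker_mk']
    have hmap : R.map (QuotientGroup.mk' C) = pCore p (X ⧸ C) := by
      rw [hR]
      exact Subgroup.map_comap_eq_self_of_surjective (QuotientGroup.mk'_surjective C) _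
    have h1 : C.relIndex R = Nat.card (pCore p (X ⧸ C)) := by
      conv_lhs => rw [hCk]
      rw [Subgroup.relIndex_comap, hmap, Subgroup.relIndex_bot_left]
    rw [h1]
    exact IsPGroup.iff_card.mp (pCore_isPGroup (G := X ⧸ C) p)
  have haR : a ∈ R := by
    rw [hR, Subgroup.mem_comap]
    exact ha
  rw [← hC] at hQV haV
  refine central_of_mem_normal_pgroup_mod T V (by rw [← hC]; exact hQV) R
    (by rw [← hC]; exact hCR) (by rw [← hC]; exact hRp) a haT haR (by rw [← hC]; exact haV)
    x hxV hxT hmax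

end Cfsg.Agent.Lib.Helper14.EndGame
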