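import Cfsg.Agent.Lib.Helper14.WClosure6
import Cfsg.Agent.Lib.Helper17.ThA1

set_option autoImplicit false

/-!
Reduction of weak closure (with respect to the Thompson subgroup generated by the abelian subgroups
of largest order) to a statement about one minimal group.
-/

namespace Cfsg.Agent.Lib.Helper14.GlaubJ2

open Cfsg Cfsg.Agent.Lib.Helper14

open scoped commutatorElement

universe u

theorem center_le_J {G : Type u} [Group G] [Finite G] (P : Subgroup G) :
    P ⊓ Subgroup.centralizer (P : Set G) ≤ thompsonSubgroupAOf P := by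
  intro z hz
  obtain ⟨A, hA⟩ := Cfsg.Agent.Lib.Helper17.maxAb_nonempty P
  apply Cfsg.Agent.Lib.Helper17.le_thompsonSubgroupAOf hA
  have hA' := Cfsg.Agent.Lib.Helper17.subgroupOf_mem_maxAbelian P hA
  have hcent := Cfsg.Agent.Lib.Helper19.maxAbelian_centralizer_eq hA'
  have hz' : (⟨z, hz.1⟩ : ↥P) ∈
      Subgroup.centralizer ((A.subgroupOf P : Subgroup ↥P) : Set ↥P) := by
    rw [Subgroup.mem_centralizer_iff]
    intro a _
    exact Subtype.ext (Subgroup.mem_centralizer_iff.mp hz.2 a a.2)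
  rw [hcent] at hz'
  exact Subgroup.mem_subgroupOf.mp hz'

theorem isConjJ {G : Type u} [Group G] [Finite G] (p : ℕ) :
    IsConjugacyFunctor p (thompsonSubgroupAOf : Subgroup G → Subgroup G) := by
  intro P _
  refine ⟨Cfsg.Agent.Lib.Helper17.thompsonSubgroupAOf_le P,
    fun h => Cfsg.Agent.Lib.Helper17.thompsonSubgroupAOf_ne_bot h, fun g => ?_⟩
  exact Cfsg.Agent.Lib.Helper17.thompsonSubgroupAOf_eq_of_eq_map (MulAut.conj g).toMonoidHom
    (MulAut.conj g).injective P _ rfl

/-- Relative form: if the minimal situation is settled (hypothesis `hX`), an element of a Sylow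
`p`-subgroup `T` of `H` that is central in `T` and fixed by `N_H(J(T))` is weakly closed in `T`
with respect to `H`. -/
theorem mainJ_of_local {G : Type u} [Group G] [Finite G] {p : ℕ} [Fact p.Prime]
    (hX : ∀ (H : Subgroup G) (T : Sylow p ↥H),
      ¬ (thompsonSubgroupAOf (T : Subgroup ↥H)).Normal → ∀ x' : ↥H, x' ∈ pCore p ↥H →
      (∀ s ∈ (T : Subgroup ↥H), s * x' = x' * s) →
      (∀ K : Subgroup ↥H, (T : Subgroup ↥H) ≤ K → K ≠ ⊤ → ∀ k ∈ K, k * x' = x' * k) →
      ∀ y : ↥H, y * x' = x' * y)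
    (H T : Subgroup G) (B : Set G) (hTH : T ≤ H) (hTp : IsPGroup p T)
    (hidx : ¬ p ∣ T.relIndex H)
    (hΦ : ∃ x, B = {x} ∧ x ∈ T ∧ x ∈ Subgroup.centralizer (T : Set G))
    (hBN : ∀ n ∈ H ⊓ Subgroup.normalizer ((thompsonSubgroupAOf T : Subgroup G) : Set G),
      conjR n B = B)
    (h : G) (hh : h ∈ H) (hhT : conjR h B ⊆ (T : Set G)) : conjR h B = B := by
  refine weakClosure_induction (thompsonSubgroupAOf : Subgroup G → Subgroup G) (isConjJ p)
    (fun P _ => center_le_J P)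
    (fun T B => ∃ x, B = {x} ∧ x ∈ T ∧ x ∈ Subgroup.centralizer (T : Set G)) ?_ ?_ ?_
    (Nat.card H) H T B rfl hTH hTp hidx hΦ hBN h hh hhT
  · rintro T B ⟨x, rfl, hxT, hxC⟩
    constructor
    · intro b hb
      rw [Set.mem_singleton_iff] at hb
      rw [hb]
      exact hxT
    · intro b hb
      rw [Set.mem_singleton_iff] at hb
      rw [hb]
      exact hxC
  · rintro T Q B ⟨x, rfl, hxT, hxC⟩ hQT hBQ
    have hxQ : x ∈ Q := hBQ (Set.mem_singleton x)
    exact ⟨x, rfl, Subgroup.mem_inf.mpr ⟨hxT, Subgroup.le_normalizer hxQ⟩,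
      Subgroup.centralizer_le (SetLike.coe_subset_coe.mpr inf_le_left) hxC⟩
  · intro H T B hTH hTp hidx hΦ hQ hBN hK h hh
    obtain ⟨x, rfl, hxT, hxC⟩ := hΦ
    obtain ⟨Q, hQT, hBQ, hHQ⟩ := hQ
    obtain ⟨S', hS', hBQ', hmax'⟩ := min_transport H T hTH hTp hidx {x} Q hQT hBQ hHQ hK
    have hmemS' : ∀ s : ↥H, s ∈ (S' : Subgroup ↥H) ↔ (s : G) ∈ T := by
      intro s
      rw [hS']
      exact Subgroup.mem_subgroupOf
    have hxB' : (⟨x, hTH hxT⟩ : ↥H) ∈ H.subtype ⁻¹' ({x} : Set G) := Set.mem_singleton x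
    have hxS' : ∀ s ∈ (S' : Subgroup ↥H), s * (⟨x, hTH hxT⟩ : ↥H) = ⟨x, hTH hxT⟩ * s := by
      intro s hs
      exact Subtype.ext (Subgroup.mem_centralizer_iff.mp hxC (s : G) ((hmemS' s).mp hs))
    have hmax'' : ∀ K' : Subgroup ↥H, (S' : Subgroup ↥H) ≤ K' → K' ≠ ⊤ →
        ∀ k ∈ K', k * (⟨x, hTH hxT⟩ : ↥H) = ⟨x, hTH hxT⟩ * k := by
      intro K' hSK' hK' k hk
      have h1 := hmax' K' hSK' hK' k hk
      have h2 : (⟨x, hTH hxT⟩ : ↥H) ∈ conjR k (H.subtype ⁻¹' ({x} : Set G)) := by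
        rw [h1]
        exact hxB'
      rw [mem_conjR_iff] at h2
      have h3 : k * (⟨x, hTH hxT⟩ : ↥H) * k⁻¹ = ⟨x, hTH hxT⟩ := Subtype.ext h2
      calc k * (⟨x, hTH hxT⟩ : ↥H) = (k * (⟨x, hTH hxT⟩ : ↥H) * k⁻¹) * k := by group
        _ = ⟨x, hTH hxT⟩ * k := by rw [h3]
    have hJT : thompsonSubgroupAOf T =
        (thompsonSubgroupAOf (S' : Subgroup ↥H)).map H.subtype := by
      apply Cfsg.Agent.Lib.Helper17.thompsonSubgroupAOf_eq_of_eq_map H.subtype
        (Subgroup.subtype_injective H)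
      rw [hS', Subgroup.subgroupOf_map_subtype, inf_of_le_left hTH]
    have hJ' : ∀ n ∈ Subgroup.normalizer
        ((thompsonSubgroupAOf (S' : Subgroup ↥H) : Subgroup ↥H) : Set ↥H),
        n * (⟨x, hTH hxT⟩ : ↥H) = ⟨x, hTH hxT⟩ * n := by
      intro n hn
      have hnG : (n : G) ∈
          Subgroup.normalizer ((thompsonSubgroupAOf T : Subgroup G) : Set G) := by
        have hle : thompsonSubgroupAOf T ≤ H :=
          (Cfsg.Agent.Lib.Helper17.thompsonSubgroupAOf_le T).trans hTH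
        rw [← mem_normalizer_subgroupOf_iff hle n]
        have e : (thompsonSubgroupAOf T).subgroupOf H =
            thompsonSubgroupAOf (S' : Subgroup ↥H) := by
          rw [hJT]
          exact Subgroup.comap_map_eq_self_of_injective (Subgroup.subtype_injective H) _
        rw [e]
        exact hn
      have h1 := hBN (n : G) (Subgroup.mem_inf.mpr ⟨n.2, hnG⟩)
      have h2 : x ∈ conjR (n : G) ({x} : Set G) := by
        rw [h1]
        exact Set.mem_singleton x
      rw [mem_conjR_iff, Set.mem_singleton_iff] at h2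
      apply Subtype.ext
      show (n : G) * x = x * (n : G)
      calc (n : G) * x = ((n : G) * x * (n : G)⁻¹) * (n : G) := by group
        _ = x * (n : G) := by rw [h2]
    have hres : ∀ y : ↥H, y * (⟨x, hTH hxT⟩ : ↥H) = ⟨x, hTH hxT⟩ * y := by
      by_cases hn : (thompsonSubgroupAOf (S' : Subgroup ↥H)).Normal
      · intro y
        refine hJ' y ?_
        rw [Subgroup.normalizer_eq_top]
        exact Subgroup.mem_top y
      · exact hX H S' hn ⟨x, hTH hxT⟩ (hBQ' hxB') hxS' hmax''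
    apply conjR_eq_self_of_commute
    intro b hb
    rw [Set.mem_singleton_iff] at hb
    rw [hb]
    exact congrArg Subtype.val (hres ⟨h, hh⟩)


/-- Weak closure from the minimal situation: `x ∈ Z(S)` centralized by `N_G(J(S))` is weakly closed
in `S` with respect to `G`, provided that in every subgroup `H` with Sylow `p`-subgroup `T` such
that `J(T)` is not normal in `H`, an element of `O_p(H)` centralized by `T` and by every proper
subgroup of `H` containing `T` is central in `H`. -/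
theorem weakly_closed_of_local {G : Type u} [Group G] [Finite G] {p : ℕ} [Fact p.Prime]
    (S : Sylow p G) (x : G) (hxS : x ∈ (S : Subgroup G))
    (hxC : x ∈ Subgroup.centralizer ((S : Subgroup G) : Set G))
    (hxN : ∀ n ∈ Subgroup.normalizer
      ((thompsonSubgroupAOf (S : Subgroup G) : Subgroup G) : Set G), n * x = x * n)
    (hX : ∀ (H : Subgroup G) (T : Sylow p ↥H),
      ¬ (thompsonSubgroupAOf (T : Subgroup ↥H)).Normal → ∀ x' : ↥H, x' ∈ pCore p ↥H →
      (∀ s ∈ (T : Subgroup ↥H), s * x' = x' * s) →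
      (∀ K : Subgroup ↥H, (T : Subgroup ↥H) ≤ K → K ≠ ⊤ → ∀ k ∈ K, k * x' = x' * k) →
      ∀ y : ↥H, y * x' = x' * y) :
    ∀ g : G, g * x * g⁻¹ ∈ (S : Subgroup G) → g * x * g⁻¹ = x := by
  intro g hg
  have hidx : ¬ p ∣ (S : Subgroup G).relIndex ⊤ := by
    rw [Subgroup.relIndex_top_right]
    exact S.not_dvd_index
  have hBN : ∀ n ∈ (⊤ : Subgroup G) ⊓ Subgroup.normalizer
      ((thompsonSubgroupAOf (S : Subgroup G) : Subgroup G) : Set G),
      conjR n ({x} : Set G) = {x} := by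
    intro n hn
    apply conjR_eq_self_of_commute
    intro b hb
    rw [Set.mem_singleton_iff] at hb
    rw [hb]
    exact hxN n (Subgroup.mem_inf.mp hn).2
  have hmem : g * x * g⁻¹ ∈ conjR g⁻¹ ({x} : Set G) := by
    rw [mem_conjR_iff]
    have e : g⁻¹ * (g * x * g⁻¹) * g⁻¹⁻¹ = x := by group
    rw [e]
    exact Set.mem_singleton x
  have hsub : conjR g⁻¹ ({x} : Set G) ⊆ ((S : Subgroup G) : Set G) := by
    intro b hb
    rw [mem_conjR_iff, Set.mem_singleton_iff] at hb
    have e : b = g * x * g⁻¹ := by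
      rw [← hb]
      group
    rw [e]
    exact hg
  have hres := mainJ_of_local hX ⊤ (S : Subgroup G) {x} le_top
    S.isPGroup' hidx ⟨x, rfl, hxS, hxC⟩ hBN g⁻¹ (Subgroup.mem_top _) hsub
  rw [hres] at hmem
  exact Set.mem_singleton_iff.mp hmem

end Cfsg.Agent.Lib.Helper14.GlaubJ2
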