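import Cfsg.Agent.Lib.Helper14.KInfIso
import Cfsg.Agent.Lib.Helper14.Cores
import Cfsg.Agent.Lib.Helper14.ConjAux
import Cfsg.Prelude.Def_CaseTheorems

set_option autoImplicit false

/-!
If a K-infinity subgroup of a Sylow `p`-subgroup `S` of `G` is not normal in `G`, some term of
the K-sequence of `S` is not contained in `O_p(G)`; this gives a subgroup of class at most two
outside `O_p(G)` acting quadratically on the abelian normal subgroups of `S`.
-/

namespace Cfsg.Agent.Lib.Helper14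

open Cfsg

universe u

variable {G : Type u} [Group G]

theorem abelian_mem_kUpperStarFamily_of_normalizer (E R : Subgroup G)
    (hE : E ≤ Subgroup.centralizer (E : Set G)) (hR : R ≤ Subgroup.normalizer (E : Set G)) :
    E ∈ kUpperStarFamily R := by
  have h0 : ⁅E, E⁆ = ⊥ := (Subgroup.commutator_eq_bot_iff_le_centralizer).mpr hE
  refine ⟨?_, ?_⟩
  · show ⁅E, E⁆ ≤ Subgroup.centralizer (E : Set G)
    rw [h0]; exact bot_le
  · rw [inf_eq_left.mpr hE, Subgroup.commutator_comm]
    exact Subgroup.le_normalizer_iff_commutator_le_right.mp hR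

theorem abelian_mem_kLowerStarFamily_of_normalizer (E R : Subgroup G)
    (hE : E ≤ Subgroup.centralizer (E : Set G)) (hR : R ≤ Subgroup.normalizer (E : Set G)) :
    E ∈ kLowerStarFamily R := by
  have h0 : ⁅E, E⁆ = ⊥ := (Subgroup.commutator_eq_bot_iff_le_centralizer).mpr hE
  refine ⟨?_, hR, ?_⟩
  · show ⁅E, E⁆ ≤ Subgroup.centralizer (E : Set G)
    rw [h0]; exact bot_le
  · intro A _ hAR _ _ _
    rw [inf_eq_left.mpr hE, Subgroup.commutator_comm]
    exact Subgroup.le_normalizer_iff_commutator_le_right.mp (hAR.trans hR)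

theorem relEven_le (Q : Subgroup G) (n : ℕ) : relEven Q n ≤ Q := by
  unfold relEven
  exact sSup_le fun B hB => hB.1

theorem relOdd_le (Q : Subgroup G) (n : ℕ) : relOdd Q n ≤ Q := by
  cases n with
  | zero => exact le_of_eq (by rw [relOdd])
  | succ n =>
    rw [relOdd_succ]
    exact sSup_le fun B hB => hB.1

theorem relOdd_zero (Q : Subgroup G) : relOdd Q 0 = Q := by rw [relOdd]

theorem relOdd_antitone (Q : Subgroup G) : Antitone (relOdd Q) := by
  intro m n hmn
  rw [← map_kSeqOdd, ← map_kSeqOdd]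
  exact Subgroup.map_mono (kSeqOdd_antitone hmn)

/-- Abelian subgroups of `Q` normalized by `Q` lie in every term of the K-sequence of `Q`. -/
theorem abelian_le_rel (Q E : Subgroup G) (hEQ : E ≤ Q)
    (hE : E ≤ Subgroup.centralizer (E : Set G)) (hQ : Q ≤ Subgroup.normalizer (E : Set G))
    (n : ℕ) : E ≤ relOdd Q n ∧ E ≤ relEven Q n := by
  constructor
  · cases n with
    | zero => rw [relOdd_zero]; exact hEQ
    | succ n =>
      rw [relOdd_succ]
      exact le_sSup ⟨hEQ, abelian_mem_kUpperStarFamily_of_normalizer E _ hE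
        ((relEven_le Q n).trans hQ)⟩
  · unfold relEven
    exact le_sSup ⟨hEQ, abelian_mem_kLowerStarFamily_of_normalizer E _ hE
      ((relOdd_le Q n).trans hQ)⟩

theorem normal_of_map_conj_eq {H : Subgroup G}
    (h : ∀ g : G, H.map (MulAut.conj g).toMonoidHom = H) : H.Normal := by
  refine ⟨fun x hx g => ?_⟩
  have h1 : g * x * g⁻¹ ∈ H.map (MulAut.conj g).toMonoidHom := ⟨x, hx, rfl⟩
  rwa [h g] at h1

/-- The value of an isomorphism-invariant functor on a normal `p`-subgroup is normal. -/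
theorem inducedFunctor_normal [Finite G] {p : ℕ} {W : ∀ (Q : Type u) [Group Q], Subgroup Q}
    (hW : IsCharPFunctor.{u} p W) (T : Subgroup G) [hT : T.Normal] (hTp : IsPGroup p T) :
    (inducedFunctor W T).Normal := by
  apply normal_of_map_conj_eq
  intro g
  rw [← inducedFunctor_map_conj hW g T hTp]
  congr 1
  exact map_conj_eq_self_of_mem_normalizer (by rw [Subgroup.normalizer_eq_top]; trivial)

/-- If all terms of nonnegative index of the K-sequence of `S` lie in `T ≤ S`, the K-infinity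
subgroups of `S` are those of `T`. -/
theorem inducedFunctor_kInf_eq_of_le [Finite G] {p : ℕ} [Fact p.Prime] (S T : Subgroup G)
    (hTS : T ≤ S) (hSp : IsPGroup p S)
    (h : ∀ n : ℕ, relEven S n ≤ T ∧ relOdd S (n + 1) ≤ T) :
    inducedFunctor kInfLower S = inducedFunctor kInfLower T ∧
    inducedFunctor kInfUpper S = inducedFunctor kInfUpper T := by
  obtain ⟨Q, hQdef⟩ : ∃ Q : Subgroup ↥S, Q = T.subgroupOf S := ⟨_, rfl⟩
  have hQ : ∀ n : ℕ, kSeqEven ↥S n ≤ Q ∧ kSeqOdd ↥S (n + 1) ≤ Q := by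
    intro n
    rw [hQdef]
    constructor
    · show kSeqEven ↥S n ≤ T.comap S.subtype
      rw [← Subgroup.map_le_iff_le_comap, map_kSeqEven]
      exact (h n).1
    · show kSeqOdd ↥S (n + 1) ≤ T.comap S.subtype
      rw [← Subgroup.map_le_iff_le_comap, map_kSeqOdd]
      exact (h n).2
  have hQp : IsPGroup p ↥Q := (hSp.to_subgroup Q)
  obtain ⟨e, he⟩ : ∃ e : ↥Q ≃* ↥T, ∀ x : ↥Q, ((e x : ↥T) : G) = ((x : ↥S) : G) := by
    subst hQdef
    exact ⟨Subgroup.subgroupOfEquivOfLe hTS, fun x => rfl⟩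
  have hcomp : T.subtype.comp e.toMonoidHom = S.subtype.comp Q.subtype := by
    ext x
    exact he x
  constructor
  · have h1 := map_kInfLower_eq Q hQ
    have h2 := (isCharPFunctor_kInfLower.{u} p).2 ↥Q ↥T hQp e
    unfold inducedFunctor
    rw [← h1, ← h2, Subgroup.map_map, Subgroup.map_map, hcomp]
  · have h1 := map_kInfUpper_eq Q hQ
    have h2 := (isCharPFunctor_kInfUpper.{u} p).2 ↥Q ↥T hQp e
    unfold inducedFunctor
    rw [← h1, ← h2, Subgroup.map_map, Subgroup.map_map, hcomp]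

theorem exists_term_not_le [Finite G] {p : ℕ} [Fact p.Prime] (S : Sylow p G)
    (hK : ¬ (inducedFunctor kInfLower (S : Subgroup G)).Normal ∨
      ¬ (inducedFunctor kInfUpper (S : Subgroup G)).Normal) :
    ¬ ∀ n : ℕ, relEven (S : Subgroup G) n ≤ pCore p G ∧
      relOdd (S : Subgroup G) (n + 1) ≤ pCore p G := by
  intro h
  have hTp : IsPGroup p (pCore p G) := pCore_isPGroup p
  have hTS : pCore p G ≤ (S : Subgroup G) := hTp.le_sylow_of_normal S
  obtain ⟨h1, h2⟩ := inducedFunctor_kInf_eq_of_le (S : Subgroup G) (pCore p G) hTS S.isPGroup' h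
  rcases hK with hK | hK
  · apply hK
    rw [h1]
    exact inducedFunctor_normal (isCharPFunctor_kInfLower.{u} p) _ hTp
  · apply hK
    rw [h2]
    exact inducedFunctor_normal (isCharPFunctor_kInfUpper.{u} p) _ hTp

theorem exists_mem_not_le_of_sSup_not_le {𝒦 : Set (Subgroup G)} {T : Subgroup G}
    (h : ¬ sSup 𝒦 ≤ T) : ∃ B ∈ 𝒦, ¬ B ≤ T := by
  by_contra hcon
  push Not at hcon
  exact h (sSup_le hcon)

/-- The two ways in which the K-sequence of `S` can leave `O_p(G)`. -/
theorem kinf_dichotomy [Finite G] {p : ℕ} [Fact p.Prime] (S : Sylow p G)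
    (hK : ¬ (inducedFunctor kInfLower (S : Subgroup G)).Normal ∨
      ¬ (inducedFunctor kInfUpper (S : Subgroup G)).Normal) :
    (∃ B : Subgroup G, B ≤ (S : Subgroup G) ∧ ¬ B ≤ pCore p G ∧
      B ∈ kUpperStarFamily (relEven (S : Subgroup G) 0)) ∨
    (∃ (n : ℕ) (B : Subgroup G), B ≤ (S : Subgroup G) ∧ ¬ B ≤ pCore p G ∧
      B ∈ kLowerStarFamily (relOdd (S : Subgroup G) n) ∧
      (n = 0 ∨ (relOdd (S : Subgroup G) n ≤ pCore p G ∧
        relEven (S : Subgroup G) (n - 1) ≤ pCore p G))) := by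
  classical
  have h0 := exists_term_not_le S hK
  by_cases hodd : ∃ n : ℕ, ¬ relOdd (S : Subgroup G) (n + 1) ≤ pCore p G
  · left
    obtain ⟨n, hn⟩ := hodd
    have h1 : ¬ relOdd (S : Subgroup G) 1 ≤ pCore p G := fun hle =>
      hn ((relOdd_antitone (S : Subgroup G) (by omega : 1 ≤ n + 1)).trans hle)
    rw [relOdd_succ] at h1
    obtain ⟨B, hB, hBT⟩ := exists_mem_not_le_of_sSup_not_le h1
    exact ⟨B, hB.1, hBT, hB.2⟩
  · right
    push Not at hodd
    have heven : ∃ n : ℕ, ¬ relEven (S : Subgroup G) n ≤ pCore p G := by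
      by_contra hcon
      push Not at hcon
      exact h0 fun n => ⟨hcon n, hodd n⟩
    obtain ⟨hn, hmin⟩ := Nat.find_spec heven, fun m => Nat.find_min heven (m := m)
    obtain ⟨n, hndef⟩ : ∃ n : ℕ, n = Nat.find heven := ⟨_, rfl⟩
    rw [← hndef] at hn hmin
    unfold relEven at hn
    obtain ⟨B, hB, hBT⟩ := exists_mem_not_le_of_sSup_not_le hn
    refine ⟨n, B, hB.1, hBT, hB.2, ?_⟩
    cases n with
    | zero => left; rfl
    | succ k =>
      right
      refine ⟨hodd k, ?_⟩
      have := hmin k (by omega)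
      push Not at this
      simpa using this

/-- A subgroup of class at most two of `S`, not contained in `O_p(G)`, which acts quadratically
on every abelian normal subgroup of `S`. -/
theorem kinf_exists_quadratic_member [Finite G] {p : ℕ} [Fact p.Prime] (S : Sylow p G)
    (hK : ¬ (inducedFunctor kInfLower (S : Subgroup G)).Normal ∨
      ¬ (inducedFunctor kInfUpper (S : Subgroup G)).Normal) :
    ∃ B : Subgroup G, B ≤ (S : Subgroup G) ∧ ¬ B ≤ pCore p G ∧
      ∀ E : Subgroup G, E ≤ (S : Subgroup G) → E ≤ Subgroup.centralizer (E : Set G) →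
        (S : Subgroup G) ≤ Subgroup.normalizer (E : Set G) →
        ⁅E, B⁆ ≤ B ⊓ Subgroup.centralizer (B : Set G) := by
  rcases kinf_dichotomy S hK with ⟨B, hBS, hBT, hB⟩ | ⟨n, B, hBS, hBT, hB, -⟩
  · refine ⟨B, hBS, hBT, fun E hES hE hSE => ?_⟩
    have h1 := (abelian_le_rel (S : Subgroup G) E hES hE hSE 0).2
    rw [Subgroup.commutator_comm]
    exact (Subgroup.commutator_mono le_rfl h1).trans hB.2
  · refine ⟨B, hBS, hBT, fun E hES hE hSE => ?_⟩
    have h1 := (abelian_le_rel (S : Subgroup G) E hES hE hSE n).1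
    have h0 : ⁅E, E⁆ = ⊥ := (Subgroup.commutator_eq_bot_iff_le_centralizer).mpr hE
    have hcl : E ∈ classTwoSubgroups G := by
      show ⁅E, E⁆ ≤ Subgroup.centralizer (E : Set G)
      rw [h0]; exact bot_le
    rw [Subgroup.commutator_comm]
    refine hB.2.2 E hcl h1 (hBS.trans hSE) ?_ ?_
    · rw [h0, Subgroup.commutator_comm]
      exact Subgroup.commutator_bot_left _
    · have h2 : ⁅B ⊓ Subgroup.centralizer (B : Set G), E⁆ ≤ E :=
        Subgroup.le_normalizer_iff_commutator_le_right.mp ((inf_le_left.trans hBS).trans hSE)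
      rw [eq_bot_iff, ← h0]
      exact Subgroup.commutator_mono h2 le_rfl

/-- An element of `S` outside `O_p(G)` acting quadratically on every abelian normal subgroup
of `S`. -/
theorem kinf_exists_quadratic_element [Finite G] {p : ℕ} [Fact p.Prime] (S : Sylow p G)
    (hK : ¬ (inducedFunctor kInfLower (S : Subgroup G)).Normal ∨
      ¬ (inducedFunctor kInfUpper (S : Subgroup G)).Normal) :
    ∃ g : G, g ∈ (S : Subgroup G) ∧ g ∉ pCore p G ∧
      ∀ E : Subgroup G, E ≤ (S : Subgroup G) → E ≤ Subgroup.centralizer (E : Set G) →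
        (S : Subgroup G) ≤ Subgroup.normalizer (E : Set G) →
        ⁅⁅E, Subgroup.zpowers g⁆, Subgroup.zpowers g⁆ = ⊥ := by
  obtain ⟨B, hBS, hBT, hB⟩ := kinf_exists_quadratic_member S hK
  obtain ⟨g, hgB, hgT⟩ := SetLike.not_le_iff_exists.mp hBT
  refine ⟨g, hBS hgB, hgT, fun E hES hE hSE => ?_⟩
  have hz : Subgroup.zpowers g ≤ B := by rw [Subgroup.zpowers_le]; exact hgB
  rw [eq_bot_iff]
  calc ⁅⁅E, Subgroup.zpowers g⁆, Subgroup.zpowers g⁆ ≤ ⁅⁅E, B⁆, B⁆ :=
        Subgroup.commutator_mono (Subgroup.commutator_mono le_rfl hz) hz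
    _ ≤ ⁅B ⊓ Subgroup.centralizer (B : Set G), B⁆ :=
        Subgroup.commutator_mono (hB E hES hE hSE) le_rfl
    _ = ⊥ := (Subgroup.commutator_eq_bot_iff_le_centralizer).mpr inf_le_right

end Cfsg.Agent.Lib.Helper14
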