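import Mathlib
import Cfsg.Prelude
import Cfsg.Agent.Lib.Helper14.SecY2

/-!
Three subgroups lemma modulo a normalized subgroup, and small facts on iterated commutators.
-/

set_option autoImplicit false

namespace Cfsg.Agent.Lib.Helper14

open Cfsg

universe u

variable {G : Type u} [Group G]

theorem ts_mod_normal {A B C N : Subgroup G} [N.Normal]
    (h1 : ⁅⁅A, B⁆, C⁆ ≤ N) (h2 : ⁅⁅B, C⁆, A⁆ ≤ N) : ⁅⁅C, A⁆, B⁆ ≤ N := by
  have key : ∀ X : Subgroup G, X.map (QuotientGroup.mk' N) = ⊥ ↔ X ≤ N := by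
    intro X
    rw [Subgroup.map_eq_bot_iff, QuotientGroup.ker_mk']
  rw [← key, Subgroup.map_commutator, Subgroup.map_commutator] at h1 h2 ⊢
  exact Subgroup.commutator_commutator_eq_bot_of_rotate h1 h2

theorem ts_mod {A B C N : Subgroup G}
    (hA : A ≤ Subgroup.normalizer (N : Set G)) (hB : B ≤ Subgroup.normalizer (N : Set G))
    (hC : C ≤ Subgroup.normalizer (N : Set G))
    (h1 : ⁅⁅A, B⁆, C⁆ ≤ N) (h2 : ⁅⁅B, C⁆, A⁆ ≤ N) : ⁅⁅C, A⁆, B⁆ ≤ N := by
  obtain ⟨M, hM⟩ : ∃ M : Subgroup G, M = Subgroup.normalizer (N : Set G) := ⟨_, rfl⟩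
  rw [← hM] at hA hB hC
  have hNn : (N.subgroupOf M).Normal := Subgroup.normal_subgroupOf_of_le_normalizer hM.le
  have e : ∀ {X Y Z : Subgroup G}, X ≤ M → Y ≤ M → Z ≤ M →
      (⁅⁅X.subgroupOf M, Y.subgroupOf M⁆, Z.subgroupOf M⁆).map M.subtype = ⁅⁅X, Y⁆, Z⁆ := by
    intro X Y Z hX hY hZ
    rw [Subgroup.map_commutator, Subgroup.map_commutator, Subgroup.map_subgroupOf_eq_of_le hX,
      Subgroup.map_subgroupOf_eq_of_le hY, Subgroup.map_subgroupOf_eq_of_le hZ]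
  have down : ∀ {X Y Z : Subgroup G}, X ≤ M → Y ≤ M → Z ≤ M → ⁅⁅X, Y⁆, Z⁆ ≤ N →
      ⁅⁅X.subgroupOf M, Y.subgroupOf M⁆, Z.subgroupOf M⁆ ≤ N.subgroupOf M := by
    intro X Y Z hX hY hZ h x hx
    rw [Subgroup.mem_subgroupOf]
    apply h
    rw [← e hX hY hZ]
    exact ⟨x, hx, rfl⟩
  have h3 := ts_mod_normal (down hA hB hC h1) (down hB hC hA h2)
  rw [← e hC hA hB]
  rintro _ ⟨x, hx, rfl⟩
  exact Subgroup.mem_subgroupOf.mp (h3 hx)

/-- The form used below: from `[[X,Z],Y] ≤ N` and `[[X,Y],Z] ≤ N` get `[[Y,Z],X] ≤ N`. -/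
theorem ts_step {X Y Z N : Subgroup G}
    (hX : X ≤ Subgroup.normalizer (N : Set G)) (hY : Y ≤ Subgroup.normalizer (N : Set G))
    (hZ : Z ≤ Subgroup.normalizer (N : Set G))
    (h1 : ⁅⁅X, Z⁆, Y⁆ ≤ N) (h2 : ⁅⁅X, Y⁆, Z⁆ ≤ N) : ⁅⁅Y, Z⁆, X⁆ ≤ N := by
  -- `ts_mod` with A = Z, B = X, C = Y
  refine ts_mod (A := Z) (B := X) (C := Y) hZ hX hY ?_ h2
  rw [Subgroup.commutator_comm Z X]
  exact h1

theorem ts_step_bot {X Y Z : Subgroup G}
    (h1 : ⁅⁅X, Z⁆, Y⁆ = ⊥) (h2 : ⁅⁅X, Y⁆, Z⁆ = ⊥) : ⁅⁅Y, Z⁆, X⁆ = ⊥ := by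
  rw [eq_bot_iff]
  have hn : ∀ W : Subgroup G, W ≤ Subgroup.normalizer (((⊥ : Subgroup G) : Subgroup G) : Set G) := by
    intro W x _
    rw [Subgroup.mem_normalizer_iff]
    intro y
    simp [Subgroup.mem_bot]
  exact ts_step (hn X) (hn Y) (hn Z) h1.le h2.le

/-- Once an iterated commutator lies in a subgroup normalized by the acting group, so do all later ones. -/
theorem iterCommutator_le_add (U Z V : Subgroup G) (hV : Z ≤ Subgroup.normalizer (V : Set G)) (m : ℕ)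
    (h : iterCommutator U Z m ≤ V) (k : ℕ) : iterCommutator U Z (m + k) ≤ V := by
  induction k with
  | zero => exact h
  | succ k ih =>
    show ⁅iterCommutator U Z (m + k), Z⁆ ≤ V
    exact (Subgroup.commutator_mono ih le_rfl).trans
      (Subgroup.le_normalizer_iff_commutator_le_left.mp hV)

theorem iterCommutator_mono_left {U U' : Subgroup G} (Z : Subgroup G) (h : U ≤ U') (m : ℕ) :
    iterCommutator U Z m ≤ iterCommutator U' Z m := by
  induction m with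
  | zero => exact h
  | succ m ih => exact Subgroup.commutator_mono ih le_rfl

theorem iterCommutator_succ' (U Z : Subgroup G) (m : ℕ) :
    iterCommutator U Z (m + 1) = iterCommutator ⁅U, Z⁆ Z m := by
  induction m with
  | zero => rfl
  | succ m ih =>
    show ⁅iterCommutator U Z (m + 1), Z⁆ = ⁅iterCommutator ⁅U, Z⁆ Z m, Z⁆
    rw [ih]

theorem iterCommutator_map_gen {Y : Type u} [Group Y] (f : G →* Y) (U Z : Subgroup G) (m : ℕ) :
    (iterCommutator U Z m).map f = iterCommutator (U.map f) (Z.map f) m := by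
  induction m with
  | zero => rfl
  | succ m ih =>
    show (⁅iterCommutator U Z m, Z⁆).map f = ⁅iterCommutator (U.map f) (Z.map f) m, Z.map f⁆
    rw [Subgroup.map_commutator, ih]

/-- (Q1) -/
theorem iterCommutator_le_of_le_sup (U U₀ V Z : Subgroup G) [V.Normal]
    (hU : U ≤ U₀ ⊔ V) (j : ℕ) (h : iterCommutator U₀ Z j ≤ V) :
    iterCommutator U Z j ≤ V := by
  have key : ∀ X : Subgroup G, X.map (QuotientGroup.mk' V) = ⊥ ↔ X ≤ V := by
    intro X
    rw [Subgroup.map_eq_bot_iff, QuotientGroup.ker_mk']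
  have hmap : U.map (QuotientGroup.mk' V) ≤ U₀.map (QuotientGroup.mk' V) := by
    have h1 := Subgroup.map_mono (f := QuotientGroup.mk' V) hU
    rw [Subgroup.map_sup, (key V).mpr le_rfl, sup_bot_eq] at h1
    exact h1
  have h1 := (key _).mpr h
  rw [iterCommutator_map_gen] at h1
  apply (key _).mp
  rw [iterCommutator_map_gen, eq_bot_iff, ← h1]
  exact iterCommutator_mono_left _ hmap j

/-- (Q2) -/
theorem chief_inf_dichotomy {U V : Subgroup G} (hUV : IsChiefFactor U V) (N : Subgroup G)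
    [N.Normal] : U ⊓ N ≤ V ∨ U ≤ (U ⊓ N) ⊔ V := by
  obtain ⟨hlt, hUn, hVn, hmin⟩ := hUV
  have hn : ((U ⊓ N) ⊔ V).Normal := by
    have := hUn; have := hVn
    infer_instance
  rcases hmin ((U ⊓ N) ⊔ V) hn le_sup_right (sup_le inf_le_left hlt.le) with h | h
  · left
    rw [← h]
    exact le_sup_left
  · right
    rw [h]

end Cfsg.Agent.Lib.Helper14
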