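import Mathlib
import Cfsg.Prelude
import Cfsg.Agent.Lib.Helper14.KInfTS
import Cfsg.Agent.Lib.Helper14.KInfMax

/-!
Quartic action on chief factors inside a normal subgroup `T` carrying a critical pair `D ≤ A`,
for a subgroup `Z` acting quadratically on `D` and cubically on `A` modulo `D`.
-/

set_option autoImplicit false

namespace Cfsg.Agent.Lib.Helper14

open Cfsg

universe u

variable {G : Type u} [Group G]

theorem le_normalizer_of_normal' (N X : Subgroup G) [N.Normal] :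
    X ≤ Subgroup.normalizer (N : Set G) := by
  rw [Subgroup.normalizer_eq_top]
  exact le_top

theorem le_normalizer_of_comm_eq_bot {X N : Subgroup G} (h : ⁅X, N⁆ = ⊥) :
    X ≤ Subgroup.normalizer (N : Set G) :=
  Subgroup.le_normalizer_iff_commutator_le_right.mpr (by rw [h]; exact bot_le)

theorem comm_eq_bot_of_le {X X' Y Y' : Subgroup G} (hX : X ≤ X') (hY : Y ≤ Y')
    (h : ⁅X', Y'⁆ = ⊥) : ⁅X, Y⁆ = ⊥ := by
  rw [eq_bot_iff, ← h]
  exact Subgroup.commutator_mono hX hY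

/-- (L_C) -/
theorem quartic_LC (T D A Z : Subgroup G) [hDn : D.Normal] [hAn : A.Normal]
    (hAD : ⁅A, D⁆ = ⊥) (hATD : ⁅A, T⁆ ≤ D)
    (hDZ : ⁅⁅D, Z⁆, Z⁆ = ⊥) (hAZ : ⁅⁅⁅A, Z⁆, Z⁆, Z⁆ ≤ D)
    (K : Subgroup G) [hKn : K.Normal] (hKT : K ≤ T) (hKD : ⁅K, D⁆ = ⊥) :
    ⁅iterCommutator K Z 4, A⁆ = ⊥ := by
  have hA1 : ⁅A, Z⁆ ≤ A := Subgroup.commutator_le_left A Z
  have hA2 : ⁅⁅A, Z⁆, Z⁆ ≤ A := (Subgroup.commutator_mono hA1 le_rfl).trans hA1
  have hK1 : ⁅K, Z⁆ ≤ K := Subgroup.commutator_le_left K Z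
  have hK2 : ⁅⁅K, Z⁆, Z⁆ ≤ K := (Subgroup.commutator_mono hK1 le_rfl).trans hK1
  have hK3 : ⁅⁅⁅K, Z⁆, Z⁆, Z⁆ ≤ K := (Subgroup.commutator_mono hK2 le_rfl).trans hK1
  have hD1 : ⁅D, Z⁆ ≤ D := Subgroup.commutator_le_left D Z
  have hDK : ⁅D, K⁆ = ⊥ := by rw [Subgroup.commutator_comm]; exact hKD
  have F1 : ∀ X Y : Subgroup G, X ≤ A → Y ≤ K → ⁅X, Y⁆ ≤ D := fun X Y hX hY =>
    (Subgroup.commutator_mono hX (hY.trans hKT)).trans hATD
  have F3 : ∀ X Y : Subgroup G, X ≤ A → Y ≤ K → ⁅⁅X, Y⁆, Z⁆ ≤ ⁅D, Z⁆ := fun X Y hX hY =>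
    Subgroup.commutator_mono (F1 X Y hX hY) le_rfl
  have F2 : ∀ Y : Subgroup G, Y ≤ K → ⁅⁅⁅⁅A, Z⁆, Z⁆, Z⁆, Y⁆ = ⊥ := fun Y hY =>
    comm_eq_bot_of_le hAZ hY hDK
  have hnA : A ≤ Subgroup.normalizer ((⁅D, Z⁆ : Subgroup G) : Set G) :=
    le_normalizer_of_comm_eq_bot (comm_eq_bot_of_le le_rfl hD1 hAD)
  have hnK : K ≤ Subgroup.normalizer ((⁅D, Z⁆ : Subgroup G) : Set G) :=
    le_normalizer_of_comm_eq_bot (comm_eq_bot_of_le le_rfl hD1 hKD)
  have hnZ : Z ≤ Subgroup.normalizer ((⁅D, Z⁆ : Subgroup G) : Set G) :=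
    Subgroup.le_normalizer_iff_commutator_le_left.mpr (by rw [hDZ]; exact bot_le)
  have c1 : ⁅⁅K, Z⁆, ⁅⁅A, Z⁆, Z⁆⁆ ≤ ⁅D, Z⁆ :=
    ts_step (hA2.trans hnA) hnK hnZ (by rw [F2 K le_rfl]; exact bot_le) (F3 _ _ hA2 le_rfl)
  have c1' : ⁅⁅⁅A, Z⁆, Z⁆, ⁅K, Z⁆⁆ ≤ ⁅D, Z⁆ := by rw [Subgroup.commutator_comm]; exact c1
  have c2 : ⁅⁅⁅K, Z⁆, Z⁆, ⁅A, Z⁆⁆ ≤ ⁅D, Z⁆ :=
    ts_step (hA1.trans hnA) (hK1.trans hnK) hnZ c1' (F3 _ _ hA1 hK1)
  have c2' : ⁅⁅A, Z⁆, ⁅⁅K, Z⁆, Z⁆⁆ ≤ ⁅D, Z⁆ := by rw [Subgroup.commutator_comm]; exact c2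
  have c3 : ⁅⁅⁅K, Z⁆, Z⁆, ⁅⁅A, Z⁆, Z⁆⁆ = ⊥ :=
    ts_step_bot (F2 _ hK1) (comm_eq_bot_of_le c1' le_rfl hDZ)
  have c3' : ⁅⁅⁅A, Z⁆, Z⁆, ⁅⁅K, Z⁆, Z⁆⁆ = ⊥ := by rw [Subgroup.commutator_comm]; exact c3
  have c4 : ⁅⁅⁅⁅K, Z⁆, Z⁆, Z⁆, A⁆ ≤ ⁅D, Z⁆ :=
    ts_step hnA (hK2.trans hnK) hnZ c2' (F3 _ _ le_rfl hK2)
  have c4' : ⁅A, ⁅⁅⁅K, Z⁆, Z⁆, Z⁆⁆ ≤ ⁅D, Z⁆ := by rw [Subgroup.commutator_comm]; exact c4
  have c5 : ⁅⁅⁅⁅K, Z⁆, Z⁆, Z⁆, ⁅A, Z⁆⁆ = ⊥ :=
    ts_step_bot c3' (comm_eq_bot_of_le c2' le_rfl hDZ)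
  have c5' : ⁅⁅A, Z⁆, ⁅⁅⁅K, Z⁆, Z⁆, Z⁆⁆ = ⊥ := by rw [Subgroup.commutator_comm]; exact c5
  exact ts_step_bot c5' (comm_eq_bot_of_le c4' le_rfl hDZ)

/-- (L_T) -/
theorem quartic_LT (T D Z : Subgroup G) [hTn : T.Normal] [hDn : D.Normal]
    (hDD : ⁅D, D⁆ = ⊥) (hDZ : ⁅⁅D, Z⁆, Z⁆ = ⊥)
    (Dk : Subgroup G) [hDkn : Dk.Normal] (hDk : Dk ≤ D)
    (K : Subgroup G) [hKn : K.Normal] (hKT : K ≤ T) (hKD : ⁅D, K⁆ ≤ Dk) :
    ⁅D, iterCommutator K Z 3⁆ ≤ ⁅Dk, T⁆ := by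
  have hK1 : ⁅K, Z⁆ ≤ K := Subgroup.commutator_le_left K Z
  have hK2 : ⁅⁅K, Z⁆, Z⁆ ≤ K := (Subgroup.commutator_mono hK1 le_rfl).trans hK1
  have hD1 : ⁅D, Z⁆ ≤ D := Subgroup.commutator_le_left D Z
  have hE2Dk : ⁅Dk, T⁆ ≤ Dk := Subgroup.commutator_le_left Dk T
  obtain ⟨E1, hE1⟩ : ∃ E1 : Subgroup G, E1 = ⁅Dk, Z⁆ ⊔ ⁅Dk, T⁆ := ⟨_, rfl⟩
  have hE1Dk : E1 ≤ Dk := by
    rw [hE1]; exact sup_le (Subgroup.commutator_le_left Dk Z) hE2Dk
  have hE21 : ⁅Dk, T⁆ ≤ E1 := by rw [hE1]; exact le_sup_right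
  have hDkZ : ⁅Dk, Z⁆ ≤ E1 := by rw [hE1]; exact le_sup_left
  have hE1Z : ⁅E1, Z⁆ ≤ ⁅Dk, T⁆ := by
    rw [hE1]
    refine commutator_sup_le_of_normalizer (le_normalizer_of_normal' _ _) ?_
      (Subgroup.commutator_le_left _ Z)
    rw [comm_eq_bot_of_le (Subgroup.commutator_mono hDk le_rfl) le_rfl hDZ]
    exact bot_le
  have hnZ : Z ≤ Subgroup.normalizer (E1 : Set G) :=
    Subgroup.le_normalizer_iff_commutator_le_left.mpr (hE1Z.trans hE21)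
  have hnK : K ≤ Subgroup.normalizer (E1 : Set G) :=
    Subgroup.le_normalizer_iff_commutator_le_left.mpr
      ((Subgroup.commutator_mono hE1Dk hKT).trans hE21)
  have hnD : D ≤ Subgroup.normalizer (E1 : Set G) :=
    Subgroup.le_normalizer_iff_commutator_le_left.mpr (by
      rw [comm_eq_bot_of_le (hE1Dk.trans hDk) le_rfl hDD]; exact bot_le)
  have G1 : ∀ X Y : Subgroup G, X ≤ D → Y ≤ K → ⁅⁅X, Y⁆, Z⁆ ≤ E1 := fun X Y hX hY =>
    (Subgroup.commutator_mono ((Subgroup.commutator_mono hX hY).trans hKD) le_rfl).trans hDkZ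
  have hbot : ∀ Y : Subgroup G, ⁅⁅⁅D, Z⁆, Z⁆, Y⁆ = ⊥ := fun Y => by
    rw [hDZ]; exact Subgroup.commutator_bot_left Y
  have d1 : ⁅⁅K, Z⁆, ⁅D, Z⁆⁆ ≤ E1 :=
    ts_step (hD1.trans hnD) hnK hnZ (by rw [hbot]; exact bot_le) (G1 _ _ hD1 le_rfl)
  have d1' : ⁅⁅D, Z⁆, ⁅K, Z⁆⁆ ≤ E1 := by rw [Subgroup.commutator_comm]; exact d1
  have d2 : ⁅⁅⁅K, Z⁆, Z⁆, D⁆ ≤ E1 :=
    ts_step hnD (hK1.trans hnK) hnZ d1' (G1 _ _ le_rfl hK1)
  have d2' : ⁅D, ⁅⁅K, Z⁆, Z⁆⁆ ≤ E1 := by rw [Subgroup.commutator_comm]; exact d2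
  have d3 : ⁅⁅⁅K, Z⁆, Z⁆, ⁅D, Z⁆⁆ ≤ ⁅Dk, T⁆ :=
    ts_step (le_normalizer_of_normal' _ _) (le_normalizer_of_normal' _ _)
      (le_normalizer_of_normal' _ _) (by rw [hbot]; exact bot_le)
      ((Subgroup.commutator_mono d1' le_rfl).trans hE1Z)
  have d3' : ⁅⁅D, Z⁆, ⁅⁅K, Z⁆, Z⁆⁆ ≤ ⁅Dk, T⁆ := by rw [Subgroup.commutator_comm]; exact d3
  have d4 : ⁅⁅⁅⁅K, Z⁆, Z⁆, Z⁆, D⁆ ≤ ⁅Dk, T⁆ :=
    ts_step (le_normalizer_of_normal' _ _) (le_normalizer_of_normal' _ _)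
      (le_normalizer_of_normal' _ _) d3'
      ((Subgroup.commutator_mono d2' le_rfl).trans hE1Z)
  rw [Subgroup.commutator_comm]
  exact d4

theorem iterCommutator_normal (D T : Subgroup G) [hD : D.Normal] [hT : T.Normal] (k : ℕ) :
    (iterCommutator D T k).Normal := by
  induction k with
  | zero => exact hD
  | succ k ih => exact @Subgroup.commutator_normal _ _ _ _ ih hT

/-- The elements of `T` acting trivially on `D` modulo the normal subgroup `N`. -/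
def centMod (T D N : Subgroup G) [N.Normal] : Subgroup G :=
  T ⊓ (Subgroup.centralizer ((D.map (QuotientGroup.mk' N) : Subgroup (G ⧸ N)) : Set (G ⧸ N))).comap
    (QuotientGroup.mk' N)

theorem centMod_normal (T D N : Subgroup G) [N.Normal] [hT : T.Normal] [hD : D.Normal] :
    (centMod T D N).Normal := by
  unfold centMod
  have h1 : (D.map (QuotientGroup.mk' N)).Normal :=
    Subgroup.Normal.map hD _ (QuotientGroup.mk'_surjective N)
  infer_instance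

theorem le_centMod_iff (T D N : Subgroup G) [N.Normal] (K : Subgroup G) :
    K ≤ centMod T D N ↔ K ≤ T ∧ ⁅D, K⁆ ≤ N := by
  have key : ∀ X : Subgroup G, X.map (QuotientGroup.mk' N) = ⊥ ↔ X ≤ N := by
    intro X
    rw [Subgroup.map_eq_bot_iff, QuotientGroup.ker_mk']
  unfold centMod
  rw [le_inf_iff, ← Subgroup.map_le_iff_le_comap, ← Subgroup.commutator_eq_bot_iff_le_centralizer,
    ← Subgroup.map_commutator, key, Subgroup.commutator_comm]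

/-- Quartic action on the chief factors below `T`. -/
theorem quartic_of_critical (T D A Z : Subgroup G) [hTn : T.Normal] [hDn : D.Normal]
    [hAn : A.Normal] (hDA : D ≤ A) (hAT : A ≤ T) (hDD : ⁅D, D⁆ = ⊥) (hAD : ⁅A, D⁆ = ⊥)
    (hATD : ⁅A, T⁆ ≤ D) (hCA : T ⊓ Subgroup.centralizer (A : Set G) ≤ D)
    (hDZ : ⁅⁅D, Z⁆, Z⁆ = ⊥) (hAZ : ⁅⁅⁅A, Z⁆, Z⁆, Z⁆ ≤ D)
    (hnil : ∃ m : ℕ, iterCommutator D T m = ⊥)
    (U V : Subgroup G) (hUV : IsChiefFactor U V) (hUT : U ≤ T) :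
    iterCommutator U Z 4 ≤ V := by
  have hUn : U.Normal := hUV.2.1
  have hVn : V.Normal := hUV.2.2.1
  have hΔn : ∀ k : ℕ, (iterCommutator D T k).Normal := iterCommutator_normal D T
  have hΔD : ∀ k : ℕ, iterCommutator D T k ≤ D := iterCommutator_le_of_normal D T
  have key : ∀ j k : ℕ, iterCommutator D T (k + j) = ⊥ →
      U ≤ (U ⊓ @centMod G _ T D (iterCommutator D T k) (hΔn k)) ⊔ V →
      iterCommutator U Z 4 ≤ V := by
    intro j
    induction j with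
    | zero =>
      intro k hk hU
      have := hΔn k
      have h0n : (U ⊓ centMod T D (iterCommutator D T k)).Normal := by
        have := centMod_normal T D (iterCommutator D T k)
        infer_instance
      obtain ⟨h0T, h0D⟩ := (le_centMod_iff T D (iterCommutator D T k) _).mp
        (inf_le_right : U ⊓ centMod T D (iterCommutator D T k) ≤ _)
      have hk' : iterCommutator D T k = ⊥ := hk
      replace h0D := le_bot_iff.mp (h0D.trans hk'.le)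
      rcases chief_inf_dichotomy hUV D with h | h
      · -- `U ∩ D ≤ V`
        refine iterCommutator_le_of_le_sup U _ V Z hU 4 ?_
        have h1 := quartic_LC T D A Z hAD hATD hDZ hAZ
          (U ⊓ centMod T D (iterCommutator D T k)) h0T
          (by rw [Subgroup.commutator_comm]; exact h0D)
        have h2 : iterCommutator (U ⊓ centMod T D (iterCommutator D T k)) Z 4 ≤
            U ⊓ centMod T D (iterCommutator D T k) := iterCommutator_le_of_normal _ Z 4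
        have h3 : iterCommutator (U ⊓ centMod T D (iterCommutator D T k)) Z 4 ≤
            Subgroup.centralizer (A : Set G) :=
          Subgroup.commutator_eq_bot_iff_le_centralizer.mp h1
        exact (le_inf (h2.trans inf_le_left) ((le_inf (h2.trans h0T) h3).trans hCA)).trans h
      · -- `U ≤ (U ∩ D) V`
        refine iterCommutator_le_of_le_sup U _ V Z h 4 ?_
        have h2 : iterCommutator (U ⊓ D) Z 2 = ⊥ :=
          comm_eq_bot_of_le (Subgroup.commutator_mono inf_le_right le_rfl) le_rfl hDZ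
        have h4 : iterCommutator (U ⊓ D) Z 4 = ⊥ := by
          show ⁅⁅iterCommutator (U ⊓ D) Z 2, Z⁆, Z⁆ = ⊥
          rw [h2, Subgroup.commutator_bot_left, Subgroup.commutator_bot_left]
        rw [h4]
        exact bot_le
    | succ j ih =>
      intro k hk hU
      have := hΔn k
      have := hΔn (k + 1)
      have h0n : (U ⊓ centMod T D (iterCommutator D T k)).Normal := by
        have := centMod_normal T D (iterCommutator D T k)
        infer_instance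
      have h1n : (centMod T D (iterCommutator D T (k + 1))).Normal :=
        centMod_normal T D (iterCommutator D T (k + 1))
      obtain ⟨h0T, h0D⟩ := (le_centMod_iff T D (iterCommutator D T k) _).mp
        (inf_le_right : U ⊓ centMod T D (iterCommutator D T k) ≤ _)
      rcases chief_inf_dichotomy hUV (centMod T D (iterCommutator D T (k + 1))) with h | h
      · refine iterCommutator_le_of_le_sup U _ V Z hU 4 ?_
        have h1 := quartic_LT T D Z hDD hDZ (iterCommutator D T k) (hΔD k)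
          (U ⊓ centMod T D (iterCommutator D T k)) h0T h0D
        have h2 : iterCommutator (U ⊓ centMod T D (iterCommutator D T k)) Z 3 ≤
            U ⊓ centMod T D (iterCommutator D T k) := iterCommutator_le_of_normal _ Z 3
        have h3 : iterCommutator (U ⊓ centMod T D (iterCommutator D T k)) Z 3 ≤
            centMod T D (iterCommutator D T (k + 1)) :=
          (le_centMod_iff T D (iterCommutator D T (k + 1)) _).mpr ⟨h2.trans h0T, h1⟩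
        exact iterCommutator_le_add _ Z V (le_normalizer_of_normal' V Z) 3
          ((le_inf (h2.trans inf_le_left) h3).trans h) 1
      · exact ih (k + 1) (by rw [← hk]; congr 1; omega) h
  obtain ⟨m, hm⟩ := hnil
  refine key m 0 (by rw [zero_add]; exact hm) ?_
  have := hΔn 0
  have h1 : U ≤ centMod T D (iterCommutator D T 0) :=
    (le_centMod_iff T D (iterCommutator D T 0) U).mpr
      ⟨hUT, (Subgroup.commutator_le_left D U)⟩
  exact (le_inf le_rfl h1).trans le_sup_left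

end Cfsg.Agent.Lib.Helper14
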