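import Mathlib
import Cfsg.Prelude
import Cfsg.Agent.Lib.Helper14.KInfQuartic
import Cfsg.Agent.Lib.Helper14.KInfDich

/-!
Critical pairs `D ≤ A` in a normal nilpotent subgroup `T`, and the element of `S` outside `O_p(G)`
acting quartically on the chief factors below `O_p(G)` when a K-infinity subgroup is not normal.
-/

set_option autoImplicit false

namespace Cfsg.Agent.Lib.Helper14

open Cfsg

universe u

variable {G : Type u} [Group G]

theorem iter_eq_bot_of_nilpotent (T : Subgroup G) [hT : Group.IsNilpotent ↥T] (E : Subgroup G)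
    (hE : E ≤ T) : ∃ m : ℕ, iterCommutator E T m = ⊥ := by
  obtain ⟨n, hn⟩ := (Subgroup.isNilpotent_iff_lowerCentralSeries T).mp hT
  refine ⟨n, ?_⟩
  have h : ∀ m : ℕ, iterCommutator E T m ≤ T.lowerCentralSeries m := by
    intro m
    induction m with
    | zero => exact hE
    | succ m ih => exact Subgroup.commutator_mono ih le_rfl
  rw [eq_bot_iff, ← hn]
  exact h n

/-- A critical pair in a nilpotent normal subgroup `T`: `D` is a maximal abelian normal subgroup
of the ambient group inside `T`, and `A / D` is the part of `C_T(D) / D` centralized by `T`. -/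
theorem exists_critical_pair [Finite G] (T : Subgroup G) [hTn : T.Normal]
    [hT : Group.IsNilpotent ↥T] :
    ∃ D A : Subgroup G, D.Normal ∧ A.Normal ∧ D ≤ A ∧ A ≤ T ∧ ⁅D, D⁆ = ⊥ ∧ ⁅A, D⁆ = ⊥ ∧
      ⁅A, T⁆ ≤ D ∧ T ⊓ Subgroup.centralizer (A : Set G) ≤ D := by
  classical
  have hbot : (⊥ : Subgroup G) ∈ {D : Subgroup G | D.Normal ∧ D ≤ T ∧ ⁅D, D⁆ = ⊥} :=
    ⟨Subgroup.normal_bot, bot_le, Subgroup.commutator_bot_left ⊥⟩
  obtain ⟨D, -, hDmax⟩ :=
    (Set.toFinite {D : Subgroup G | D.Normal ∧ D ≤ T ∧ ⁅D, D⁆ = ⊥}).exists_le_maximal hbot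
  obtain ⟨hDn, hDT, hDD⟩ := hDmax.1
  have hmax : ∀ E : Subgroup G, E.Normal → E ≤ T → ⁅E, E⁆ = ⊥ → D ≤ E → E ≤ D :=
    fun E h1 h2 h3 h4 => hDmax.2 ⟨h1, h2, h3⟩ h4
  have hCn : (T ⊓ Subgroup.centralizer (D : Set G)).Normal := inferInstance
  obtain ⟨A, hAdef⟩ : ∃ A : Subgroup G, A = centMod (T ⊓ Subgroup.centralizer (D : Set G)) T D :=
    ⟨_, rfl⟩
  have hAn : A.Normal := by
    rw [hAdef]
    exact centMod_normal _ T D
  have hA_iff : ∀ K : Subgroup G, K ≤ A ↔ K ≤ T ⊓ Subgroup.centralizer (D : Set G) ∧ ⁅T, K⁆ ≤ D := by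
    intro K
    rw [hAdef]
    exact le_centMod_iff _ T D K
  have hDcD : D ≤ Subgroup.centralizer (D : Set G) :=
    Subgroup.commutator_eq_bot_iff_le_centralizer.mp hDD
  have hDA : D ≤ A := (hA_iff D).mpr ⟨le_inf hDT hDcD, Subgroup.commutator_le_right T D⟩
  have hA1 := (hA_iff A).mp le_rfl
  have hAT : A ≤ T := hA1.1.trans inf_le_left
  have hAD : ⁅A, D⁆ = ⊥ :=
    Subgroup.commutator_eq_bot_iff_le_centralizer.mpr (hA1.1.trans inf_le_right)
  have hATD : ⁅A, T⁆ ≤ D := by rw [Subgroup.commutator_comm]; exact hA1.2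
  have hcAn : (Subgroup.centralizer (A : Set G)).Normal := inferInstance
  have hZA : A ⊓ Subgroup.centralizer (A : Set G) ≤ D := by
    refine hmax _ inferInstance (inf_le_left.trans hAT) ?_ (le_inf hDA ?_)
    · exact Subgroup.commutator_eq_bot_iff_le_centralizer.mpr
        (inf_le_right.trans (Subgroup.centralizer_le inf_le_left))
    · refine Subgroup.commutator_eq_bot_iff_le_centralizer.mp ?_
      rw [Subgroup.commutator_comm]
      exact hAD
  refine ⟨D, A, hDn, hAn, hDA, hAT, hDD, hAD, hATD, ?_⟩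
  by_contra hcon
  have hEn : (T ⊓ Subgroup.centralizer (A : Set G)).Normal := inferInstance
  obtain ⟨E, hE⟩ : ∃ E : Subgroup G, E = T ⊓ Subgroup.centralizer (A : Set G) := ⟨_, rfl⟩
  rw [← hE] at hcon hEn
  have hET : E ≤ T := by rw [hE]; exact inf_le_left
  have hEA : E ≤ Subgroup.centralizer (A : Set G) := by rw [hE]; exact inf_le_right
  have hex : ∃ m : ℕ, iterCommutator E T m ≤ D := by
    obtain ⟨m, hm⟩ := iter_eq_bot_of_nilpotent T E hET
    exact ⟨m, by rw [hm]; exact bot_le⟩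
  obtain ⟨hm0, hmin⟩ := Nat.find_spec hex, fun m => Nat.find_min hex (m := m)
  obtain ⟨m0, hm0def⟩ : ∃ m0 : ℕ, m0 = Nat.find hex := ⟨_, rfl⟩
  rw [← hm0def] at hm0 hmin
  cases m0 with
  | zero => exact hcon hm0
  | succ k =>
    have hk : ¬ iterCommutator E T k ≤ D := hmin k (by omega)
    apply hk
    have hkE : iterCommutator E T k ≤ E := iterCommutator_le_of_normal E T k
    have hkA : iterCommutator E T k ≤ A := by
      refine (hA_iff _).mpr ⟨le_inf (hkE.trans hET)
        ((hkE.trans hEA).trans (Subgroup.centralizer_le hDA)), ?_⟩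
      rw [Subgroup.commutator_comm]
      exact hm0
    exact (le_inf hkA (hkE.trans hEA)).trans hZA

end Cfsg.Agent.Lib.Helper14
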