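import Mathlib
import Cfsg.Prelude
import Cfsg.Agent.Lib.Helper14.KInfCrit

/-!
When a K-infinity subgroup of a Sylow `p`-subgroup `S` is not normal, some element of `S`
outside `O_p(G)` acts quartically on every chief factor below `O_p(G)`.
-/

set_option autoImplicit false

namespace Cfsg.Agent.Lib.Helper14

open Cfsg

universe u

variable {G : Type u} [Group G]

theorem kinf_exists_cubic_subgroup [Finite G] {p : ℕ} [Fact p.Prime] (S : Sylow p G)
    (hK : ¬ (inducedFunctor kInfLower (S : Subgroup G)).Normal ∨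
      ¬ (inducedFunctor kInfUpper (S : Subgroup G)).Normal)
    (D A : Subgroup G) [hDn : D.Normal] [hAn : A.Normal] (hDA : D ≤ A) (hAT : A ≤ pCore p G)
    (hDD : ⁅D, D⁆ = ⊥) (hAD : ⁅A, D⁆ = ⊥) (hATD : ⁅A, pCore p G⁆ ≤ D)
    (hCA : pCore p G ⊓ Subgroup.centralizer (A : Set G) ≤ D) :
    ∃ B : Subgroup G, B ≤ (S : Subgroup G) ∧ ¬ B ≤ pCore p G ∧
      ⁅⁅D, B⁆, B⁆ = ⊥ ∧ ⁅⁅⁅A, B⁆, B⁆, B⁆ ≤ D := by
  have hTp : IsPGroup p (pCore p G) := pCore_isPGroup p
  have hTS : pCore p G ≤ (S : Subgroup G) := hTp.le_sylow_of_normal S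
  have hAS : A ≤ (S : Subgroup G) := hAT.trans hTS
  have hDS : D ≤ (S : Subgroup G) := hDA.trans hAS
  have hDc : D ≤ Subgroup.centralizer (D : Set G) :=
    Subgroup.commutator_eq_bot_iff_le_centralizer.mp hDD
  have hSD : (S : Subgroup G) ≤ Subgroup.normalizer (D : Set G) := le_normalizer_of_normal' D _
  have hDcA : D ≤ Subgroup.centralizer (A : Set G) := by
    refine Subgroup.commutator_eq_bot_iff_le_centralizer.mp ?_
    rw [Subgroup.commutator_comm]
    exact hAD
  have hZA : A ⊓ Subgroup.centralizer (A : Set G) = D :=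
    le_antisymm ((le_inf (inf_le_left.trans hAT) inf_le_right).trans hCA) (le_inf hDA hDcA)
  have hAcl : A ∈ classTwoSubgroups G := by
    show ⁅A, A⁆ ≤ Subgroup.centralizer (A : Set G)
    exact ((Subgroup.commutator_mono le_rfl hAT).trans hATD).trans hDcA
  rcases kinf_dichotomy S hK with ⟨B, hBS, hBT, hB⟩ | ⟨n, B, hBS, hBT, hB, hn⟩
  · -- case (α)
    have hZB : ⁅B ⊓ Subgroup.centralizer (B : Set G), B⁆ = ⊥ :=
      Subgroup.commutator_eq_bot_iff_le_centralizer.mpr inf_le_right
    have hquad : ∀ E : Subgroup G, E ≤ relEven (S : Subgroup G) 0 → ⁅⁅E, B⁆, B⁆ = ⊥ := by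
      intro E hE
      refine comm_eq_bot_of_le ?_ le_rfl hZB
      rw [Subgroup.commutator_comm]
      exact (Subgroup.commutator_mono le_rfl hE).trans hB.2
    have hDq : ⁅⁅D, B⁆, B⁆ = ⊥ :=
      hquad D (abelian_le_rel (S : Subgroup G) D hDS hDc hSD 0).2
    by_cases hAL : A ∈ kLowerStarFamily (relOdd (S : Subgroup G) 0)
    · refine ⟨B, hBS, hBT, hDq, ?_⟩
      have h1 : A ≤ relEven (S : Subgroup G) 0 := by
        unfold relEven
        exact le_sSup ⟨hAS, hAL⟩
      rw [hquad A h1, Subgroup.commutator_bot_left]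
      exact bot_le
    · have hSA : relOdd (S : Subgroup G) 0 ≤ Subgroup.normalizer (A : Set G) :=
        le_normalizer_of_normal' A _
      have hex : ∃ A₁ ∈ classTwoSubgroups G, A₁ ≤ relOdd (S : Subgroup G) 0 ∧
          A ≤ Subgroup.normalizer (A₁ : Set G) ∧ ⁅A, ⁅A₁, A₁⁆⁆ = ⊥ ∧
          ⁅⁅A ⊓ Subgroup.centralizer (A : Set G), A₁⁆, A₁⁆ = ⊥ ∧
          ¬ ⁅A, A₁⁆ ≤ A ⊓ Subgroup.centralizer (A : Set G) := by
        by_contra hcon
        apply hAL
        refine ⟨hAcl, hSA, fun A₁ h1 h2 h3 h4 h5 => ?_⟩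
        by_contra h6
        exact hcon ⟨A₁, h1, h2, h3, h4, h5, h6⟩
      obtain ⟨A₁, -, h2, h3, h4, h5, h6⟩ := hex
      rw [hZA] at h5 h6
      have hA1S : A₁ ≤ (S : Subgroup G) := h2.trans (relOdd_le _ 0)
      have hA1T : ¬ A₁ ≤ pCore p G := fun hle =>
        h6 ((Subgroup.commutator_mono le_rfl hle).trans hATD)
      refine ⟨A₁, hA1S, hA1T, h5, ?_⟩
      have h7 : ⁅A, A₁⁆ ≤ A₁ := Subgroup.le_normalizer_iff_commutator_le_right.mp h3
      have h8 : ⁅A, A₁⁆ ≤ A := Subgroup.commutator_le_left A A₁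
      have h9 : ⁅A₁, A₁⁆ ≤ Subgroup.centralizer (A : Set G) := by
        refine Subgroup.commutator_eq_bot_iff_le_centralizer.mp ?_
        rw [Subgroup.commutator_comm]
        exact h4
      have h10 : ⁅⁅A, A₁⁆, A₁⁆ ≤ D := by
        refine (le_inf ?_ ?_).trans hCA
        · exact ((Subgroup.commutator_mono h8 le_rfl).trans h8).trans hAT
        · exact (Subgroup.commutator_mono h7 le_rfl).trans h9
      exact (Subgroup.commutator_mono h10 le_rfl).trans (Subgroup.commutator_le_left D A₁)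
  · -- case (β)
    have hZB : ⁅B ⊓ Subgroup.centralizer (B : Set G), B⁆ = ⊥ :=
      Subgroup.commutator_eq_bot_iff_le_centralizer.mpr inf_le_right
    have hBB : ⁅⁅B, B⁆, B⁆ = ⊥ := Subgroup.commutator_eq_bot_iff_le_centralizer.mpr hB.1
    refine ⟨B, hBS, hBT, ?_, ?_⟩
    · have h1 := (abelian_le_rel (S : Subgroup G) D hDS hDc hSD n).1
      have hcl : D ∈ classTwoSubgroups G := by
        show ⁅D, D⁆ ≤ Subgroup.centralizer (D : Set G)
        rw [hDD]; exact bot_le
      have h2 : ⁅B, D⁆ ≤ B ⊓ Subgroup.centralizer (B : Set G) := by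
        refine hB.2.2 D hcl h1 (le_normalizer_of_normal' D B) ?_ ?_
        · rw [hDD, Subgroup.commutator_comm]
          exact Subgroup.commutator_bot_left _
        · exact comm_eq_bot_of_le (Subgroup.commutator_le_right _ D) le_rfl hDD
      refine comm_eq_bot_of_le ?_ le_rfl hZB
      rw [Subgroup.commutator_comm]
      exact h2
    · have hArel : A ≤ relOdd (S : Subgroup G) n := by
        cases n with
        | zero => rw [relOdd_zero]; exact hAS
        | succ k =>
          rcases hn with hn | hn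
          · omega
          · rw [relOdd_succ]
            refine le_sSup ⟨hAS, hAcl, ?_⟩
            rw [hZA]
            have h1 : relEven (S : Subgroup G) k ≤ pCore p G := by simpa using hn.2
            exact (Subgroup.commutator_mono le_rfl h1).trans hATD
      have h7 : ⁅A, B⁆ ≤ B :=
        Subgroup.le_normalizer_iff_commutator_le_right.mp (hArel.trans hB.2.1)
      rw [comm_eq_bot_of_le (Subgroup.commutator_mono h7 le_rfl) le_rfl hBB]
      exact bot_le

/-- When a K-infinity subgroup of `S` is not normal in `G`, some element of `S` outside `O_p(G)`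
acts quartically on every chief factor of `G` below `O_p(G)`. -/
theorem kinf_exists_quartic_element [Finite G] {p : ℕ} [Fact p.Prime] (S : Sylow p G)
    (hK : ¬ (inducedFunctor kInfLower (S : Subgroup G)).Normal ∨
      ¬ (inducedFunctor kInfUpper (S : Subgroup G)).Normal) :
    ∃ g : G, g ∈ (S : Subgroup G) ∧ g ∉ pCore p G ∧
      ∀ U V : Subgroup G, IsChiefFactor U V → U ≤ pCore p G →
        iterCommutator U (Subgroup.zpowers g) 4 ≤ V := by
  have hTp : IsPGroup p (pCore p G) := pCore_isPGroup p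
  have hnilT : Group.IsNilpotent ↥(pCore p G) := hTp.isNilpotent
  obtain ⟨D, A, hDn, hAn, hDA, hAT, hDD, hAD, hATD, hCA⟩ := exists_critical_pair (pCore p G)
  obtain ⟨B, hBS, hBT, hDq, hAq⟩ := kinf_exists_cubic_subgroup S hK D A hDA hAT hDD hAD hATD hCA
  obtain ⟨g, hgB, hgT⟩ := SetLike.not_le_iff_exists.mp hBT
  have hz : Subgroup.zpowers g ≤ B := by rw [Subgroup.zpowers_le]; exact hgB
  refine ⟨g, hBS hgB, hgT, fun U V hUV hUT => ?_⟩
  refine quartic_of_critical (pCore p G) D A (Subgroup.zpowers g) hDA hAT hDD hAD hATD hCA ?_ ?_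
    (iter_eq_bot_of_nilpotent (pCore p G) D (hDA.trans hAT)) U V hUV hUT
  · exact comm_eq_bot_of_le (Subgroup.commutator_mono le_rfl hz) hz hDq
  · exact (Subgroup.commutator_mono (Subgroup.commutator_mono (Subgroup.commutator_mono le_rfl hz)
      hz) hz).trans hAq

end Cfsg.Agent.Lib.Helper14
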