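import Cfsg.Agent.Lib.Helper14.KInf

set_option autoImplicit false

namespace Cfsg.Agent.Lib.Helper14

open Cfsg

universe u

section transport

variable {P : Type u} [Group P] (Q : Subgroup P)

theorem map_subtype_comm_eq_bot_iff (X Y : Subgroup ↥Q) :
    ⁅X.map Q.subtype, Y.map Q.subtype⁆ = ⊥ ↔ ⁅X, Y⁆ = ⊥ := by
  rw [← Subgroup.map_commutator, Subgroup.map_eq_bot_iff_of_injective _ Q.subtype_injective]

theorem map_subtype_comm_le_iff (X Y Z : Subgroup ↥Q) :
    ⁅X.map Q.subtype, Y.map Q.subtype⁆ ≤ Z.map Q.subtype ↔ ⁅X, Y⁆ ≤ Z := by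
  rw [← Subgroup.map_commutator, Subgroup.map_le_map_iff_of_injective Q.subtype_injective]

theorem map_subtype_le_normalizer_iff (X Y : Subgroup ↥Q) :
    X.map Q.subtype ≤ Subgroup.normalizer ((Y.map Q.subtype : Subgroup P) : Set P) ↔
      X ≤ Subgroup.normalizer (Y : Set ↥Q) := by
  rw [Subgroup.le_normalizer_iff_commutator_le_right, Subgroup.le_normalizer_iff_commutator_le_right,
    map_subtype_comm_le_iff]

theorem map_subtype_inf_centralizer (X Y : Subgroup ↥Q) :
    (X ⊓ Subgroup.centralizer (Y : Set ↥Q)).map Q.subtype =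
      X.map Q.subtype ⊓ Subgroup.centralizer ((Y.map Q.subtype : Subgroup P) : Set P) := by
  ext x
  simp only [Subgroup.mem_map, Subgroup.mem_inf, Subgroup.mem_centralizer_iff, Subgroup.subtype_apply,
    SetLike.mem_coe]
  constructor
  · rintro ⟨y, ⟨hyX, hyC⟩, rfl⟩
    refine ⟨⟨y, hyX, rfl⟩, ?_⟩
    rintro _ ⟨z, hz, rfl⟩
    have := hyC z hz
    exact congrArg Subtype.val this
  · rintro ⟨⟨y, hyX, rfl⟩, hC⟩
    refine ⟨y, ⟨hyX, fun z hz => ?_⟩, rfl⟩
    apply Subtype.ext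
    exact hC z ⟨z, hz, rfl⟩

theorem map_subtype_mem_classTwo_iff (B : Subgroup ↥Q) :
    B.map Q.subtype ∈ classTwoSubgroups P ↔ B ∈ classTwoSubgroups ↥Q := by
  show ⁅B.map Q.subtype, B.map Q.subtype⁆ ≤ Subgroup.centralizer ((B.map Q.subtype : Subgroup P) : Set P) ↔
    ⁅B, B⁆ ≤ Subgroup.centralizer (B : Set ↥Q)
  rw [← Subgroup.commutator_eq_bot_iff_le_centralizer, ← Subgroup.commutator_eq_bot_iff_le_centralizer,
    ← Subgroup.map_commutator, map_subtype_comm_eq_bot_iff]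

theorem map_subtype_mem_kUpperStarFamily_iff (B R : Subgroup ↥Q) :
    B.map Q.subtype ∈ kUpperStarFamily (R.map Q.subtype) ↔ B ∈ kUpperStarFamily R := by
  show (B.map Q.subtype ∈ classTwoSubgroups P ∧ ⁅B.map Q.subtype, R.map Q.subtype⁆ ≤
      B.map Q.subtype ⊓ Subgroup.centralizer ((B.map Q.subtype : Subgroup P) : Set P)) ↔
    (B ∈ classTwoSubgroups ↥Q ∧ ⁅B, R⁆ ≤ B ⊓ Subgroup.centralizer (B : Set ↥Q))
  rw [map_subtype_mem_classTwo_iff, ← map_subtype_inf_centralizer, map_subtype_comm_le_iff]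

theorem map_subtype_mem_kLowerStarFamily_iff (B R : Subgroup ↥Q) :
    B.map Q.subtype ∈ kLowerStarFamily (R.map Q.subtype) ↔ B ∈ kLowerStarFamily R := by
  show (B.map Q.subtype ∈ classTwoSubgroups P ∧
      R.map Q.subtype ≤ Subgroup.normalizer ((B.map Q.subtype : Subgroup P) : Set P) ∧
      ∀ A ∈ classTwoSubgroups P, A ≤ R.map Q.subtype →
        B.map Q.subtype ≤ Subgroup.normalizer (A : Set P) → ⁅B.map Q.subtype, ⁅A, A⁆⁆ = ⊥ →
        ⁅⁅B.map Q.subtype ⊓ Subgroup.centralizer ((B.map Q.subtype : Subgroup P) : Set P), A⁆, A⁆ = ⊥ →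
        ⁅B.map Q.subtype, A⁆ ≤
          B.map Q.subtype ⊓ Subgroup.centralizer ((B.map Q.subtype : Subgroup P) : Set P)) ↔
    (B ∈ classTwoSubgroups ↥Q ∧ R ≤ Subgroup.normalizer (B : Set ↥Q) ∧
      ∀ A ∈ classTwoSubgroups ↥Q, A ≤ R → B ≤ Subgroup.normalizer (A : Set ↥Q) → ⁅B, ⁅A, A⁆⁆ = ⊥ →
        ⁅⁅B ⊓ Subgroup.centralizer (B : Set ↥Q), A⁆, A⁆ = ⊥ →
        ⁅B, A⁆ ≤ B ⊓ Subgroup.centralizer (B : Set ↥Q))
  rw [map_subtype_mem_classTwo_iff, map_subtype_le_normalizer_iff, ← map_subtype_inf_centralizer]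
  refine and_congr_right fun _ => and_congr_right fun _ => ?_
  constructor
  · intro h A hA hAR hBA h1 h2
    have := h (A.map Q.subtype) ((map_subtype_mem_classTwo_iff Q A).mpr hA)
      ((Subgroup.map_le_map_iff_of_injective Q.subtype_injective).mpr hAR)
      ((map_subtype_le_normalizer_iff Q B A).mpr hBA)
      (by rw [← Subgroup.map_commutator, map_subtype_comm_eq_bot_iff]; exact h1)
      (by rw [← Subgroup.map_commutator, map_subtype_comm_eq_bot_iff]; exact h2)
    exact (map_subtype_comm_le_iff Q _ _ _).mp this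
  · intro h A hA hAR hBA h1 h2
    have hAQ : A ≤ Q := le_trans hAR (Subgroup.map_subtype_le R)
    obtain ⟨A', rfl⟩ : ∃ A' : Subgroup ↥Q, A'.map Q.subtype = A :=
      ⟨A.subgroupOf Q, Subgroup.map_subgroupOf_eq_of_le hAQ⟩
    have := h A' ((map_subtype_mem_classTwo_iff Q A').mp hA)
      ((Subgroup.map_le_map_iff_of_injective Q.subtype_injective).mp hAR)
      ((map_subtype_le_normalizer_iff Q B A').mp hBA)
      (by rw [← Subgroup.map_commutator, map_subtype_comm_eq_bot_iff] at h1; exact h1)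
      (by rw [← Subgroup.map_commutator, map_subtype_comm_eq_bot_iff] at h2; exact h2)
    exact (map_subtype_comm_le_iff Q _ _ _).mpr this

theorem map_subtype_sSup_family (𝒦 : Set (Subgroup ↥Q)) (𝒦' : Set (Subgroup P))
    (h : ∀ B : Subgroup ↥Q, B.map Q.subtype ∈ 𝒦' ↔ B ∈ 𝒦) :
    (sSup 𝒦).map Q.subtype = sSup {B : Subgroup P | B ≤ Q ∧ B ∈ 𝒦'} := by
  apply le_antisymm
  · rw [Subgroup.map_le_iff_le_comap]
    refine sSup_le fun B hB => ?_
    rw [← Subgroup.map_le_iff_le_comap]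
    exact le_sSup ⟨Subgroup.map_subtype_le B, (h B).mpr hB⟩
  · refine sSup_le fun B hB => ?_
    obtain ⟨B', rfl⟩ : ∃ B' : Subgroup ↥Q, B'.map Q.subtype = B :=
      ⟨B.subgroupOf Q, Subgroup.map_subgroupOf_eq_of_le hB.1⟩
    exact Subgroup.map_mono (le_sSup ((h B').mp hB.2))

end transport

section interleave

variable {P : Type u} [Group P] (Q : Subgroup P)

/-- The odd terms of the K-sequence of `Q`, computed inside `P`. -/
def relOdd : ℕ → Subgroup P
  | 0 => Q
  | n + 1 => sSup {B : Subgroup P | B ≤ Q ∧ B ∈ kUpperStarFamily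
      (sSup {B : Subgroup P | B ≤ Q ∧ B ∈ kLowerStarFamily (relOdd n)})}

/-- The even terms of the K-sequence of `Q`, computed inside `P`. -/
def relEven (n : ℕ) : Subgroup P :=
  sSup {B : Subgroup P | B ≤ Q ∧ B ∈ kLowerStarFamily (relOdd Q n)}

theorem relOdd_succ (n : ℕ) :
    relOdd Q (n + 1) = sSup {B : Subgroup P | B ≤ Q ∧ B ∈ kUpperStarFamily (relEven Q n)} := by
  rw [relOdd, relEven]

theorem map_kSeqOdd (n : ℕ) : (kSeqOdd ↥Q n).map Q.subtype = relOdd Q n := by
  induction n with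
  | zero =>
    rw [kSeqOdd_zero, relOdd, ← MonoidHom.range_eq_map, Subgroup.range_subtype]
  | succ n ih =>
    rw [kSeqOdd_succ, relOdd]
    have h1 : (sSup (kLowerStarFamily (kSeqOdd ↥Q n))).map Q.subtype =
        sSup {B : Subgroup P | B ≤ Q ∧ B ∈ kLowerStarFamily (relOdd Q n)} := by
      apply map_subtype_sSup_family
      intro B
      rw [← ih]
      exact map_subtype_mem_kLowerStarFamily_iff Q B _
    apply map_subtype_sSup_family
    intro B
    rw [← h1]
    exact map_subtype_mem_kUpperStarFamily_iff Q B _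

theorem map_kSeqEven (n : ℕ) : (kSeqEven ↥Q n).map Q.subtype = relEven Q n := by
  unfold kSeqEven relEven
  apply map_subtype_sSup_family
  intro B
  rw [← map_kSeqOdd]
  exact map_subtype_mem_kLowerStarFamily_iff Q B _

variable (hQ : ∀ n : ℕ, kSeqEven P n ≤ Q ∧ kSeqOdd P (n + 1) ≤ Q)
include hQ

theorem rel_le_aux (n : ℕ) : relOdd Q n ≤ kSeqOdd P n ∧ kSeqEven P n ≤ relEven Q n := by
  have step : ∀ n, relOdd Q n ≤ kSeqOdd P n → kSeqEven P n ≤ relEven Q n := by
    intro n h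
    unfold kSeqEven relEven
    refine sSup_le fun B hB => ?_
    refine le_sSup ⟨le_trans (le_sSup hB) (hQ n).1, kLowerStarFamily_anti h hB⟩
  induction n with
  | zero =>
    have h0 : relOdd Q 0 ≤ kSeqOdd P 0 := by rw [kSeqOdd_zero]; exact le_top
    exact ⟨h0, step 0 h0⟩
  | succ n ih =>
    have h1 : relOdd Q (n + 1) ≤ kSeqOdd P (n + 1) := by
      rw [relOdd_succ, kSeqOdd_succ_eq]
      refine sSup_le fun B hB => ?_
      exact le_sSup (kUpperStarFamily_anti ih.2 hB.2)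
    exact ⟨h1, step (n + 1) h1⟩

theorem rel_ge_aux (n : ℕ) : kSeqOdd P (n + 1) ≤ relOdd Q n ∧ relEven Q n ≤ kSeqEven P (n + 1) := by
  have step : ∀ n, kSeqOdd P (n + 1) ≤ relOdd Q n → relEven Q n ≤ kSeqEven P (n + 1) := by
    intro n h
    unfold kSeqEven relEven
    refine sSup_le fun B hB => ?_
    exact le_sSup (kLowerStarFamily_anti h hB.2)
  induction n with
  | zero =>
    have h0 : kSeqOdd P (0 + 1) ≤ relOdd Q 0 := by rw [relOdd]; exact (hQ 0).2
    exact ⟨h0, step 0 h0⟩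
  | succ n ih =>
    have h1 : kSeqOdd P (n + 1 + 1) ≤ relOdd Q (n + 1) := by
      rw [relOdd_succ, kSeqOdd_succ_eq]
      refine sSup_le fun B hB => ?_
      refine le_sSup ⟨?_, kUpperStarFamily_anti ih.2 hB⟩
      have := (hQ (n + 1)).2
      rw [kSeqOdd_succ_eq] at this
      exact le_trans (le_sSup hB) this
    exact ⟨h1, step (n + 1) h1⟩

theorem map_kInfLower_eq : (kInfLower ↥Q).map Q.subtype = kInfLower P := by
  unfold kInfLower
  rw [Subgroup.map_iSup]
  apply le_antisymm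
  · refine iSup_le fun n => ?_
    rw [map_kSeqEven]
    exact le_trans (rel_ge_aux Q hQ n).2 (le_iSup (kSeqEven P) (n + 1))
  · refine iSup_le fun n => ?_
    refine le_trans (rel_le_aux Q hQ n).2 ?_
    rw [← map_kSeqEven]
    exact le_iSup (fun n => (kSeqEven ↥Q n).map Q.subtype) n

theorem map_kInfUpper_eq : (kInfUpper ↥Q).map Q.subtype = kInfUpper P := by
  unfold kInfUpper
  rw [Subgroup.map_iInf _ Q.subtype_injective]
  apply le_antisymm
  · refine le_iInf fun n => ?_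
    refine le_trans (iInf_le _ n) ?_
    rw [map_kSeqOdd]
    exact (rel_le_aux Q hQ n).1
  · refine le_iInf fun n => ?_
    rw [map_kSeqOdd]
    exact le_trans (iInf_le _ (n + 1)) (rel_ge_aux Q hQ n).1

end interleave

end Cfsg.Agent.Lib.Helper14
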