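import Cfsg.Agent.Lib.Helper14.KInfMax
import Cfsg.Agent.Lib.Helper14.KInfSub
import Cfsg.Agent.Lib.Helper14.Sections

set_option autoImplicit false

/-!
The K-infinity subgroups are isomorphism-invariant `p`-group functors.
-/

namespace Cfsg.Agent.Lib.Helper14

open Cfsg

universe u

section equiv

variable {P P' : Type u} [Group P] [Group P'] (e : P ≃* P')

theorem map_equiv_comm_eq_bot_iff (X Y : Subgroup P) :
    ⁅X.map e.toMonoidHom, Y.map e.toMonoidHom⁆ = ⊥ ↔ ⁅X, Y⁆ = ⊥ := by
  rw [← Subgroup.map_commutator, Subgroup.map_eq_bot_iff_of_injective _ e.injective]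

theorem map_equiv_comm_le_iff (X Y Z : Subgroup P) :
    ⁅X.map e.toMonoidHom, Y.map e.toMonoidHom⁆ ≤ Z.map e.toMonoidHom ↔ ⁅X, Y⁆ ≤ Z := by
  rw [← Subgroup.map_commutator, Subgroup.map_le_map_iff_of_injective e.injective]

theorem map_equiv_le_normalizer_iff (X Y : Subgroup P) :
    X.map e.toMonoidHom ≤ Subgroup.normalizer ((Y.map e.toMonoidHom : Subgroup P') : Set P') ↔
      X ≤ Subgroup.normalizer (Y : Set P) := by
  rw [Subgroup.le_normalizer_iff_commutator_le_right, Subgroup.le_normalizer_iff_commutator_le_right,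
    map_equiv_comm_le_iff]

theorem map_equiv_inf_centralizer (X Y : Subgroup P) :
    (X ⊓ Subgroup.centralizer (Y : Set P)).map e.toMonoidHom =
      X.map e.toMonoidHom ⊓ Subgroup.centralizer ((Y.map e.toMonoidHom : Subgroup P') : Set P') := by
  ext x
  simp only [Subgroup.mem_map, Subgroup.mem_inf, Subgroup.mem_centralizer_iff,
    SetLike.mem_coe]
  constructor
  · rintro ⟨y, ⟨hyX, hyC⟩, rfl⟩
    refine ⟨⟨y, hyX, rfl⟩, ?_⟩
    rintro _ ⟨z, hz, rfl⟩
    have := hyC z hz
    rw [← map_mul, ← map_mul, this]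
  · rintro ⟨⟨y, hyX, rfl⟩, hC⟩
    refine ⟨y, ⟨hyX, fun z hz => ?_⟩, rfl⟩
    apply e.injective
    have := hC (e z) ⟨z, hz, rfl⟩
    simpa using this

theorem map_equiv_mem_classTwo_iff (B : Subgroup P) :
    B.map e.toMonoidHom ∈ classTwoSubgroups P' ↔ B ∈ classTwoSubgroups P := by
  show ⁅B.map e.toMonoidHom, B.map e.toMonoidHom⁆ ≤
      Subgroup.centralizer ((B.map e.toMonoidHom : Subgroup P') : Set P') ↔
    ⁅B, B⁆ ≤ Subgroup.centralizer (B : Set P)
  rw [← Subgroup.commutator_eq_bot_iff_le_centralizer, ← Subgroup.commutator_eq_bot_iff_le_centralizer,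
    ← Subgroup.map_commutator, map_equiv_comm_eq_bot_iff]

theorem map_equiv_mem_kUpperStarFamily_iff (B R : Subgroup P) :
    B.map e.toMonoidHom ∈ kUpperStarFamily (R.map e.toMonoidHom) ↔ B ∈ kUpperStarFamily R := by
  show (B.map e.toMonoidHom ∈ classTwoSubgroups P' ∧ ⁅B.map e.toMonoidHom, R.map e.toMonoidHom⁆ ≤
      B.map e.toMonoidHom ⊓
        Subgroup.centralizer ((B.map e.toMonoidHom : Subgroup P') : Set P')) ↔
    (B ∈ classTwoSubgroups P ∧ ⁅B, R⁆ ≤ B ⊓ Subgroup.centralizer (B : Set P))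
  rw [map_equiv_mem_classTwo_iff, ← map_equiv_inf_centralizer, map_equiv_comm_le_iff]

theorem exists_map_equiv_eq (A : Subgroup P') : ∃ A' : Subgroup P, A'.map e.toMonoidHom = A :=
  ⟨A.comap e.toMonoidHom, Subgroup.map_comap_eq_self_of_surjective e.surjective A⟩

theorem map_equiv_mem_kLowerStarFamily_iff (B R : Subgroup P) :
    B.map e.toMonoidHom ∈ kLowerStarFamily (R.map e.toMonoidHom) ↔ B ∈ kLowerStarFamily R := by
  show (B.map e.toMonoidHom ∈ classTwoSubgroups P' ∧
      R.map e.toMonoidHom ≤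
        Subgroup.normalizer ((B.map e.toMonoidHom : Subgroup P') : Set P') ∧
      ∀ A ∈ classTwoSubgroups P', A ≤ R.map e.toMonoidHom →
        B.map e.toMonoidHom ≤ Subgroup.normalizer (A : Set P') →
        ⁅B.map e.toMonoidHom, ⁅A, A⁆⁆ = ⊥ →
        ⁅⁅B.map e.toMonoidHom ⊓
          Subgroup.centralizer ((B.map e.toMonoidHom : Subgroup P') : Set P'), A⁆, A⁆ = ⊥ →
        ⁅B.map e.toMonoidHom, A⁆ ≤
          B.map e.toMonoidHom ⊓
            Subgroup.centralizer ((B.map e.toMonoidHom : Subgroup P') : Set P')) ↔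
    (B ∈ classTwoSubgroups P ∧ R ≤ Subgroup.normalizer (B : Set P) ∧
      ∀ A ∈ classTwoSubgroups P, A ≤ R → B ≤ Subgroup.normalizer (A : Set P) → ⁅B, ⁅A, A⁆⁆ = ⊥ →
        ⁅⁅B ⊓ Subgroup.centralizer (B : Set P), A⁆, A⁆ = ⊥ →
        ⁅B, A⁆ ≤ B ⊓ Subgroup.centralizer (B : Set P))
  rw [map_equiv_mem_classTwo_iff, map_equiv_le_normalizer_iff, ← map_equiv_inf_centralizer]
  refine and_congr_right fun _ => and_congr_right fun _ => ?_
  constructor
  · intro h A hA hAR hBA h1 h2
    have := h (A.map e.toMonoidHom) ((map_equiv_mem_classTwo_iff e A).mpr hA)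
      ((Subgroup.map_le_map_iff_of_injective e.injective).mpr hAR)
      ((map_equiv_le_normalizer_iff e B A).mpr hBA)
      (by rw [← Subgroup.map_commutator, map_equiv_comm_eq_bot_iff]; exact h1)
      (by rw [← Subgroup.map_commutator, map_equiv_comm_eq_bot_iff]; exact h2)
    exact (map_equiv_comm_le_iff e _ _ _).mp this
  · intro h A hA hAR hBA h1 h2
    obtain ⟨A', rfl⟩ := exists_map_equiv_eq e A
    have := h A' ((map_equiv_mem_classTwo_iff e A').mp hA)
      ((Subgroup.map_le_map_iff_of_injective e.injective).mp hAR)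
      ((map_equiv_le_normalizer_iff e B A').mp hBA)
      (by rw [← Subgroup.map_commutator, map_equiv_comm_eq_bot_iff] at h1; exact h1)
      (by rw [← Subgroup.map_commutator, map_equiv_comm_eq_bot_iff] at h2; exact h2)
    exact (map_equiv_comm_le_iff e _ _ _).mpr this

theorem map_equiv_sSup_family (𝒦 : Set (Subgroup P)) (𝒦' : Set (Subgroup P'))
    (h : ∀ B : Subgroup P, B.map e.toMonoidHom ∈ 𝒦' ↔ B ∈ 𝒦) :
    (sSup 𝒦).map e.toMonoidHom = sSup 𝒦' := by
  apply le_antisymm
  · rw [Subgroup.map_le_iff_le_comap]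
    refine sSup_le fun B hB => ?_
    rw [← Subgroup.map_le_iff_le_comap]
    exact le_sSup ((h B).mpr hB)
  · refine sSup_le fun B hB => ?_
    obtain ⟨B', rfl⟩ := exists_map_equiv_eq e B
    exact Subgroup.map_mono (le_sSup ((h B').mp hB))

theorem map_equiv_kSeqOdd (n : ℕ) : (kSeqOdd P n).map e.toMonoidHom = kSeqOdd P' n := by
  induction n with
  | zero =>
    rw [kSeqOdd_zero, kSeqOdd_zero]
    exact Subgroup.map_top_of_surjective _ e.surjective
  | succ n ih =>
    rw [kSeqOdd_succ, kSeqOdd_succ]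
    have h1 : (sSup (kLowerStarFamily (kSeqOdd P n))).map e.toMonoidHom =
        sSup (kLowerStarFamily (kSeqOdd P' n)) := by
      apply map_equiv_sSup_family
      intro B
      rw [← ih]
      exact map_equiv_mem_kLowerStarFamily_iff e B _
    apply map_equiv_sSup_family
    intro B
    rw [← h1]
    exact map_equiv_mem_kUpperStarFamily_iff e B _

theorem map_equiv_kSeqEven (n : ℕ) : (kSeqEven P n).map e.toMonoidHom = kSeqEven P' n := by
  unfold kSeqEven
  apply map_equiv_sSup_family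
  intro B
  rw [← map_equiv_kSeqOdd e n]
  exact map_equiv_mem_kLowerStarFamily_iff e B _

theorem map_equiv_kInfLower : (kInfLower P).map e.toMonoidHom = kInfLower P' := by
  unfold kInfLower
  rw [Subgroup.map_iSup]
  congr 1
  funext n
  exact map_equiv_kSeqEven e n

theorem map_equiv_kInfUpper : (kInfUpper P).map e.toMonoidHom = kInfUpper P' := by
  unfold kInfUpper
  rw [Subgroup.map_iInf _ e.injective]
  congr 1
  funext n
  exact map_equiv_kSeqOdd e n

end equiv

theorem center_le_kInf {p : ℕ} [Fact p.Prime] (P : Type u) [Group P] [Finite P]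
    (hP : IsPGroup p P) :
    Subgroup.center P ≤ kInfLower P ∧ Subgroup.center P ≤ kInfUpper P := by
  have hnil : Group.IsNilpotent P := hP.isNilpotent
  obtain ⟨h1, h2⟩ := centralizer_kInf_le (P := P)
  have hc : ∀ K : Subgroup P, Subgroup.center P ≤ Subgroup.centralizer (K : Set P) := by
    intro K z hz
    rw [Subgroup.mem_centralizer_iff]
    intro k _
    exact (Subgroup.mem_center_iff.mp hz k)
  exact ⟨(hc _).trans h1, (hc _).trans h2⟩

theorem isCharPFunctor_kInfLower (p : ℕ) [Fact p.Prime] : IsCharPFunctor.{u} p kInfLower := by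
  refine ⟨?_, ?_⟩
  · intro Q _ _ hQ hnt h
    have h1 := (center_le_kInf Q hQ).1
    rw [h] at h1
    have h2 : Subgroup.center Q ≠ ⊥ := by
      have := hQ.center_nontrivial
      exact (Subgroup.nontrivial_iff_ne_bot _).mp this
    exact h2 (le_bot_iff.mp h1)
  · intro Q R _ _ _ _ φ
    exact map_equiv_kInfLower φ

theorem isCharPFunctor_kInfUpper (p : ℕ) [Fact p.Prime] : IsCharPFunctor.{u} p kInfUpper := by
  refine ⟨?_, ?_⟩
  · intro Q _ _ hQ hnt h
    have h1 := (center_le_kInf Q hQ).2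
    rw [h] at h1
    have h2 : Subgroup.center Q ≠ ⊥ := by
      have := hQ.center_nontrivial
      exact (Subgroup.nontrivial_iff_ne_bot _).mp this
    exact h2 (le_bot_iff.mp h1)
  · intro Q R _ _ _ _ φ
    exact map_equiv_kInfUpper φ

end Cfsg.Agent.Lib.Helper14
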