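import Mathlib
import Cfsg.Prelude
import Cfsg.Agent.Lib.Helper14.Sections
import Cfsg.Agent.Lib.Helper14.Cores
import Cfsg.Agent.Lib.Helper14.KInfQuartic
import Cfsg.Agent.Lib.Helper18.Basic

/-!
General tools for the `p`-stability argument: an elementwise form of normalizer `p`-stability,
coprime action, and a criterion for a `p`-subgroup to lie in `O_p`.
-/

set_option autoImplicit false

namespace Cfsg.Agent.Lib.Helper14

open Cfsg

universe u

/-- An elementwise consequence of normalizer `p`-stability. -/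
def QStable (p : ℕ) (Y : Type u) [Group Y] : Prop :=
  ∀ (P : Subgroup Y), IsPGroup p P → ∀ g ∈ Subgroup.normalizer (P : Set Y),
    ⁅⁅P, Subgroup.zpowers g⁆, Subgroup.zpowers g⁆ = ⊥ →
    ∃ O : Subgroup Y, g ∈ O ∧ O ≤ Subgroup.normalizer (P : Set Y) ∧
      Subgroup.normalizer (P : Set Y) ≤ Subgroup.normalizer (O : Set Y) ∧
      ∀ x ∈ O, ∃ k : ℕ, x ^ (p ^ k) ∈ Subgroup.centralizer (P : Set Y)

theorem qStable_of_nps {p : ℕ} [Fact p.Prime] {Y : Type u} [Group Y] [Finite Y]
    (h : IsNormalizerPStable p Y) : QStable p Y := by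
  intro P hP g hg hq
  have h1 := h P hP g hg hq
  refine ⟨((pCore p (↥(Subgroup.normalizer (P : Set Y)) ⧸
      (Subgroup.centralizer (P : Set Y)).subgroupOf (Subgroup.normalizer (P : Set Y)))).comap
      (QuotientGroup.mk' _)).map (Subgroup.normalizer (P : Set Y)).subtype, ?_, ?_, ?_, ?_⟩
  · exact ⟨⟨g, hg⟩, h1, rfl⟩
  · exact Subgroup.map_subtype_le _
  · rw [← Subgroup.normal_subgroupOf_iff_le_normalizer (Subgroup.map_subtype_le _)]
    have e : (((pCore p (↥(Subgroup.normalizer (P : Set Y)) ⧸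
        (Subgroup.centralizer (P : Set Y)).subgroupOf (Subgroup.normalizer (P : Set Y)))).comap
        (QuotientGroup.mk' _)).map (Subgroup.normalizer (P : Set Y)).subtype).subgroupOf
        (Subgroup.normalizer (P : Set Y)) = (pCore p (↥(Subgroup.normalizer (P : Set Y)) ⧸
        (Subgroup.centralizer (P : Set Y)).subgroupOf (Subgroup.normalizer (P : Set Y)))).comap
        (QuotientGroup.mk' _) :=
      Subgroup.comap_map_eq_self_of_injective (Subgroup.subtype_injective _) _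
    rw [e]
    infer_instance
  · rintro x ⟨y, hy, rfl⟩
    have hy' : QuotientGroup.mk' _ y ∈ pCore p (↥(Subgroup.normalizer (P : Set Y)) ⧸
        (Subgroup.centralizer (P : Set Y)).subgroupOf (Subgroup.normalizer (P : Set Y))) := hy
    obtain ⟨k, hk⟩ := (pCore_isPGroup p) ⟨_, hy'⟩
    refine ⟨k, ?_⟩
    have hk' : (QuotientGroup.mk' ((Subgroup.centralizer (P : Set Y)).subgroupOf
        (Subgroup.normalizer (P : Set Y))) y) ^ (p ^ k) = 1 := by
      simpa using congrArg Subtype.val hk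
    rw [← map_pow, QuotientGroup.mk'_apply, QuotientGroup.eq_one_iff,
      Subgroup.mem_subgroupOf] at hk'
    simpa using hk'

theorem qStable_of_equiv {p : ℕ} {Y Z : Type u} [Group Y] [Group Z] (e : Y ≃* Z)
    (h : QStable p Z) : QStable p Y := by
  intro P hP g hg hq
  have hmem : ∀ (K : Subgroup Y) (y : Y), e y ∈ K.map e.toMonoidHom ↔ y ∈ K := fun K y =>
    Subgroup.mem_map_iff_mem e.injective
  have hnorm : ∀ x : Y, x ∈ Subgroup.normalizer (P : Set Y) ↔
      e x ∈ Subgroup.normalizer ((P.map e.toMonoidHom : Subgroup Z) : Set Z) := by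
    intro x
    rw [Subgroup.mem_normalizer_iff, Subgroup.mem_normalizer_iff]
    constructor
    · intro hx z
      obtain ⟨y, rfl⟩ := e.surjective z
      rw [hmem, ← map_inv, ← map_mul, ← map_mul, hmem]
      exact hx y
    · intro hx y
      have := hx (e y)
      rw [hmem, ← map_inv, ← map_mul, ← map_mul, hmem] at this
      exact this
  have hq' : ⁅⁅P.map e.toMonoidHom, Subgroup.zpowers (e g)⁆, Subgroup.zpowers (e g)⁆ = ⊥ := by
    have h1 : Subgroup.zpowers (e g) = (Subgroup.zpowers g).map e.toMonoidHom := by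
      rw [MonoidHom.map_zpowers]; rfl
    rw [h1, ← Subgroup.map_commutator, ← Subgroup.map_commutator, hq, Subgroup.map_bot]
  obtain ⟨O, hgO, hON, hNO, hpow⟩ := h (P.map e.toMonoidHom) (hP.map _) (e g) ((hnorm g).mp hg) hq'
  refine ⟨O.comap e.toMonoidHom, hgO, ?_, ?_, ?_⟩
  · intro x hx
    exact (hnorm x).mpr (hON hx)
  · intro x hx
    have h2 := hNO ((hnorm x).mp hx)
    rw [Subgroup.mem_normalizer_iff] at h2 ⊢
    intro y
    show e y ∈ O ↔ e (x * y * x⁻¹) ∈ O
    rw [map_mul, map_mul, map_inv]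
    exact h2 (e y)
  · intro x hx
    obtain ⟨k, hk⟩ := hpow (e x) hx
    refine ⟨k, ?_⟩
    rw [Subgroup.mem_centralizer_iff] at hk ⊢
    intro y hy
    have h3 := hk (e y) (Subgroup.mem_map_of_mem _ hy)
    apply e.injective
    rw [map_mul, map_mul, map_pow]
    exact h3

/-- Coprime action: an element of order prime to `p` that centralizes the `p`-group `W` and
moves every element of `V` by an element of `W` centralizes `V`. -/
theorem coprime_centralize {p : ℕ} {X : Type u} [Group X] (y : X)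
    (hy : (orderOf y).Coprime p) (V W : Subgroup X) (hW : IsPGroup p W)
    (hyW : ∀ w ∈ W, y * w = w * y) (hV : ∀ v ∈ V, y * v * y⁻¹ * v⁻¹ ∈ W) :
    ∀ v ∈ V, y * v = v * y := by
  intro v hv
  obtain ⟨u, hu⟩ : ∃ u, u = y * v * y⁻¹ * v⁻¹ := ⟨_, rfl⟩
  have huW : u ∈ W := hu ▸ hV v hv
  have hyu : Commute y u := hyW u huW
  have hconj : y * v * y⁻¹ = u * v := by rw [hu]; group
  have key : ∀ n : ℕ, y ^ n * v * (y ^ n)⁻¹ = u ^ n * v := by
    intro n
    induction n with
    | zero => simp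
    | succ n ih =>
      have hyun : y * u ^ n = u ^ n * y := (hyu.pow_right n)
      calc y ^ (n + 1) * v * (y ^ (n + 1))⁻¹ = y * (y ^ n * v * (y ^ n)⁻¹) * y⁻¹ := by
            rw [pow_succ']; group
        _ = y * (u ^ n * v) * y⁻¹ := by rw [ih]
        _ = (y * u ^ n) * y⁻¹ * (y * v * y⁻¹) := by group
        _ = u ^ n * y * y⁻¹ * (u * v) := by rw [hconj, hyun]
        _ = u ^ (n + 1) * v := by rw [pow_succ]; group
  have h1 := key (orderOf y)
  rw [pow_orderOf_eq_one] at h1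
  have h2 : u ^ orderOf y = 1 := by
    have h1' : v = u ^ orderOf y * v := by simpa using h1
    have := mul_right_cancel (a := 1) (b := v) (c := u ^ orderOf y) (by rw [one_mul]; exact h1')
    exact this.symm
  obtain ⟨j, hj⟩ := hW ⟨u, huW⟩
  have hj' : u ^ (p ^ j) = 1 := by simpa using congrArg Subtype.val hj
  have h3 : orderOf u = 1 := Nat.eq_one_of_dvd_coprimes (Nat.Coprime.pow_right j hy)
    (orderOf_dvd_of_pow_eq_one h2) (orderOf_dvd_of_pow_eq_one hj')
  have hu1 : u = 1 := orderOf_eq_one_iff.mp h3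
  rw [hu1, one_mul] at hconj
  calc y * v = y * v * y⁻¹ * y := by group
    _ = v * y := by rw [hconj]

theorem mem_of_pow_mem_of_coprime {p : ℕ} {X : Type u} [Group X] (K : Subgroup X) (y : X)
    (hy : (orderOf y).Coprime p) (k : ℕ) (h : y ^ (p ^ k) ∈ K) : y ∈ K := by
  obtain ⟨m, hm⟩ := exists_pow_eq_self_of_coprime (x := y) (n := p ^ k)
    (Nat.Coprime.pow_left k hy.symm)
  rw [← hm]
  exact pow_mem h m

theorem isPGroup_of_coprime_trivial {p : ℕ} [hp : Fact p.Prime] {X : Type u} [Group X]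
    [Finite X] (O : Subgroup X) (h : ∀ y ∈ O, (orderOf y).Coprime p → y = 1) :
    IsPGroup p O := by
  rintro ⟨x, hx⟩
  have hpos : orderOf x ≠ 0 := (orderOf_pos x).ne'
  obtain ⟨a, m, hm, hc⟩ := Nat.exists_eq_pow_mul_and_not_dvd hpos p hp.out.ne_one
  refine ⟨a, ?_⟩
  have h1 : (x ^ (p ^ a)) ^ m = 1 := by
    rw [← pow_mul, ← hc]
    exact pow_orderOf_eq_one x
  have h2 : (orderOf (x ^ (p ^ a))).Coprime p :=
    Nat.Coprime.coprime_dvd_left (orderOf_dvd_of_pow_eq_one h1)
      ((Nat.Prime.coprime_iff_not_dvd hp.out).mpr hm).symm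
  have h3 := h _ (pow_mem hx _) h2
  exact Subtype.ext h3

/-- A normal `p`-subgroup of a normal subgroup lies in `O_p`. -/
theorem le_pCore_of_normal_in_normal {p : ℕ} {X : Type u} [Group X]
    (N K : Subgroup X) [hN : N.Normal] (hKN : K ≤ N)
    (hn : N ≤ Subgroup.normalizer (K : Set X)) (hK : IsPGroup p K) : K ≤ pCore p X := by
  have h1 : K ≤ pCoreOf p N := Cfsg.Agent.Lib.Helper18.le_pCoreOf hKN hn hK
  have h2 : pCoreOf p N ≤ pCoreOf p (⊤ : Subgroup X) :=
    Cfsg.Agent.Lib.Helper18.pCoreOf_le_pCoreOf_of_normal le_top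
      (by rw [Subgroup.normalizer_eq_top])
  rw [Cfsg.Agent.Lib.Helper18.pCoreOf_top] at h2
  exact h1.trans h2

/-- If `E` is normal, `Z'` is a normal subgroup of `E` centralizing `E` modulo `O_p`, and `E / Z'`
is a `p`-group, then every `p`-subgroup of `E` lies in `O_p`. -/
theorem le_pCore_of_central_mod {p : ℕ} [hp : Fact p.Prime] {X : Type u} [Group X] [Finite X]
    (E Z' : Subgroup X) [hE : E.Normal] [hZ : Z'.Normal] (hTE : pCore p X ≤ E) (hZE : Z' ≤ E)
    (hcomm : ∀ n ∈ Z', ∀ y ∈ E, n * y * n⁻¹ * y⁻¹ ∈ pCore p X)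
    (hpow : ∀ y ∈ E, ∃ k : ℕ, y ^ (p ^ k) ∈ Z')
    (B : Subgroup X) (hBE : B ≤ E) (hBp : IsPGroup p B) : B ≤ pCore p X := by
  classical
  have hTp : IsPGroup p (pCore p X) := pCore_isPGroup p
  obtain ⟨P, hBP⟩ := (hBp.comap_subtype (K := E)).exists_le_sylow
  -- `T ≤ P`
  have hTn : ((pCore p X).subgroupOf E).Normal := inferInstance
  have hTP : (pCore p X).subgroupOf E ≤ (P : Subgroup ↥E) :=
    (hTp.comap_subtype (K := E)).le_sylow_of_normal P
  -- `Z'` normalizes `P`
  have hZn : Z'.subgroupOf E ≤ Subgroup.normalizer ((P : Subgroup ↥E) : Set ↥E) := by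
    have key : ∀ n : ↥E, n ∈ Z'.subgroupOf E → ∀ y : ↥E, y ∈ (P : Subgroup ↥E) →
        n * y * n⁻¹ ∈ (P : Subgroup ↥E) := by
      intro n hn y hy
      have h1 : n * y * n⁻¹ * y⁻¹ ∈ (pCore p X).subgroupOf E := by
        rw [Subgroup.mem_subgroupOf]
        exact hcomm n (Subgroup.mem_subgroupOf.mp hn) y y.2
      have h2 := mul_mem (hTP h1) hy
      simpa using h2
    intro n hn
    rw [Subgroup.mem_normalizer_iff]
    intro y
    constructor
    · exact key n hn y
    · intro hy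
      have := key n⁻¹ (inv_mem hn) _ hy
      simpa [mul_assoc] using this
  have hW : Z'.subgroupOf E ⊔ (P : Subgroup ↥E) ≤
      Subgroup.normalizer ((P : Subgroup ↥E) : Set ↥E) := sup_le hZn Subgroup.le_normalizer
  -- the index of `Z' P` is `1`
  have hZn' : (Z'.subgroupOf E).Normal := inferInstance
  have hquot : IsPGroup p (↥E ⧸ Z'.subgroupOf E) := by
    intro q
    obtain ⟨y, rfl⟩ := QuotientGroup.mk'_surjective (Z'.subgroupOf E) q
    obtain ⟨k, hk⟩ := hpow y y.2
    refine ⟨k, ?_⟩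
    rw [← map_pow, QuotientGroup.mk'_apply, QuotientGroup.eq_one_iff, Subgroup.mem_subgroupOf]
    simpa using hk
  obtain ⟨j, hj⟩ := hquot.exists_card_eq
  have hidx1 : (Z'.subgroupOf E ⊔ (P : Subgroup ↥E)).index ∣ p ^ j := by
    rw [← hj, ← Subgroup.index_eq_card]
    exact Subgroup.index_dvd_of_le le_sup_left
  have hidx2 : (Z'.subgroupOf E ⊔ (P : Subgroup ↥E)).index ∣ (P : Subgroup ↥E).index :=
    Subgroup.index_dvd_of_le le_sup_right
  have hidx : (Z'.subgroupOf E ⊔ (P : Subgroup ↥E)).index = 1 := by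
    obtain ⟨i, -, hi⟩ := (Nat.dvd_prime_pow hp.out).mp hidx1
    rw [hi] at hidx2 ⊢
    cases i with
    | zero => rfl
    | succ i =>
      exfalso
      exact P.not_dvd_index ((dvd_pow_self p (Nat.succ_ne_zero i)).trans hidx2)
  have htop : Z'.subgroupOf E ⊔ (P : Subgroup ↥E) = ⊤ := Subgroup.index_eq_one.mp hidx
  have hPn : (P : Subgroup ↥E).Normal := by
    rw [← Subgroup.normalizer_eq_top_iff, eq_top_iff, ← htop]
    exact hW
  have huniq := Sylow.unique_of_normal P hPn
  -- the image of `P` is normal in `X`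
  have hPX : ((P : Subgroup ↥E).map E.subtype).Normal := by
    constructor
    rintro _ ⟨y, hy, rfl⟩ g
    have hmem : g * (y : X) * g⁻¹ ∈ E := hE.conj_mem _ y.2 g
    obtain ⟨Q, hQ⟩ : ∃ Q : Subgroup X, Q = ((P : Subgroup ↥E).map E.subtype).map
        (MulAut.conj g).toMonoidHom := ⟨_, rfl⟩
    have hQp : IsPGroup p Q := by
      rw [hQ]
      exact (P.isPGroup'.map _).map _
    obtain ⟨P₂, hP₂⟩ := (hQp.comap_subtype (K := E)).exists_le_sylow
    have hP₂P : P₂ = P := Subsingleton.elim _ _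
    rw [hP₂P] at hP₂
    have h1 : (⟨g * (y : X) * g⁻¹, hmem⟩ : ↥E) ∈ Q.subgroupOf E := by
      rw [Subgroup.mem_subgroupOf, hQ]
      exact ⟨(y : X), ⟨y, hy, rfl⟩, rfl⟩
    exact ⟨⟨g * (y : X) * g⁻¹, hmem⟩, hP₂ h1, rfl⟩
  have hPT : (P : Subgroup ↥E).map E.subtype ≤ pCore p X :=
    le_pCore p hPX (P.isPGroup'.map _)
  intro b hb
  exact hPT ⟨⟨b, hBE hb⟩, hBP (by simpa [Subgroup.mem_subgroupOf] using hb), rfl⟩

end Cfsg.Agent.Lib.Helper14
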