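import Cfsg.Agent.Lib.Helper17.QuadSL2
import Cfsg.Agent.Lib.Helper17.SL2Dickson

set_option autoImplicit false
set_option maxHeartbeats 1000000
set_option linter.unusedSimpArgs false
set_option linter.unusedVariables false
set_option linter.style.haveILetI false

/-!
A strengthening of the two-dimensional embedding of an irreducible quadratic pair (the proof is the
one of `Helper17.quad_embed_sl2`, exporting two more consequences): elements acting with `p`-power
order act quadratically, and elements acting as involutions act by inversion.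
-/

namespace Cfsg.Agent.Lib.Helper14.QdEmbed

open Cfsg.Agent.Lib.Helper1 Cfsg.Agent.Lib.Helper5 Cfsg.Agent.Lib.Helper12 Cfsg.Agent.Lib.Helper17

universe u v

theorem mat2_sq {K : Type*} [Field K] (N : Matrix (Fin 2) (Fin 2) K) :
    N * N = (N 0 0 + N 1 1) • N - N.det • (1 : Matrix (Fin 2) (Fin 2) K) := by
  ext i j
  fin_cases i <;> fin_cases j <;>
    simp [Matrix.mul_apply, Fin.sum_univ_two, Matrix.det_fin_two] <;> ring

theorem mat2_nilp {K : Type*} [Field K] (N : Matrix (Fin 2) (Fin 2) K) (m : ℕ) (h : N ^ m = 0) :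
    N * N = 0 := by
  have hdet : N.det = 0 := by
    have h5 := congrArg Matrix.det h
    rw [Matrix.det_pow, Matrix.det_zero] at h5
    exact eq_zero_of_pow_eq_zero h5
  have hsq : N * N = (N 0 0 + N 1 1) • N := by
    rw [mat2_sq, hdet, zero_smul, sub_zero]
  have hpow : ∀ j : ℕ, N ^ (j + 1) = (N 0 0 + N 1 1) ^ j • N := by
    intro j
    induction j with
    | zero => simp
    | succ j ih => rw [pow_succ, ih, smul_mul_assoc, hsq, smul_smul, ← pow_succ]
  cases m with
  | zero =>
    rw [pow_zero] at h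
    calc N * N = N * N * 1 := (mul_one _).symm
      _ = N * N * 0 := by rw [h]
      _ = 0 := mul_zero _
  | succ j =>
    rw [hpow j] at h
    rcases smul_eq_zero.mp h with h5 | h5
    · rw [hsq, eq_zero_of_pow_eq_zero h5, zero_smul]
    · rw [h5, mul_zero]

theorem unip_sq {K : Type*} [Field K] (p : ℕ) [Fact p.Prime] [CharP K p]
    (B : Matrix (Fin 2) (Fin 2) K) (k : ℕ) (hB : B ^ p ^ k = 1) : (B - 1) * (B - 1) = 0 := by
  apply mat2_nilp _ (p ^ k)
  haveI : CharP (Matrix (Fin 2) (Fin 2) K) p := Matrix.charP p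
  rw [sub_pow_char_pow_of_commute p k (Commute.one_right B), hB, one_pow, sub_self]

theorem quad_embed_sl2' {A : Type u} {Λ : Type v} [CommGroup A] [Finite A] [Group Λ] [Finite Λ]
    {p : ℕ} [hp : Fact p.Prime] (hp2 : p ≠ 2)
    (hAp : ∀ v : A, v ^ p = 1) (φ : Λ →* MulAut A) (x y : Λ) (hgen : Subgroup.closure {x, y} = ⊤)
    (hx : ∀ v : A, φ x (φ x v / v) = φ x v / v) (hy : ∀ v : A, φ y (φ y v / v) = φ y v / v)
    (hirr : ∀ B : Subgroup A, (∀ b ∈ B, φ x b ∈ B) → (∀ b ∈ B, φ y b ∈ B) → B = ⊥ ∨ B = ⊤)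
    (hxy : ¬ (φ x = 1 ∧ φ y = 1)) :
    ∃ (K : Type u) (_ : Field K) (_ : CharP K p)
      (Ψ : Λ →* Matrix.SpecialLinearGroup (Fin 2) K), (∀ g : Λ, Ψ g = 1 ↔ φ g = 1) ∧
      (∀ (g : Λ) (k : ℕ), φ g ^ p ^ k = 1 → ∀ v : A, φ g (φ g v / v) = φ g v / v) ∧
      (∀ g : Λ, φ g * φ g = 1 → φ g ≠ 1 → ∀ v : A, φ g v = v⁻¹) := by
  classical
  obtain ⟨ρ, hρ⟩ : ∃ ρ : Λ →* AddMonoid.End (Additive A), ρ = (autToEnd (A := A)).comp φ :=
    ⟨_, rfl⟩
  have hρapp : ∀ g (w : Additive A), ρ g w = Additive.ofMul (φ g (Additive.toMul w)) := by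
    intro g w; rw [hρ]; rfl
  have hsubapp : ∀ (f : AddMonoid.End (Additive A)) (w : Additive A), (f - 1) w = f w - w :=
    fun f w => rfl
  have hquadE : ∀ z : Λ, (∀ v : A, φ z (φ z v / v) = φ z v / v) →
      (ρ z - 1) * (ρ z - 1) = 0 := by
    intro z hz
    ext w
    show (ρ z - 1) ((ρ z - 1) w) = 0
    rw [hsubapp, hsubapp]
    have key : ρ z (ρ z w - w) = ρ z w - w := by
      rw [hρapp, hρapp]
      have h := hz (Additive.toMul w)
      rw [toMul_sub, toMul_ofMul, h, ofMul_div, ofMul_toMul]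
    rw [key, sub_self]
  have hNN := hquadE x hx
  have hMM := hquadE y hy
  have h0 : ∀ w : Additive A, (ρ x - 1) w = 0 → (ρ y - 1) w = 0 → w = 0 := by
    obtain ⟨B, hB⟩ : ∃ B : Subgroup A, ∀ a, a ∈ B ↔ (φ x a = a ∧ φ y a = a) :=
      ⟨{ carrier := {a | φ x a = a ∧ φ y a = a}
         one_mem' := ⟨map_one _, map_one _⟩
         mul_mem' := by
           rintro a b ⟨h1, h2⟩ ⟨h3, h4⟩
           exact ⟨by rw [map_mul, h1, h3], by rw [map_mul, h2, h4]⟩
         inv_mem' := by
           rintro a ⟨h1, h2⟩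
           exact ⟨by rw [map_inv, h1], by rw [map_inv, h2]⟩ }, fun a => Iff.rfl⟩
    have hBx : ∀ b ∈ B, φ x b ∈ B := fun b hb => by rw [((hB b).mp hb).1]; exact hb
    have hBy : ∀ b ∈ B, φ y b ∈ B := fun b hb => by rw [((hB b).mp hb).2]; exact hb
    rcases hirr B hBx hBy with hbot | htop
    · intro w h1 h2
      rw [hsubapp, sub_eq_zero, hρapp] at h1 h2
      have hw : Additive.toMul w ∈ B := by
        rw [hB]
        exact ⟨congrArg Additive.toMul h1, congrArg Additive.toMul h2⟩
      rw [hbot, Subgroup.mem_bot] at hw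
      exact congrArg Additive.ofMul hw
    · exfalso
      apply hxy
      constructor
      · ext a
        have : a ∈ B := by rw [htop]; trivial
        exact ((hB a).mp this).1
      · ext a
        have : a ∈ B := by rw [htop]; trivial
        exact ((hB a).mp this).2
  have hsum : ∀ w : Additive A, ∃ u v, w = (ρ x - 1) u + (ρ y - 1) v := by
    obtain ⟨T, hT⟩ : ∃ T : Subgroup A, ∀ a, a ∈ T ↔ ∃ u v, a = (φ x u / u) * (φ y v / v) :=
      ⟨{ carrier := {a | ∃ u v, a = (φ x u / u) * (φ y v / v)}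
         one_mem' := ⟨1, 1, by simp⟩
         mul_mem' := by
           rintro a b ⟨u, v, rfl⟩ ⟨u', v', rfl⟩
           refine ⟨u * u', v * v', ?_⟩
           rw [map_mul, map_mul, mul_mul_mul_comm, div_mul_div_comm, div_mul_div_comm]
         inv_mem' := by
           rintro a ⟨u, v, rfl⟩
           refine ⟨u⁻¹, v⁻¹, ?_⟩
           rw [map_inv, map_inv, mul_inv, inv_div_inv, inv_div_inv, inv_div, inv_div] }, fun a => Iff.rfl⟩
    have hTx : ∀ b ∈ T, φ x b ∈ T := by
      intro b hb
      obtain ⟨u, v, rfl⟩ := (hT b).mp hb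
      rw [hT]
      refine ⟨u * ((φ x u / u) * (φ y v / v)), v, ?_⟩
      rw [map_mul (φ x) u]
      exact comm_ident1 (φ x u) (φ y v) u v _
    have hTy : ∀ b ∈ T, φ y b ∈ T := by
      intro b hb
      obtain ⟨u, v, rfl⟩ := (hT b).mp hb
      rw [hT]
      refine ⟨u, v * ((φ x u / u) * (φ y v / v)), ?_⟩
      rw [map_mul (φ y) v]
      exact comm_ident2 (φ x u) (φ y v) u v _
    rcases hirr T hTx hTy with hbot | htop
    · exfalso
      apply hxy
      constructor
      · ext a
        have : φ x a / a ∈ T := by rw [hT]; exact ⟨a, 1, by simp⟩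
        rw [hbot, Subgroup.mem_bot] at this
        exact div_eq_one.mp this
      · ext a
        have : φ y a / a ∈ T := by rw [hT]; exact ⟨1, a, by simp⟩
        rw [hbot, Subgroup.mem_bot] at this
        exact div_eq_one.mp this
    · intro w
      have hw : Additive.toMul w ∈ T := by rw [htop]; trivial
      obtain ⟨u, v, huv⟩ := (hT _).mp hw
      refine ⟨Additive.ofMul u, Additive.ofMul v, ?_⟩
      rw [hsubapp, hsubapp, hρapp, hρapp, toMul_ofMul, toMul_ofMul, ← ofMul_div, ← ofMul_div,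
        ← ofMul_mul, ← huv, ofMul_toMul]
  obtain ⟨Δ, hΔ1, hΔ2⟩ := exists_inv_of_quad (ρ x - 1) (ρ y - 1) hNN hMM h0 hsum
  obtain ⟨N, hN⟩ : ∃ N : AddMonoid.End (Additive A), N = ρ x - 1 := ⟨_, rfl⟩
  obtain ⟨M, hM⟩ : ∃ M : AddMonoid.End (Additive A), M = ρ y - 1 := ⟨_, rfl⟩
  rw [← hN] at hNN
  rw [← hM] at hMM
  rw [← hN, ← hM] at hΔ1 hΔ2
  have hρx : ρ x = 1 + N := by rw [hN]; abel
  have hρy : ρ y = 1 + M := by rw [hM]; abel
  obtain ⟨hrel, hsum', hNΓ, hMΓ, hNΔ, hMΔ⟩ := quadUnits_rel N M Δ hNN hMM hΔ1 hΔ2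
  obtain ⟨Γ, hΓ⟩ : ∃ Γ : AddMonoid.End (Additive A), Γ = N * M + M * N := ⟨_, rfl⟩
  rw [← hΓ] at hΔ1 hΔ2 hNΓ hMΓ
  have hcl : ∀ c ∈ Subring.closure ({Γ} : Set (AddMonoid.End (Additive A))),
      Commute c N ∧ Commute c M ∧ Commute c Δ := by
    intro c hc
    induction hc using Subring.closure_induction with
    | mem z hz =>
      rw [Set.mem_singleton_iff] at hz
      subst hz
      refine ⟨hNΓ.symm, hMΓ.symm, ?_⟩
      show z * Δ = Δ * z
      rw [hΔ1, hΔ2]
    | zero => exact ⟨Commute.zero_left _, Commute.zero_left _, Commute.zero_left _⟩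
    | one => exact ⟨Commute.one_left _, Commute.one_left _, Commute.one_left _⟩
    | add a b _ _ ha hb => exact ⟨ha.1.add_left hb.1, ha.2.1.add_left hb.2.1, ha.2.2.add_left hb.2.2⟩
    | neg a _ ha => exact ⟨ha.1.neg_left, ha.2.1.neg_left, ha.2.2.neg_left⟩
    | mul a b _ _ ha hb => exact ⟨ha.1.mul_left hb.1, ha.2.1.mul_left hb.2.1, ha.2.2.mul_left hb.2.2⟩
  have hunit : ∀ c ∈ Subring.closure ({Γ} : Set (AddMonoid.End (Additive A))), c ≠ 0 →
      ∃ d : AddMonoid.End (Additive A), c * d = 1 := by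
    intro c hc hc0
    obtain ⟨hcN, hcM, -⟩ := hcl c hc
    obtain ⟨B, hB⟩ : ∃ B : Subgroup A, ∀ a, a ∈ B ↔ c (Additive.ofMul a) = 0 :=
      ⟨{ carrier := {a | c (Additive.ofMul a) = 0}
         one_mem' := by
           show c (Additive.ofMul 1) = 0
           rw [ofMul_one, map_zero]
         mul_mem' := by
           intro a b ha hb
           show c (Additive.ofMul (a * b)) = 0
           rw [ofMul_mul, map_add]
           rw [show c (Additive.ofMul a) = 0 from ha, show c (Additive.ofMul b) = 0 from hb,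
             add_zero]
         inv_mem' := by
           intro a ha
           show c (Additive.ofMul a⁻¹) = 0
           rw [ofMul_inv, map_neg, show c (Additive.ofMul a) = 0 from ha, neg_zero] },
        fun a => Iff.rfl⟩
    have hinv : ∀ z : Λ, Commute c (ρ z - 1) → ∀ b ∈ B, φ z b ∈ B := by
      intro z hcz b hb
      rw [hB] at hb ⊢
      have hcz' : c * ρ z = ρ z * c := by
        have h1 : ρ z = (ρ z - 1) + 1 := by abel
        rw [h1, mul_add, add_mul, hcz.eq, mul_one, one_mul]
      have e : Additive.ofMul (φ z b) = ρ z (Additive.ofMul b) := by rw [hρapp]; rfl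
      rw [e]
      calc c (ρ z (Additive.ofMul b)) = (c * ρ z) (Additive.ofMul b) := rfl
        _ = (ρ z * c) (Additive.ofMul b) := by rw [hcz']
        _ = ρ z (c (Additive.ofMul b)) := rfl
        _ = 0 := by rw [hb, map_zero]
    rcases hirr B (hinv x (by rw [← hN]; exact hcN)) (hinv y (by rw [← hM]; exact hcM)) with
      hbot | htop
    · have hinj : Function.Injective c := by
        rw [injective_iff_map_eq_zero]
        intro w hw
        have h1 : Additive.toMul w ∈ B := by rw [hB]; exact hw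
        rw [hbot, Subgroup.mem_bot] at h1
        exact congrArg Additive.ofMul h1
      have hbij : Function.Bijective c := ⟨hinj, Finite.surjective_of_injective hinj⟩
      obtain ⟨eq, heq⟩ : ∃ eq : Additive A ≃+ Additive A, ∀ w, eq w = c w :=
        ⟨AddEquiv.ofBijective c hbij, fun w => rfl⟩
      refine ⟨eq.symm.toAddMonoidHom, ?_⟩
      ext w
      show c (eq.symm w) = w
      rw [← heq, AddEquiv.apply_symm_apply]
    · exfalso
      apply hc0
      ext w
      have h1 : Additive.toMul w ∈ B := by rw [htop]; trivial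
      rw [hB] at h1
      exact h1
  have hnt : Nontrivial (AddMonoid.End (Additive A)) := by
    by_contra hcon
    rw [not_nontrivial_iff_subsingleton] at hcon
    apply hxy
    constructor
    · apply autToEnd_injective
      exact Subsingleton.elim _ _
    · apply autToEnd_injective
      exact Subsingleton.elim _ _
  have hfin : Finite (AddMonoid.End (Additive A)) :=
    Finite.of_injective (fun f : AddMonoid.End (Additive A) => (f : Additive A → Additive A))
      DFunLike.coe_injective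
  obtain ⟨K, hK, ι, hιinj, ⟨γ, hγ⟩, hιmem⟩ := exists_field_of_closure Γ hunit
  letI : Field K := hK
  have hpE : ((p : ℕ) : AddMonoid.End (Additive A)) = 0 := by
    ext w
    rw [AddMonoid.End.natCast_apply]
    show p • w = 0
    have h1 := hAp (Additive.toMul w)
    have h2 : Additive.ofMul (Additive.toMul w ^ p) = 0 := by rw [h1]; rfl
    rw [ofMul_pow] at h2
    exact h2
  have hpK : ((p : ℕ) : K) = 0 := hιinj (by rw [map_natCast, hpE, map_zero])
  have hchar : CharP K p := (CharP.charP_iff_prime_eq_zero hp.1).mpr hpK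
  obtain ⟨e, he⟩ : ∃ e : Fin 2 → Fin 2 → AddMonoid.End (Additive A), e = quadUnits N M Δ :=
    ⟨_, rfl⟩
  rw [← he] at hrel hsum'
  have he01 : e 0 1 = N := by rw [he]; simp [quadUnits]
  have he10 : e 1 0 = Δ * M := by rw [he]; simp [quadUnits]
  have hc : ∀ c i j, ι c * e i j = e i j * ι c := by
    intro c i j
    obtain ⟨h1, h2, h3⟩ := hcl (ι c) (hιmem c)
    rw [he]
    fin_cases i <;> fin_cases j
    · simpa [quadUnits] using ((h3.mul_right h1).mul_right h2).eq
    · simpa [quadUnits] using h1.eq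
    · simpa [quadUnits] using (h3.mul_right h2).eq
    · simpa [quadUnits] using ((h3.mul_right h2).mul_right h1).eq
  obtain ⟨phi, hphi⟩ : ∃ phi : Matrix (Fin 2) (Fin 2) K → AddMonoid.End (Additive A),
      phi = phiMat ι e := ⟨_, rfl⟩
  have hphi_mul : ∀ B C, phi (B * C) = phi B * phi C := by
    rw [hphi]; exact phiMat_mul ι e hc hrel
  have hphi_one : phi 1 = 1 := by
    rw [hphi]
    unfold phiMat
    simp only [Fin.sum_univ_two, Matrix.one_apply]
    simp
    exact hsum'
  have hphi_inj : Function.Injective phi := by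
    intro B C hBC
    ext i j
    apply hιinj
    rw [hphi] at hBC
    rw [← phiMat_coeff ι e hc hrel hsum' B i j, ← phiMat_coeff ι e hc hrel hsum' C i j, hBC]
  have hphiN : phi !![1, 1; 0, 1] = 1 + N := by
    rw [hphi]
    unfold phiMat
    simp only [Fin.sum_univ_two]
    simp
    rw [he01, ← hsum']
    abel
  have hphiM : phi !![1, 0; γ, 1] = 1 + M := by
    rw [hphi]
    unfold phiMat
    simp only [Fin.sum_univ_two]
    simp
    rw [he10, hγ, ← mul_assoc, hΔ1, one_mul, ← hsum']
    abel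
  have hphi_pow : ∀ (B : Matrix (Fin 2) (Fin 2) K) (n : ℕ), phi (B ^ n) = phi B ^ n := by
    intro B n
    induction n with
    | zero => rw [pow_zero, pow_zero, hphi_one]
    | succ k ih => rw [pow_succ, pow_succ, hphi_mul, ih]
  have hS : ∀ g : Λ, ∃ B : Matrix.SpecialLinearGroup (Fin 2) K,
      ρ g = phi (B : Matrix (Fin 2) (Fin 2) K) := by
    intro g
    have hg : g ∈ Subgroup.closure {x, y} := by rw [hgen]; trivial
    induction hg using Subgroup.closure_induction with
    | mem z hz =>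
      rcases hz with rfl | rfl
      · exact ⟨⟨!![1, 1; 0, 1], by simp [Matrix.det_fin_two]⟩, by rw [hρx]; exact hphiN.symm⟩
      · exact ⟨⟨!![1, 0; γ, 1], by simp [Matrix.det_fin_two]⟩, by rw [hρy]; exact hphiM.symm⟩
    | one => exact ⟨1, by rw [map_one, Matrix.SpecialLinearGroup.coe_one, hphi_one]⟩
    | mul a b _ _ ha hb =>
      obtain ⟨B, hB⟩ := ha
      obtain ⟨C, hC⟩ := hb
      exact ⟨B * C, by rw [map_mul, Matrix.SpecialLinearGroup.coe_mul, hphi_mul, hB, hC]⟩
    | inv a _ ha =>
      obtain ⟨B, hB⟩ := ha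
      have h1 : a * a ^ (orderOf a - 1) = 1 := by
        rw [← pow_succ', Nat.sub_add_cancel (orderOf_pos a), pow_orderOf_eq_one]
      refine ⟨B ^ (orderOf a - 1), ?_⟩
      rw [← eq_inv_of_mul_eq_one_right h1, map_pow, hB, Matrix.SpecialLinearGroup.coe_pow,
        hphi_pow]
  choose Ψ₀ hΨ₀ using hS
  have hmul : ∀ g h : Λ, Ψ₀ (g * h) = Ψ₀ g * Ψ₀ h := by
    intro g h
    apply Subtype.ext
    apply hphi_inj
    rw [Matrix.SpecialLinearGroup.coe_mul, hphi_mul, ← hΨ₀, ← hΨ₀, ← hΨ₀, map_mul]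
  haveI := hchar
  have h2K : (2 : K) ≠ 0 := by
    intro h
    have h3 : ((2 : ℕ) : K) = 0 := by exact_mod_cast h
    rw [CharP.cast_eq_zero_iff K p] at h3
    exact hp2 ((Nat.prime_dvd_prime_iff_eq hp.1 Nat.prime_two).mp h3)
  have hphi_sub : ∀ B C : Matrix (Fin 2) (Fin 2) K, phi (B - C) = phi B - phi C := by
    intro B C
    rw [hphi]
    unfold phiMat
    simp only [Matrix.sub_apply, map_sub, sub_mul, Finset.sum_sub_distrib]
  have hphi_zero : phi 0 = 0 := by
    have h5 := hphi_sub 0 0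
    rw [sub_self, sub_self] at h5
    exact h5
  refine ⟨K, hK, hchar, MonoidHom.mk' Ψ₀ hmul, ?_, ?_, ?_⟩
  · intro g
    show Ψ₀ g = 1 ↔ φ g = 1
    constructor
    · intro h
      apply autToEnd_injective
      have h1 := hΨ₀ g
      rw [h, Matrix.SpecialLinearGroup.coe_one, hphi_one, hρ] at h1
      rw [map_one]
      exact h1
    · intro h
      apply Subtype.ext
      apply hphi_inj
      rw [← hΨ₀, Matrix.SpecialLinearGroup.coe_one, hphi_one, hρ]
      show autToEnd (φ g) = 1
      rw [h, map_one]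
  · intro g k hgk v
    have hB : ((Ψ₀ g : Matrix.SpecialLinearGroup (Fin 2) K) : Matrix (Fin 2) (Fin 2) K) ^ p ^ k
        = 1 := by
      apply hphi_inj
      rw [hphi_pow, ← hΨ₀, hphi_one, hρ]
      show (autToEnd (φ g)) ^ p ^ k = 1
      rw [← map_pow, hgk, map_one]
    have hz := unip_sq p _ k hB
    have hz' : (ρ g - 1) * (ρ g - 1) = 0 := by
      rw [hΨ₀ g, ← hphi_one, ← hphi_sub, ← hphi_mul, hz, hphi_zero]
    have h5 := congrArg (fun f : AddMonoid.End (Additive A) => f (Additive.ofMul v)) hz'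
    have h6 : ρ g (ρ g (Additive.ofMul v) - Additive.ofMul v) -
        (ρ g (Additive.ofMul v) - Additive.ofMul v) = 0 := h5
    rw [sub_eq_zero, hρapp, hρapp] at h6
    have h7 := congrArg Additive.toMul h6
    simpa using h7
  · intro g hgg hg1 v
    have hΨne : Ψ₀ g ≠ 1 := by
      intro h
      apply hg1
      apply autToEnd_injective
      have h1 := hΨ₀ g
      rw [h, Matrix.SpecialLinearGroup.coe_one, hphi_one, hρ] at h1
      rw [map_one]
      exact h1
    have hΨsq : Ψ₀ g * Ψ₀ g = 1 := by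
      rw [← hmul]
      apply Subtype.ext
      apply hphi_inj
      rw [← hΨ₀, Matrix.SpecialLinearGroup.coe_one, hphi_one, hρ]
      show autToEnd (φ (g * g)) = 1
      rw [map_mul, hgg, map_one]
    have hneg := sl2_sq_one h2K (Ψ₀ g) hΨsq hΨne
    have h1 := hΨ₀ g
    rw [hneg, negOne_coe] at h1
    have h2 : phi (-1) = -1 := by
      have h5 := hphi_sub 0 1
      rw [zero_sub, hphi_zero, zero_sub, hphi_one] at h5
      exact h5
    rw [h2] at h1
    have h3 := congrArg (fun f : AddMonoid.End (Additive A) => f (Additive.ofMul v)) h1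
    have h4 : ρ g (Additive.ofMul v) = - Additive.ofMul v := h3
    rw [hρapp] at h4
    have h5 := congrArg Additive.toMul h4
    simpa using h5


end Cfsg.Agent.Lib.Helper14.QdEmbed
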