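import Mathlib
import Cfsg.Prelude.Def_PLocal
import Cfsg.Prelude.Def_LocalEven
import Cfsg.Agent.S2762
import Cfsg.Agent.Lib.Helper3.SLRoot
import Cfsg.Agent.Lib.Helper17.S4Rec

set_option autoImplicit false
set_option maxHeartbeats 1000000
set_option linter.unusedVariables false
set_option linter.unusedSimpArgs false
set_option linter.style.haveILetI false

/-!
Recognition of `Qd(p)` as a section: two commuting elements `w, w'` of order `p` and two elements
`u, v` acting on them as the two standard transvections.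
-/

namespace Cfsg.Agent.Lib.Helper14.QdRecog

universe u

open Cfsg.Agent.S2762
open scoped Pointwise

section Gen

variable (p : ℕ) [Fact p.Prime]

/-- the upper transvection -/
def xm : Matrix.SpecialLinearGroup (Fin 2) (ZMod p) :=
  ⟨!![1, 1; 0, 1], by simp [Matrix.det_fin_two]⟩

/-- the lower transvection -/
def ym : Matrix.SpecialLinearGroup (Fin 2) (ZMod p) :=
  ⟨!![1, 0; 1, 1], by simp [Matrix.det_fin_two]⟩

/-- minus one -/
def zm : Matrix.SpecialLinearGroup (Fin 2) (ZMod p) :=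
  ⟨!![-1, 0; 0, -1], by simp [Matrix.det_fin_two]⟩

theorem xm_pow (k : ℕ) :
    ((xm p ^ k : Matrix.SpecialLinearGroup (Fin 2) (ZMod p)) : Matrix (Fin 2) (Fin 2) (ZMod p)) =
      !![1, (k : ZMod p); 0, 1] := by
  induction k with
  | zero =>
    rw [pow_zero, Matrix.SpecialLinearGroup.coe_one]
    ext i j
    fin_cases i <;> fin_cases j <;> simp
  | succ k ih =>
    rw [pow_succ, Matrix.SpecialLinearGroup.coe_mul, ih]
    ext i j
    fin_cases i <;> fin_cases j <;> simp [xm, Matrix.mul_apply, Fin.sum_univ_two, add_comm]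

theorem ym_pow (k : ℕ) :
    ((ym p ^ k : Matrix.SpecialLinearGroup (Fin 2) (ZMod p)) : Matrix (Fin 2) (Fin 2) (ZMod p)) =
      !![1, 0; (k : ZMod p), 1] := by
  induction k with
  | zero =>
    rw [pow_zero, Matrix.SpecialLinearGroup.coe_one]
    ext i j
    fin_cases i <;> fin_cases j <;> simp
  | succ k ih =>
    rw [pow_succ, Matrix.SpecialLinearGroup.coe_mul, ih]
    ext i j
    fin_cases i <;> fin_cases j <;> simp [ym, Matrix.mul_apply, Fin.sum_univ_two, add_comm]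

theorem gen_sl2 : Subgroup.closure ({xm p, ym p} : Set (Matrix.SpecialLinearGroup (Fin 2) (ZMod p)))
    = ⊤ := by
  rw [eq_top_iff, ← Cfsg.Agent.Lib.Helper3.sl2_gen (F := ZMod p)]
  apply sup_le
  · unfold Cfsg.upperUnipotentSL2
    rw [Subgroup.closure_le]
    rintro g ⟨h10, h00, h11⟩
    have e : g = xm p ^ ((g : Matrix (Fin 2) (Fin 2) (ZMod p)) 0 1).val := by
      apply Subtype.ext
      rw [xm_pow, ZMod.natCast_zmod_val]
      ext i j
      fin_cases i <;> fin_cases j <;> simp [h10, h00, h11]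
    rw [e]
    exact Subgroup.pow_mem _ (Subgroup.subset_closure (by simp)) _
  · unfold Cfsg.lowerUnipotentSL2
    rw [Subgroup.closure_le]
    rintro g ⟨h01, h00, h11⟩
    have e : g = ym p ^ ((g : Matrix (Fin 2) (Fin 2) (ZMod p)) 1 0).val := by
      apply Subtype.ext
      rw [ym_pow, ZMod.natCast_zmod_val]
      ext i j
      fin_cases i <;> fin_cases j <;> simp [h01, h00, h11]
    rw [e]
    exact Subgroup.pow_mem _ (Subgroup.subset_closure (by simp)) _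

theorem zm_comm (M : Matrix.SpecialLinearGroup (Fin 2) (ZMod p)) : M * zm p = zm p * M := by
  apply Subtype.ext
  rw [Matrix.SpecialLinearGroup.coe_mul, Matrix.SpecialLinearGroup.coe_mul]
  ext i j
  fin_cases i <;> fin_cases j <;> simp [zm, Matrix.mul_apply, Fin.sum_univ_two]

theorem zm_sq : zm p * zm p = 1 := by
  apply Subtype.ext
  rw [Matrix.SpecialLinearGroup.coe_mul, Matrix.SpecialLinearGroup.coe_one]
  ext i j
  fin_cases i <;> fin_cases j <;> simp [zm, Matrix.mul_apply, Fin.sum_univ_two]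

end Gen

/-- a pair of a group element and a class of exponents -/
theorem graph_involves {Y : Type u} {Q : Type*} [Group Y] [Group Q] (Γ : Subgroup (Y × Q))
    (hsurj : ∀ q : Q, ∃ y : Y, (y, q) ∈ Γ) (hinj : ∀ q : Q, ((1 : Y), q) ∈ Γ → q = 1) :
    Cfsg.Involves Q Y := by
  classical
  obtain ⟨f1, hf1⟩ : ∃ f1 : ↥Γ →* ↥(Γ.map (MonoidHom.fst Y Q)),
      ∀ a : ↥Γ, ((f1 a : ↥(Γ.map (MonoidHom.fst Y Q))) : Y) = (a : Y × Q).1 ∧
        Function.Surjective f1 :=
    ⟨(MonoidHom.fst Y Q).subgroupMap Γ, fun a => ⟨rfl, MonoidHom.subgroupMap_surjective _ _⟩⟩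
  have hf1s : Function.Surjective f1 := by
    intro b
    exact (hf1 1).2 b
  have hf1i : Function.Injective f1 := by
    rw [injective_iff_map_eq_one]
    intro a ha
    have h1 : (a : Y × Q).1 = 1 := by
      rw [← (hf1 a).1, ha]; rfl
    have h2 : ((1 : Y), (a : Y × Q).2) ∈ Γ := by
      have h3 := a.2
      rw [← h1]
      exact h3
    have h3 := hinj _ h2
    apply Subtype.ext
    exact Prod.ext h1 h3
  obtain ⟨e, he⟩ : ∃ e : ↥Γ ≃* ↥(Γ.map (MonoidHom.fst Y Q)), ∀ a, e a = f1 a :=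
    ⟨MulEquiv.ofBijective f1 ⟨hf1i, hf1s⟩, fun a => rfl⟩
  refine Cfsg.Agent.Lib.Helper17.involves_of_surjective (Γ.map (MonoidHom.fst Y Q))
    (((MonoidHom.snd Y Q).comp Γ.subtype).comp e.symm.toMonoidHom) ?_
  intro q
  obtain ⟨y, hy⟩ := hsurj q
  refine ⟨e ⟨(y, q), hy⟩, ?_⟩
  show ((e.symm (e ⟨(y, q), hy⟩) : ↥Γ) : Y × Q).2 = q
  rw [MulEquiv.symm_apply_apply]

section Recog

variable {Y : Type u} [Group Y] {p : ℕ} [hp : Fact p.Prime]

/-- the element of the plane with given coordinates -/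
def vec (w w' : Y) (c : Fin 2 → ZMod p) : Y := w ^ (c 0).val * w' ^ (c 1).val

theorem zpow_add' {x : Y} (hx : x ^ p = 1) (a b : ZMod p) :
    x ^ (a + b).val = x ^ a.val * x ^ b.val := by
  rw [ZMod.val_add, ← pow_eq_pow_mod _ hx, pow_add]

theorem vec_add (w w' : Y) (hw : w ^ p = 1) (hw' : w' ^ p = 1) (hC : Commute w w')
    (c d : Fin 2 → ZMod p) : vec w w' (c + d) = vec w w' c * vec w w' d := by
  unfold vec
  rw [Pi.add_apply, Pi.add_apply, zpow_add' hw, zpow_add' hw']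
  calc w ^ (c 0).val * w ^ (d 0).val * (w' ^ (c 1).val * w' ^ (d 1).val)
      = w ^ (c 0).val * (w ^ (d 0).val * w' ^ (c 1).val) * w' ^ (d 1).val := by
        simp only [mul_assoc]
    _ = w ^ (c 0).val * (w' ^ (c 1).val * w ^ (d 0).val) * w' ^ (d 1).val := by
        rw [(hC.pow_pow (d 0).val (c 1).val).eq]
    _ = w ^ (c 0).val * w' ^ (c 1).val * (w ^ (d 0).val * w' ^ (d 1).val) := by
        simp only [mul_assoc]

theorem vec_zero (w w' : Y) : vec w w' (0 : Fin 2 → ZMod p) = 1 := by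
  simp [vec]

theorem qd_recog [Finite Y] (hp2 : p ≠ 2)
    (w w' u v : Y) (hw1 : w ≠ 1) (hwp : w ^ p = 1) (hwp' : w' ^ p = 1) (hcomm : w * w' = w' * w)
    (h1 : u * w * u⁻¹ = w) (h2 : u * w' * u⁻¹ = w' * w)
    (h3 : v * w * v⁻¹ = w * w') (h4 : v * w' * v⁻¹ = w') :
    Cfsg.Involves ↥(Cfsg.qd p) Y := by
  classical
  have hC : Commute w w' := hcomm
  have hadd : ∀ c d : Fin 2 → ZMod p, vec w w' (c + d) = vec w w' c * vec w w' d :=
    vec_add w w' hwp hwp' hC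
  have hzero : vec w w' (0 : Fin 2 → ZMod p) = 1 := vec_zero w w'
  have hneg : ∀ c : Fin 2 → ZMod p, vec w w' (-c) = (vec w w' c)⁻¹ := by
    intro c
    apply eq_inv_of_mul_eq_one_right
    rw [← hadd, add_neg_cancel, hzero]
  have hpowp : ∀ c : Fin 2 → ZMod p, vec w w' c ^ p = 1 := by
    intro c
    unfold vec
    rw [(hC.pow_pow _ _).mul_pow, ← pow_mul, ← pow_mul, mul_comm _ p, mul_comm _ p, pow_mul,
      pow_mul, hwp, hwp', one_pow, one_pow, one_mul]
  have hordw : orderOf w = p := orderOf_eq_prime hwp hw1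
  have hvalzero : ∀ a : ZMod p, w ^ a.val = 1 → a = 0 := by
    intro a ha
    have h5 : orderOf w ∣ a.val := orderOf_dvd_of_pow_eq_one ha
    rw [hordw] at h5
    have h6 : a.val = 0 := Nat.eq_zero_of_dvd_of_lt h5 (ZMod.val_lt a)
    exact (ZMod.val_eq_zero a).mp h6
  have hone : ∀ e : Fin 2 → ZMod p, vec w w' e = 1 → e = 0 := by
    intro e he
    unfold vec at he
    have h5 : u * (w ^ (e 0).val * w' ^ (e 1).val) * u⁻¹ = 1 := by rw [he, mul_one, mul_inv_cancel]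
    rw [← conj_mul, ← conj_pow, ← conj_pow, h1, h2, (hC.symm).mul_pow, ← mul_assoc, he,
      one_mul] at h5
    have e1 : e 1 = 0 := hvalzero _ h5
    rw [e1, ZMod.val_zero, pow_zero, mul_one] at he
    have e0 : e 0 = 0 := hvalzero _ he
    funext i
    fin_cases i
    · exact e0
    · exact e1
  have hvinj : ∀ a b : Fin 2 → ZMod p, vec w w' a = vec w w' b → a = b := by
    intro a b hab
    have h5 : vec w w' (a + -b) = 1 := by rw [hadd, hneg, hab, mul_inv_cancel]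
    have h6 := hone _ h5
    exact add_neg_eq_zero.mp h6
  -- the two generators act as the two transvections
  have hPu : ∀ c : Fin 2 → ZMod p, u * vec w w' c * u⁻¹ =
      vec w w' ((xm p : Matrix (Fin 2) (Fin 2) (ZMod p)).mulVec c) := by
    intro c
    have e0 : ((xm p : Matrix (Fin 2) (Fin 2) (ZMod p)).mulVec c) 0 = c 0 + c 1 := by
      simp [xm, Matrix.mulVec, dotProduct, Fin.sum_univ_two]
    have e1 : ((xm p : Matrix (Fin 2) (Fin 2) (ZMod p)).mulVec c) 1 = c 1 := by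
      simp [xm, Matrix.mulVec, dotProduct, Fin.sum_univ_two]
    unfold vec
    rw [e0, e1, ← conj_mul, ← conj_pow, ← conj_pow, h1, h2, (hC.symm).mul_pow, zpow_add' hwp]
    calc w ^ (c 0).val * (w' ^ (c 1).val * w ^ (c 1).val)
        = w ^ (c 0).val * (w ^ (c 1).val * w' ^ (c 1).val) := by
          rw [(hC.pow_pow (c 1).val (c 1).val).eq]
      _ = w ^ (c 0).val * w ^ (c 1).val * w' ^ (c 1).val := by rw [mul_assoc]
  have hPv : ∀ c : Fin 2 → ZMod p, v * vec w w' c * v⁻¹ =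
      vec w w' ((ym p : Matrix (Fin 2) (Fin 2) (ZMod p)).mulVec c) := by
    intro c
    have e0 : ((ym p : Matrix (Fin 2) (Fin 2) (ZMod p)).mulVec c) 0 = c 0 := by
      simp [ym, Matrix.mulVec, dotProduct, Fin.sum_univ_two]
    have e1 : ((ym p : Matrix (Fin 2) (Fin 2) (ZMod p)).mulVec c) 1 = c 0 + c 1 := by
      simp [ym, Matrix.mulVec, dotProduct, Fin.sum_univ_two]
    unfold vec
    rw [e0, e1, ← conj_mul, ← conj_pow, ← conj_pow, h3, h4, hC.mul_pow, zpow_add' hwp',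
      mul_assoc]
  obtain ⟨S, hS⟩ : ∃ S : Subgroup (Y × Matrix.SpecialLinearGroup (Fin 2) (ZMod p)),
      S = Subgroup.closure {(u, xm p), (v, ym p)} := ⟨_, rfl⟩
  have hPS : ∀ s ∈ S, ∀ c : Fin 2 → ZMod p, s.1 * vec w w' c * s.1⁻¹ =
      vec w w' ((s.2 : Matrix (Fin 2) (Fin 2) (ZMod p)).mulVec c) := by
    intro s hs
    rw [hS] at hs
    induction hs using Subgroup.closure_induction with
    | mem z hz =>
      rcases hz with rfl | rfl
      · exact hPu
      · exact hPv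
    | one =>
      intro c
      simp
    | mul a b _ _ ha hb =>
      intro c
      have e1 : (a * b).1 * vec w w' c * (a * b).1⁻¹ =
          a.1 * (b.1 * vec w w' c * b.1⁻¹) * a.1⁻¹ := by
        rw [Prod.fst_mul]; group
      rw [e1, hb c, ha, Prod.snd_mul, Matrix.SpecialLinearGroup.coe_mul, Matrix.mulVec_mulVec]
    | inv a _ ha =>
      intro c
      have h := ha (((a.2⁻¹ : Matrix.SpecialLinearGroup (Fin 2) (ZMod p)) :
        Matrix (Fin 2) (Fin 2) (ZMod p)).mulVec c)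
      rw [Matrix.mulVec_mulVec, ← Matrix.SpecialLinearGroup.coe_mul, mul_inv_cancel,
        Matrix.SpecialLinearGroup.coe_one, Matrix.one_mulVec] at h
      rw [Prod.fst_inv, Prod.snd_inv]
      conv_lhs => rw [← h]
      group
  obtain ⟨π₂, hπ₂def⟩ : ∃ π₂ : ↥S →* Matrix.SpecialLinearGroup (Fin 2) (ZMod p),
      ∀ s : ↥S, π₂ s = (s : Y × Matrix.SpecialLinearGroup (Fin 2) (ZMod p)).2 :=
    ⟨(MonoidHom.snd Y _).comp S.subtype, fun s => rfl⟩
  have hπ₂ : ∀ M : Matrix.SpecialLinearGroup (Fin 2) (ZMod p), ∃ s : ↥S, π₂ s = M := by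
    intro M
    have hM : M ∈ S.map (MonoidHom.snd Y (Matrix.SpecialLinearGroup (Fin 2) (ZMod p))) := by
      rw [hS, MonoidHom.map_closure]
      have e : (MonoidHom.snd Y (Matrix.SpecialLinearGroup (Fin 2) (ZMod p))) ''
          {(u, xm p), (v, ym p)} = {xm p, ym p} := by
        rw [Set.image_pair]; rfl
      rw [e, gen_sl2]
      trivial
    obtain ⟨s, hs, rfl⟩ := hM
    exact ⟨⟨s, hs⟩, hπ₂def _⟩
  haveI hZn : (Subgroup.zpowers (zm p)).Normal := by
    refine ⟨fun n hn g => ?_⟩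
    obtain ⟨k, rfl⟩ := Subgroup.mem_zpowers_iff.mp hn
    have hc : Commute g (zm p ^ k) := (show Commute g (zm p) from zm_comm p g).zpow_right k
    rw [hc.eq, mul_inv_cancel_right]
    exact Subgroup.zpow_mem_zpowers _ _
  obtain ⟨D, hD⟩ : ∃ D : Subgroup ↥S, D = (Subgroup.zpowers (zm p)).comap π₂ := ⟨_, rfl⟩
  haveI hDn : D.Normal := by rw [hD]; exact hZn.comap π₂
  obtain ⟨s₀, hs₀⟩ := hπ₂ (zm p)
  obtain ⟨k, m, hm, hkm⟩ := Nat.exists_eq_two_pow_mul_odd (orderOf_pos s₀).ne'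
  have hzmodd : zm p ^ m = zm p := by
    obtain ⟨r, rfl⟩ := hm
    rw [pow_succ, pow_mul, pow_two, zm_sq, one_pow, one_mul]
  obtain ⟨t₁, ht₁⟩ : ∃ t₁ : ↥S, t₁ = s₀ ^ m := ⟨_, rfl⟩
  have ht₁π : π₂ t₁ = zm p := by rw [ht₁, map_pow, hs₀, hzmodd]
  have ht₁2 : t₁ ^ 2 ^ k = 1 := by rw [ht₁, ← pow_mul, mul_comm, ← hkm, pow_orderOf_eq_one]
  have ht₁D : t₁ ∈ D := by
    rw [hD, Subgroup.mem_comap, ht₁π]
    exact Subgroup.mem_zpowers _
  have hPg : IsPGroup 2 ↥(Subgroup.zpowers (⟨t₁, ht₁D⟩ : ↥D)) := by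
    intro g
    obtain ⟨j, hj⟩ := Subgroup.mem_zpowers_iff.mp g.2
    refine ⟨k, Subtype.ext ?_⟩
    have h5 : (⟨t₁, ht₁D⟩ : ↥D) ^ 2 ^ k = 1 := Subtype.ext (by rw [Subgroup.coe_pow]; exact ht₁2)
    rw [Subgroup.coe_pow, ← hj, ← zpow_natCast, ← zpow_mul, mul_comm, zpow_mul, zpow_natCast, h5,
      one_zpow]
    rfl
  obtain ⟨T, hT⟩ := hPg.exists_le_sylow
  have ht₁T : (⟨t₁, ht₁D⟩ : ↥D) ∈ T := hT (Subgroup.mem_zpowers _)
  obtain ⟨TT, hTT⟩ : ∃ TT : Subgroup ↥S, TT = (T : Subgroup ↥D).map D.subtype := ⟨_, rfl⟩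
  obtain ⟨N, hN⟩ : ∃ N : Subgroup ↥S, N = Subgroup.normalizer (TT : Set ↥S) := ⟨_, rfl⟩
  have hfrat : N ⊔ D = ⊤ := by rw [hN, hTT]; exact Sylow.normalizer_sup_eq_top T
  have ht₁TT : t₁ ∈ TT := by rw [hTT]; exact ⟨⟨t₁, ht₁D⟩, ht₁T, rfl⟩
  have ht₁N : t₁ ∈ N := by rw [hN]; exact Subgroup.le_normalizer ht₁TT
  have hTT2 : ∀ x ∈ TT, ∃ k : ℕ, x ^ 2 ^ k = 1 := by
    intro x hx
    rw [hTT] at hx
    obtain ⟨x', hx', rfl⟩ := hx
    obtain ⟨k, hk⟩ := T.isPGroup' ⟨x', hx'⟩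
    refine ⟨k, ?_⟩
    have h5 := congrArg Subtype.val hk
    rw [Subgroup.coe_pow, Subgroup.coe_one] at h5
    have h6 := congrArg Subtype.val h5
    rw [Subgroup.coe_pow, Subgroup.coe_one] at h6
    exact h6
  have hNs : ∀ M : Matrix.SpecialLinearGroup (Fin 2) (ZMod p), ∃ n ∈ N, π₂ n = M := by
    intro M
    obtain ⟨s, hs⟩ := hπ₂ M
    have hs' : s ∈ N ⊔ D := by rw [hfrat]; trivial
    have hs'' : (s : ↥S) ∈ (N : Set ↥S) * (D : Set ↥S) := by
      rw [← Subgroup.mul_normal]; exact hs'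
    obtain ⟨n, hn, d, hd, rfl⟩ := Set.mem_mul.mp hs''
    have hd' : π₂ d ∈ Subgroup.zpowers (zm p) := by
      have : d ∈ D := hd
      rw [hD] at this
      exact this
    obtain ⟨j, hj⟩ := Subgroup.mem_zpowers_iff.mp hd'
    refine ⟨n * t₁ ^ j, N.mul_mem hn (N.zpow_mem ht₁N j), ?_⟩
    rw [← hs, map_mul, map_mul, map_zpow, ht₁π, hj]
  have htneg : ∀ c : Fin 2 → ZMod p, transQ (-c) = (transQ c : ↥(Cfsg.qdOver (ZMod p)))⁻¹ := by
    intro c
    apply eq_inv_of_mul_eq_one_right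
    rw [transQ_mul, add_neg_cancel, transQ_zero]
  obtain ⟨Γ, hΓ⟩ : ∃ Γ : Subgroup (Y × ↥(Cfsg.qdOver (ZMod p))), ∀ x, x ∈ Γ ↔
      ∃ c : Fin 2 → ZMod p, ∃ n ∈ N,
        x.1 = vec w w' c * (n : Y × Matrix.SpecialLinearGroup (Fin 2) (ZMod p)).1 ∧
        x.2 = transQ c *
          iotaHom (ZMod p) (n : Y × Matrix.SpecialLinearGroup (Fin 2) (ZMod p)).2 := by
    refine ⟨{ carrier := {x | ∃ c : Fin 2 → ZMod p, ∃ n ∈ N,
        x.1 = vec w w' c * (n : Y × Matrix.SpecialLinearGroup (Fin 2) (ZMod p)).1 ∧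
        x.2 = transQ c *
          iotaHom (ZMod p) (n : Y × Matrix.SpecialLinearGroup (Fin 2) (ZMod p)).2}
              one_mem' := ?_
              mul_mem' := ?_
              inv_mem' := ?_ }, fun x => Iff.rfl⟩
    · rintro a b ⟨c, n, hn, ha1, ha2⟩ ⟨c', n', hn', hb1, hb2⟩
      refine ⟨c + ((n : Y × Matrix.SpecialLinearGroup (Fin 2) (ZMod p)).2 :
        Matrix (Fin 2) (Fin 2) (ZMod p)).mulVec c', n * n', N.mul_mem hn hn', ?_, ?_⟩
      · rw [Prod.fst_mul, ha1, hb1, hadd, ← hPS _ n.2 c', Subgroup.coe_mul, Prod.fst_mul]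
        group
      · rw [Prod.snd_mul, ha2, hb2, ← transQ_mul, Subgroup.coe_mul, Prod.snd_mul, map_mul,
          mul_assoc, ← mul_assoc (iotaHom (ZMod p) _) (transQ c'), iota_mul_trans]
        simp only [mul_assoc]
    · refine ⟨0, 1, N.one_mem, ?_, ?_⟩
      · rw [hzero]; simp
      · rw [transQ_zero]; simp
    · rintro a ⟨c, n, hn, ha1, ha2⟩
      refine ⟨((((n⁻¹ : ↥S) : Y × Matrix.SpecialLinearGroup (Fin 2) (ZMod p)).2 :
        Matrix.SpecialLinearGroup (Fin 2) (ZMod p)) :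
        Matrix (Fin 2) (Fin 2) (ZMod p)).mulVec (-c), n⁻¹, N.inv_mem hn, ?_, ?_⟩
      · rw [Prod.fst_inv, ha1, ← hPS _ (n⁻¹).2 (-c), hneg, Subgroup.coe_inv, Prod.fst_inv]
        group
      · rw [Prod.snd_inv, ha2, mul_inv_rev, ← htneg, ← map_inv, ← iota_mul_trans,
          Subgroup.coe_inv, Prod.snd_inv]
  have hΓs : ∀ q : ↥(Cfsg.qdOver (ZMod p)), ∃ y : Y, (y, q) ∈ Γ := by
    intro q
    obtain ⟨n, hn, hnM⟩ := hNs (piHom (ZMod p) q)
    have hk : q * (iotaHom (ZMod p) (piHom (ZMod p) q))⁻¹ ∈ (piHom (ZMod p)).ker := by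
      rw [MonoidHom.mem_ker, map_mul, map_inv, pi_iota, mul_inv_cancel]
    obtain ⟨c₀, hq⟩ : ∃ c₀ : Fin 2 → ZMod p,
        q * (iotaHom (ZMod p) (piHom (ZMod p) q))⁻¹ = transQ c₀ := ⟨_, eq_transQ_of_mem_ker hk⟩
    refine ⟨vec w w' c₀ * (n : Y × Matrix.SpecialLinearGroup (Fin 2) (ZMod p)).1, ?_⟩
    rw [hΓ]
    refine ⟨c₀, n, hn, rfl, ?_⟩
    have e : (n : Y × Matrix.SpecialLinearGroup (Fin 2) (ZMod p)).2 = piHom (ZMod p) q := by
      rw [← hπ₂def, hnM]
    show q = transQ c₀ * iotaHom (ZMod p) (n : Y × Matrix.SpecialLinearGroup (Fin 2) (ZMod p)).2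
    rw [e, ← hq, inv_mul_cancel_right]
  have hΓi : ∀ q : ↥(Cfsg.qdOver (ZMod p)), ((1 : Y), q) ∈ Γ → q = 1 := by
    intro q hq
    rw [hΓ] at hq
    obtain ⟨c, n, hn, e1, e2⟩ := hq
    have e1' : vec w w' c * (n : Y × Matrix.SpecialLinearGroup (Fin 2) (ZMod p)).1 = 1 :=
      e1.symm
    have hg : (n : Y × Matrix.SpecialLinearGroup (Fin 2) (ZMod p)).1 = vec w w' (-c) := by
      rw [hneg]; exact eq_inv_of_mul_eq_one_right e1'
    have htinv : ∀ d : Fin 2 → ZMod p,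
        (t₁ : Y × Matrix.SpecialLinearGroup (Fin 2) (ZMod p)).1 * vec w w' d *
          (t₁ : Y × Matrix.SpecialLinearGroup (Fin 2) (ZMod p)).1⁻¹ = vec w w' (-d) := by
      intro d
      rw [hPS _ t₁.2 d]
      have e : (t₁ : Y × Matrix.SpecialLinearGroup (Fin 2) (ZMod p)).2 = zm p := by
        rw [← hπ₂def, ht₁π]
      rw [e]
      congr 1
      funext i
      fin_cases i <;> simp [zm, Matrix.mulVec, dotProduct, Fin.sum_univ_two]
    have h5 : n * t₁ * n⁻¹ ∈ TT := by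
      rw [hN] at hn
      exact (Subgroup.mem_normalizer_iff.mp hn t₁).mp ht₁TT
    have h6 : n * t₁ * n⁻¹ * t₁⁻¹ ∈ TT := TT.mul_mem h5 (TT.inv_mem ht₁TT)
    obtain ⟨k', hk'⟩ := hTT2 _ h6
    have h7 : ((n : Y × Matrix.SpecialLinearGroup (Fin 2) (ZMod p)).1 *
        (t₁ : Y × Matrix.SpecialLinearGroup (Fin 2) (ZMod p)).1 *
        (n : Y × Matrix.SpecialLinearGroup (Fin 2) (ZMod p)).1⁻¹ *
        (t₁ : Y × Matrix.SpecialLinearGroup (Fin 2) (ZMod p)).1⁻¹) ^ 2 ^ k' = 1 := by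
      have h8 := congrArg (fun s : ↥S =>
        (s : Y × Matrix.SpecialLinearGroup (Fin 2) (ZMod p)).1) hk'
      simpa using h8
    have h8 : (n : Y × Matrix.SpecialLinearGroup (Fin 2) (ZMod p)).1 *
        (t₁ : Y × Matrix.SpecialLinearGroup (Fin 2) (ZMod p)).1 *
        (n : Y × Matrix.SpecialLinearGroup (Fin 2) (ZMod p)).1⁻¹ *
        (t₁ : Y × Matrix.SpecialLinearGroup (Fin 2) (ZMod p)).1⁻¹ =
        vec w w' (-c) * vec w w' (-c) := by
      have hh : (vec w w' (-c))⁻¹ = vec w w' c := by rw [hneg, inv_inv]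
      rw [hg, hh, ← htinv c]
      group
    obtain ⟨x, hx⟩ : ∃ x : Y, x = vec w w' (-c) := ⟨_, rfl⟩
    rw [← hx] at h8
    have hx2 : x ^ (2 * 2 ^ k') = 1 := by
      rw [pow_mul, pow_two, ← h8]; exact h7
    have hxp : x ^ p = 1 := by rw [hx]; exact hpowp _
    have hx1 : x = 1 := by
      have ho1 := orderOf_dvd_of_pow_eq_one hx2
      have ho2 := orderOf_dvd_of_pow_eq_one hxp
      have hcop : Nat.Coprime (2 * 2 ^ k') p := by
        have h22 : Nat.Coprime 2 p := (Nat.coprime_primes Nat.prime_two hp.1).mpr (Ne.symm hp2)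
        exact Nat.Coprime.mul_left h22 (Nat.Coprime.pow_left _ h22)
      have h9 := Nat.dvd_gcd ho1 ho2
      rw [hcop.gcd_eq_one] at h9
      exact orderOf_eq_one_iff.mp (Nat.eq_one_of_dvd_one h9)
    have hc0 : c = 0 := by
      rw [hx] at hx1
      exact neg_eq_zero.mp (hone _ hx1)
    have hg1 : (n : Y × Matrix.SpecialLinearGroup (Fin 2) (ZMod p)).1 = 1 := by
      rw [hg, hc0, neg_zero, hzero]
    have hM1 : (n : Y × Matrix.SpecialLinearGroup (Fin 2) (ZMod p)).2 = 1 := by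
      apply eq_one_of_mulVec
      intro d
      have h9 := hPS _ n.2 d
      rw [hg1, one_mul, inv_one, mul_one] at h9
      exact (hvinj _ _ h9).symm
    have e2' : q = transQ c *
        iotaHom (ZMod p) (n : Y × Matrix.SpecialLinearGroup (Fin 2) (ZMod p)).2 := e2
    rw [e2', hc0, hM1, transQ_zero, map_one, mul_one]
  exact graph_involves Γ hΓs hΓi

end Recog

end Cfsg.Agent.Lib.Helper14.QdRecog
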