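import Cfsg.Agent.Lib.Helper14.QdEmbed
import Cfsg.Agent.Lib.Helper14.QdRecog
import Cfsg.Agent.Lib.Helper17.QuadInv
import Cfsg.Agent.Lib.Helper17.SL2Three
import Cfsg.Agent.S0106

set_option autoImplicit false
set_option maxHeartbeats 2000000
set_option linter.unusedSimpArgs false
set_option linter.unusedVariables false
set_option linter.style.haveILetI false

/-!
An irreducible quadratic pair acting nontrivially on an elementary abelian `p`-group (`p` odd)
produces two elements acting on a plane as the two standard transvections.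
-/

namespace Cfsg.Agent.Lib.Helper14.QdIrr

open Cfsg.Agent.Lib.Helper1 Cfsg.Agent.Lib.Helper5 Cfsg.Agent.Lib.Helper12 Cfsg.Agent.Lib.Helper17
open Cfsg.Agent.Lib.Helper14.QdRecog Cfsg.Agent.Lib.Helper14.QdEmbed

universe u v

section GroupLemmas

theorem braid_of_rel {H : Type*} [Group H] (a b z : H) (ha : a ^ 3 = 1) (hb : b ^ 3 = 1)
    (hz : z * z = 1) (hza : z * a = a * z) (hzb : z * b = b * z) (hab : a * b * a * b = z) :
    a * b⁻¹ * a = b⁻¹ * a * b⁻¹ := by
  have h3 : ∀ t : H, t * (t * t) = t ^ 3 := fun t => by rw [pow_succ, pow_two, mul_assoc]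
  have ha' : a⁻¹ = a * a := inv_eq_of_mul_eq_one_right (by rw [h3, ha])
  have hb' : b⁻¹ = b * b := inv_eq_of_mul_eq_one_right (by rw [h3, hb])
  have hz' : z⁻¹ = z := inv_eq_of_mul_eq_one_right hz
  have h1 : b * a * b = a⁻¹ * z := by rw [← hab]; group
  have hn : a * b⁻¹ * a * (a * b⁻¹ * a) = z := by
    calc a * b⁻¹ * a * (a * b⁻¹ * a) = a * b⁻¹ * (a * a) * b⁻¹ * a := by group
      _ = a * b⁻¹ * a⁻¹ * b⁻¹ * a := by rw [← ha']
      _ = a * (b * a * b)⁻¹ * a := by group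
      _ = a * (z * a) * a := by rw [h1, mul_inv_rev, inv_inv, hz']
      _ = z * a * a * a := by rw [← mul_assoc a z a, ← hza]
      _ = z * (a * (a * a)) := by group
      _ = z := by rw [← ha', mul_inv_cancel, mul_one]
  have hr : a * b * (a * b) = z := by rw [← hab]; group
  have hs : b * a * (b * a) = z := by
    calc b * a * (b * a) = b * (a * b * a * b) * b⁻¹ := by group
      _ = z := by rw [hab, ← hzb, mul_inv_cancel_right]
  have hzr : z * (a * b) = (a * b) * z := by rw [← mul_assoc, hza, mul_assoc, hzb, ← mul_assoc]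
  have hzs : z * (b * a) = (b * a) * z := by rw [← mul_assoc, hzb, mul_assoc, hza, ← mul_assoc]
  have hri : (a * b)⁻¹ = z * (a * b) :=
    inv_eq_of_mul_eq_one_right (by rw [hzr, ← mul_assoc, hr, hz])
  have hsi : (b * a)⁻¹ = z * (b * a) :=
    inv_eq_of_mul_eq_one_right (by rw [hzs, ← mul_assoc, hs, hz])
  have hl : a * b⁻¹ * a = a * b * (b * a) := by rw [hb']; group
  have hzsr : z * (b * a * (a * b)) = b * a * (a * b) * z := by
    rw [← mul_assoc, hzs, mul_assoc, hzr, ← mul_assoc]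
  have hrr : b⁻¹ * a * b⁻¹ = z * (b * a * (a * b)) := by
    calc b⁻¹ * a * b⁻¹ = b * (b * a * b) * b := by rw [hb']; group
      _ = b * (a * a * z) * b := by rw [h1, ha']
      _ = b * a * a * (z * b) := by group
      _ = b * a * a * (b * z) := by rw [hzb]
      _ = b * a * (a * b) * z := by group
      _ = z * (b * a * (a * b)) := hzsr.symm
  have hn' : a * b * (b * a) * (a * b * (b * a)) = z := by rw [← hl]; exact hn
  have h2 : a * b * (b * a) = z * (a * b * (b * a))⁻¹ := by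
    calc a * b * (b * a)
        = (a * b * (b * a) * (a * b * (b * a))) * (a * b * (b * a))⁻¹ := by group
      _ = z * (a * b * (b * a))⁻¹ := by rw [hn']
  rw [hl, hrr, h2, mul_inv_rev, hri, hsi]
  congr 1
  calc z * (b * a) * (z * (a * b)) = b * a * z * (z * (a * b)) := by rw [hzs]
    _ = b * a * (z * z) * (a * b) := by group
    _ = b * a * (a * b) := by rw [hz, mul_one]

theorem q8_cube {H : Type*} [Group H] (U I J : H) (hU : U ^ 3 = 1) (hI : I ^ 4 = 1)
    (hJJ : J * J = I * I) (hIJ : I * J = J * I⁻¹) (hUI : U * I * U⁻¹ = J)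
    (hUJ : U * J * U⁻¹ = J * I ^ 3) : (U⁻¹ * I) ^ 3 = 1 := by
  have hU' : U * U * U = 1 := by rw [← hU, pow_succ, pow_two]
  have e1 : (U⁻¹ * I) ^ 3 =
      (U * U * U)⁻¹ * (U * (U * I * U⁻¹) * U⁻¹) * (U * I * U⁻¹) * I := by
    rw [pow_succ, pow_two]; group
  have hI3 : I ^ 3 = I⁻¹ := eq_inv_of_mul_eq_one_left (by rw [← pow_succ]; exact hI)
  have h2 : I⁻¹ * J = J * I := by
    calc I⁻¹ * J = I⁻¹ * (J * I⁻¹) * I := by group
      _ = I⁻¹ * (I * J) * I := by rw [hIJ]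
      _ = J * I := by group
  rw [e1, hU', hUI, hUJ, inv_one, one_mul, hI3]
  calc J * I⁻¹ * J * I = J * (I⁻¹ * J) * I := by group
    _ = J * (J * I) * I := by rw [h2]
    _ = (J * J) * (I * I) := by group
    _ = I ^ 4 := by rw [hJJ, pow_succ, pow_succ, pow_two]; simp only [mul_assoc]
    _ = 1 := hI

theorem conj_pow_fix {H : Type*} [Group H] (g x : H) (h : g * x * g⁻¹ = x) (q : ℕ) :
    g ^ q * x * (g ^ q)⁻¹ = x := by
  induction q with
  | zero => simp
  | succ q ih =>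
    have e : g ^ (q + 1) * x * (g ^ (q + 1))⁻¹ = g ^ q * (g * x * g⁻¹) * (g ^ q)⁻¹ := by
      rw [pow_succ]; group
    rw [e, h, ih]

end GroupLemmas

section MatFacts

variable (p : ℕ) [Fact p.Prime]

theorem xm_pow_p : xm p ^ p = 1 := by
  apply Subtype.ext
  rw [xm_pow, Matrix.SpecialLinearGroup.coe_one, CharP.cast_eq_zero]
  ext i j
  fin_cases i <;> fin_cases j <;> simp

theorem ym_pow_p : ym p ^ p = 1 := by
  apply Subtype.ext
  rw [ym_pow, Matrix.SpecialLinearGroup.coe_one, CharP.cast_eq_zero]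
  ext i j
  fin_cases i <;> fin_cases j <;> simp

theorem braid_xy : xm p * (ym p)⁻¹ * xm p = (ym p)⁻¹ * xm p * (ym p)⁻¹ := by
  apply Subtype.ext
  simp only [Matrix.SpecialLinearGroup.coe_mul, Matrix.SpecialLinearGroup.coe_inv]
  ext i j
  fin_cases i <;> fin_cases j <;>
    simp [xm, ym, Matrix.adjugate_fin_two, Matrix.mul_apply, Fin.sum_univ_two]

theorem n_sq : (xm p * (ym p)⁻¹ * xm p) * (xm p * (ym p)⁻¹ * xm p) = zm p := by
  apply Subtype.ext
  simp only [Matrix.SpecialLinearGroup.coe_mul, Matrix.SpecialLinearGroup.coe_inv]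
  ext i j
  fin_cases i <;> fin_cases j <;>
    simp [xm, ym, zm, Matrix.adjugate_fin_two, Matrix.mul_apply, Fin.sum_univ_two]

theorem zm_ne_one (hp2 : p ≠ 2) : zm p ≠ 1 := by
  intro h
  have h1 := congrArg (fun M : Matrix.SpecialLinearGroup (Fin 2) (ZMod p) =>
    (M : Matrix (Fin 2) (Fin 2) (ZMod p)) 0 0) h
  simp [zm] at h1
  have h2 : (2 : ZMod p) = 0 := by linear_combination -h1
  have h3 : ((2 : ℕ) : ZMod p) = 0 := by exact_mod_cast h2
  rw [ZMod.natCast_eq_zero_iff] at h3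
  exact hp2 ((Nat.prime_dvd_prime_iff_eq Fact.out Nat.prime_two).mp h3)

end MatFacts

section Three

theorem three_data {K : Type u} [Field K] [CharP K 3] {G : Type v} [Group G] [Finite G]
    (ι : G →* Matrix.SpecialLinearGroup (Fin 2) K) (hι : Function.Injective ι) (x y : G)
    (hx3 : x ^ 3 = 1) (hy3 : y ^ 3 = 1) (hne : x * y ≠ y * x)
    (hgen : Subgroup.closure ({x, y} : Set G) = ⊤) :
    ∃ i j g : G, orderOf i = 4 ∧ j * j = i ^ 2 ∧ i * j = j * i⁻¹ ∧ g * i * g⁻¹ = j ∧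
      g * j * g⁻¹ = j * i ^ 3 ∧ Odd (orderOf g) := by
  classical
  haveI : Fact (Nat.Prime 3) := ⟨Nat.prime_three⟩
  have h2ne : (2 : K) ≠ 0 := by
    intro h
    have h3 : ((2 : ℕ) : K) = 0 := by exact_mod_cast h
    rw [CharP.cast_eq_zero_iff K 3] at h3
    norm_num at h3
  have hnc : ∀ T : Sylow 2 G, ¬ (∀ s ∈ T, ∀ t ∈ T, s * t = t * s) := fun T hT =>
    sl2_sylow2_noncomm 3 (by norm_num) ι hι x y hx3 hy3 hne hgen T hT
  obtain ⟨T⟩ : Nonempty (Sylow 2 G) := inferInstance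
  have hnotcyc : ¬ IsCyclic ↥(T : Subgroup G) := by
    intro hcyc
    apply hnc T
    intro s hs t ht
    obtain ⟨g, hg⟩ := IsCyclic.exists_generator (α := ↥(T : Subgroup G))
    obtain ⟨a, ha⟩ := Subgroup.mem_zpowers_iff.mp (hg ⟨s, hs⟩)
    obtain ⟨b, hb⟩ := Subgroup.mem_zpowers_iff.mp (hg ⟨t, ht⟩)
    have h0 : (⟨s, hs⟩ : ↥(T : Subgroup G)) * ⟨t, ht⟩ = ⟨t, ht⟩ * ⟨s, hs⟩ := by
      rw [← ha, ← hb]
      exact (Commute.zpow_zpow_self g a b).eq
    exact congrArg Subtype.val h0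
  have hU : Cfsg.Agent.Lib.Lead.UniqP 2 ↥(T : Subgroup G) := by
    have key : ∀ s : ↥(T : Subgroup G), s ^ 2 = 1 → s ≠ 1 → ι s.1 = negOne := by
      intro s hs hs1
      apply sl2_sq_one h2ne
      · rw [← map_mul, ← pow_two, ← Subgroup.coe_pow, hs, Subgroup.coe_one, map_one]
      · intro h
        apply hs1
        apply Subtype.ext
        apply hι
        rw [h, Subgroup.coe_one, map_one]
    intro s t hs ht hs1
    by_cases ht1 : t = 1
    · rw [ht1]; exact one_mem _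
    · have e : t = s := Subtype.ext (hι (by rw [key t ht ht1, key s hs hs1]))
      rw [e]
      exact Subgroup.mem_zpowers s
  rcases Cfsg.Agent.Lib.Lead.uniqP_cyclic_or_quaternion 2 T.2 hU with hcyc | ⟨_, n, ⟨e⟩⟩
  · exact absurd hcyc hnotcyc
  have hn : 1 ≤ n := by
    by_contra h0
    have hn0 : n = 0 := by omega
    subst hn0
    apply hnotcyc
    haveI := QuaternionGroup.quaternionGroup_one_isCyclic
    exact isCyclic_of_surjective e.symm.toMonoidHom e.symm.surjective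
  have hnpc : ¬ Cfsg.HasNormalPComplement 2 G := by
    intro hnpc
    obtain ⟨P, N, hNn, hcompl⟩ := hnpc
    haveI := hNn
    obtain ⟨k, hk⟩ := P.2.exists_card_eq
    have hidx : N.index = 2 ^ k := by
      rw [← hk]
      exact hcompl.symm.index_eq_card
    have hcop : Nat.Coprime 3 (2 ^ k) := Nat.Coprime.pow_right k (by norm_num)
    have hmemN : ∀ w : G, w ^ 3 = 1 → w ∈ N := by
      intro w hw
      rw [← QuotientGroup.eq_one_iff (N := N)]
      have h1 : orderOf (w : G ⧸ N) ∣ 3 :=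
        orderOf_dvd_of_pow_eq_one (by rw [← QuotientGroup.mk_pow, hw]; rfl)
      have h2 : orderOf (w : G ⧸ N) ∣ 2 ^ k := by
        rw [← hidx, Subgroup.index_eq_card]
        exact orderOf_dvd_natCard _
      have h3 : orderOf (w : G ⧸ N) ∣ 1 := by
        rw [← Nat.Coprime.gcd_eq_one hcop]
        exact Nat.dvd_gcd h1 h2
      exact orderOf_eq_one_iff.mp (Nat.eq_one_of_dvd_one h3)
    have hNtop : N = ⊤ := by
      rw [eq_top_iff, ← hgen, Subgroup.closure_le]
      rintro w (rfl | rfl)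
      · exact hmemN _ hx3
      · exact hmemN _ hy3
    have hP1 : Nat.card (P : Subgroup G) = 1 := by
      have h0 := hcompl.card_mul_card
      rw [hNtop, Subgroup.card_top] at h0
      have hpos : 0 < Nat.card G := Nat.card_pos
      exact Nat.eq_of_mul_eq_mul_left hpos (by rw [h0, mul_one])
    apply hnc P
    intro s hs t ht
    have hsub : Subsingleton ↥(P : Subgroup G) := (Nat.card_eq_one_iff_unique.mp hP1).1
    have h0 := Subsingleton.elim (⟨s, hs⟩ : ↥(P : Subgroup G)) ⟨t, ht⟩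
    have hst : s = t := congrArg Subtype.val h0
    rw [hst]
  rw [Cfsg.Agent.Lib.Helper1.hasNormalPComplement_iff_frobCond] at hnpc
  have h1 : ¬ ∀ Q : Subgroup G, Q ≤ (T : Subgroup G) →
      ∀ g ∈ Subgroup.normalizer (Q : Set G), Nat.Coprime (orderOf g) 2 →
        g ∈ Subgroup.centralizer (Q : Set G) :=
    fun h => hnpc (Cfsg.Agent.Lib.Helper1.frobCond_of_sylow T h)
  push Not at h1
  obtain ⟨Q, hQT, g, hgN, hgo, hgC⟩ := h1
  have hm : 2 ≤ 2 ^ n := by
    calc 2 = 2 ^ 1 := rfl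
      _ ≤ 2 ^ n := Nat.pow_le_pow_right (by norm_num) hn
  obtain ⟨z, α, c⟩ :=
    Cfsg.Agent.Lib.Helper2.qtype_of_equiv (T : Subgroup G) T.isPGroup' (2 ^ n) hm e
  have hodd : Odd (orderOf g) := (Nat.coprime_two_right).mp hgo
  obtain ⟨i, j, k1, k2, k3, k4, k5, k6⟩ := c.exists_q8 Q hQT g hgN hodd hgC
  exact ⟨i, j, g, k1, k2, k3, k5, k6, hodd⟩

end Three

section Nat

/-- a quadratic pair satisfying the braid relation, without common fixed points, spans natural
planes -/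
theorem nat_data {A : Type u} {Λ : Type v} [CommGroup A] [Group Λ] (φ : Λ →* MulAut A) (u v : Λ)
    (hu : ∀ a : A, φ u (φ u a / a) = φ u a / a) (hv : ∀ a : A, φ v (φ v a / a) = φ v a / a)
    (hbr : φ u * (φ v)⁻¹ * φ u = (φ v)⁻¹ * φ u * (φ v)⁻¹)
    (hfix : ∀ a : A, φ u a = a → φ v a = a → a = 1) (hnt : ∃ a : A, a ≠ 1) :
    ∃ w w' : A, w ≠ 1 ∧ φ u w = w ∧ φ u w' = w' * w ∧ φ v w = w * w' ∧ φ v w' = w' := by
  classical
  obtain ⟨α, hα⟩ : ∃ α : AddMonoid.End (Additive A), α = autToEnd (φ u) - 1 := ⟨_, rfl⟩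
  obtain ⟨β, hβ⟩ : ∃ β : AddMonoid.End (Additive A), β = autToEnd (φ v) - 1 := ⟨_, rfl⟩
  have happ : ∀ (g : Λ) (w : Additive A),
      autToEnd (φ g) w = Additive.ofMul (φ g (Additive.toMul w)) := fun g w => rfl
  have hαapp : ∀ w, α w = autToEnd (φ u) w - w := by intro w; rw [hα]; rfl
  have hβapp : ∀ w, β w = autToEnd (φ v) w - w := by intro w; rw [hβ]; rfl
  have hαα' : ∀ w, α (α w) = 0 := by
    intro w
    rw [hαapp (α w), hαapp w, sub_eq_zero, happ, happ]
    have h := hu (Additive.toMul w)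
    rw [toMul_sub, toMul_ofMul, h, ofMul_div, ofMul_toMul]
  have hββ' : ∀ w, β (β w) = 0 := by
    intro w
    rw [hβapp (β w), hβapp w, sub_eq_zero, happ, happ]
    have h := hv (Additive.toMul w)
    rw [toMul_sub, toMul_ofMul, h, ofMul_div, ofMul_toMul]
  have hαα : α * α = 0 := by ext w; exact hαα' w
  have hββ : β * β = 0 := by ext w; exact hββ' w
  have hρu : autToEnd (φ u) = 1 + α := by rw [hα]; abel
  have hρv : autToEnd (φ v) = 1 + β := by rw [hβ]; abel
  have hρvi : autToEnd ((φ v)⁻¹) = 1 - β := by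
    have h1 : autToEnd ((φ v)⁻¹) * autToEnd (φ v) = 1 := by
      rw [← map_mul, inv_mul_cancel, map_one]
    have h2 : autToEnd (φ v) * (1 - β) = 1 := by
      rw [hρv]
      have h3 : (1 + β) * (1 - β) = 1 - β * β := by
        simp only [add_mul, mul_sub, one_mul, mul_one]; abel
      rw [h3, hββ, sub_zero]
    calc autToEnd ((φ v)⁻¹) = autToEnd ((φ v)⁻¹) * (autToEnd (φ v) * (1 - β)) := by
          rw [h2, mul_one]
      _ = 1 - β := by rw [← mul_assoc, h1, one_mul]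
  have hbr' : (1 + α) * (1 - β) * (1 + α) = (1 - β) * (1 + α) * (1 - β) := by
    rw [← hρu, ← hρvi, ← map_mul, ← map_mul, ← map_mul, ← map_mul, hbr]
  have key : α + β - (α * β * α + β * α * β) =
      ((1 + α) * (1 - β) * (1 + α) - (1 - β) * (1 + α) * (1 - β)) - α * α + β * β := by
    simp only [mul_add, add_mul, mul_sub, sub_mul, mul_one, one_mul, mul_assoc]
    abel
  rw [hbr', sub_self, hαα, hββ, sub_zero, add_zero, sub_eq_zero] at key
  obtain ⟨w₀, hw₀, hαw₀⟩ : ∃ w₀ : Additive A, w₀ ≠ 0 ∧ α w₀ = 0 := by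
    by_cases h0 : α = 0
    · obtain ⟨a, ha⟩ := hnt
      refine ⟨Additive.ofMul a, fun h => ha ?_, by rw [h0]; rfl⟩
      have h5 := congrArg Additive.toMul h
      exact h5
    · have h5 : ∃ a, α a ≠ 0 := by
        by_contra hcon
        push Not at hcon
        exact h0 (by ext a; exact hcon a)
      obtain ⟨a, ha⟩ := h5
      exact ⟨α a, ha, hαα' a⟩
  have h1 : β w₀ = β (α (β w₀)) := by
    have h5 := congrArg (fun f : AddMonoid.End (Additive A) => f w₀) key
    have h6 : α w₀ + β w₀ = α (β (α w₀)) + β (α (β w₀)) := h5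
    rw [hαw₀, map_zero, map_zero, zero_add, zero_add] at h6
    exact h6
  obtain ⟨c, hc⟩ : ∃ c : Additive A, c = α (β w₀) - w₀ := ⟨_, rfl⟩
  have hc1 : α c = 0 := by rw [hc, map_sub, hαα', hαw₀, sub_zero]
  have hc2 : β c = 0 := by rw [hc, map_sub, ← h1, sub_self]
  have hc0 : c = 0 := by
    have h5 : φ u (Additive.toMul c) = Additive.toMul c := by
      have h6 := hc1
      rw [hαapp, sub_eq_zero, happ] at h6
      exact congrArg Additive.toMul h6
    have h7 : φ v (Additive.toMul c) = Additive.toMul c := by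
      have h6 := hc2
      rw [hβapp, sub_eq_zero, happ] at h6
      exact congrArg Additive.toMul h6
    have h8 := hfix _ h5 h7
    exact congrArg Additive.ofMul h8
  have hαβ : α (β w₀) = w₀ := by
    rw [hc0] at hc
    exact (sub_eq_zero.mp hc.symm)
  refine ⟨Additive.toMul w₀, Additive.toMul (β w₀), ?_, ?_, ?_, ?_, ?_⟩
  · intro h
    exact hw₀ (congrArg Additive.ofMul h)
  · have h6 := hαw₀
    rw [hαapp, sub_eq_zero, happ] at h6
    exact congrArg Additive.toMul h6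
  · have h6 := hαβ
    rw [hαapp, sub_eq_iff_eq_add, happ] at h6
    have h7 := congrArg Additive.toMul h6
    rw [toMul_add, toMul_ofMul] at h7
    rw [h7, mul_comm]
  · have h6 : autToEnd (φ v) w₀ = β w₀ + w₀ := by rw [hβapp]; abel
    rw [happ] at h6
    have h7 := congrArg Additive.toMul h6
    rw [toMul_add, toMul_ofMul] at h7
    rw [h7, mul_comm]
  · have h6 := hββ' w₀
    rw [hβapp, sub_eq_zero, happ] at h6
    exact congrArg Additive.toMul h6

end Nat

section Main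

theorem irr_data {A : Type u} {Λ : Type v} [CommGroup A] [Finite A] [Group Λ] [Finite Λ]
    {p : ℕ} [hp : Fact p.Prime] (hp2 : p ≠ 2)
    (hAp : ∀ v : A, v ^ p = 1) (φ : Λ →* MulAut A) (x y : Λ) (hgen : Subgroup.closure {x, y} = ⊤)
    (hx : QuadAct φ x) (hy : QuadAct φ y)
    (hirr : ∀ B : Subgroup A, (∀ b ∈ B, φ x b ∈ B) → (∀ b ∈ B, φ y b ∈ B) → B = ⊥ ∨ B = ⊤)
    (hxy : ¬ (φ x = 1 ∧ φ y = 1)) :
    ∃ (u v : Λ) (w w' : A), w ≠ 1 ∧ φ u w = w ∧ φ u w' = w' * w ∧ φ v w = w * w' ∧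
      φ v w' = w' := by
  classical
  obtain ⟨K, hK, hchar, Ψ, hΨ, hQ, hZ⟩ := quad_embed_sl2' hp2 hAp φ x y hgen hx hy hirr hxy
  letI := hK
  haveI := hchar
  have hnt : ∃ a : A, a ≠ 1 := by
    by_contra hcon
    push Not at hcon
    apply hxy
    constructor
    · ext a; rw [hcon a, map_one]; rfl
    · ext a; rw [hcon a, map_one]; rfl
  have hodd1 : ∀ a : A, a⁻¹ = a → a = 1 := by
    intro a ha
    have h2 : a ^ 2 = 1 := by
      rw [pow_two]
      nth_rewrite 1 [← ha]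
      exact inv_mul_cancel a
    have ho1 := orderOf_dvd_of_pow_eq_one h2
    have ho2 := orderOf_dvd_of_pow_eq_one (hAp a)
    have hcop : Nat.Coprime 2 p := (Nat.coprime_primes Nat.prime_two hp.1).mpr (Ne.symm hp2)
    have h9 := Nat.dvd_gcd ho1 ho2
    rw [hcop.gcd_eq_one] at h9
    exact orderOf_eq_one_iff.mp (Nat.eq_one_of_dvd_one h9)
  have htr : ∀ a b : Λ, Ψ a = Ψ b → φ a = φ b := by
    intro a b h
    have h1 : Ψ (a * b⁻¹) = 1 := by rw [map_mul, map_inv, h, mul_inv_cancel]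
    have h2 := (hΨ _).mp h1
    rw [map_mul, map_inv, mul_inv_eq_one] at h2
    exact h2
  obtain ⟨π, hπ, hπs⟩ : ∃ π : Λ →* ↥Ψ.range,
      (∀ l, ((π l : ↥Ψ.range) : Matrix.SpecialLinearGroup (Fin 2) K) = Ψ l) ∧
        Function.Surjective π :=
    ⟨Ψ.rangeRestrict, fun l => rfl, Ψ.rangeRestrict_surjective⟩
  haveI : Finite ↥Ψ.range := Finite.of_surjective π hπs
  have htr' : ∀ a b : Λ, π a = π b → φ a = φ b := fun a b h =>
    htr a b (by rw [← hπ, ← hπ, h])
  have hone' : ∀ a : Λ, π a = 1 → φ a = 1 := by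
    intro a h
    have h5 := htr' a 1 (by rw [h, map_one])
    rw [h5, map_one]
  have hcomm : ∀ s t : Λ, φ s * φ t = φ t * φ s ↔ Ψ s * Ψ t = Ψ t * Ψ s := by
    intro s t
    have e1 : φ s * φ t = φ t * φ s ↔ φ (s * t * s⁻¹ * t⁻¹) = 1 := by
      rw [map_mul, map_mul, map_mul, map_inv, map_inv]
      constructor
      · intro h; rw [h]; group
      · intro h
        have : φ s * φ t = (φ s * φ t * (φ s)⁻¹ * (φ t)⁻¹) * (φ t * φ s) := by group
        rw [this, h, one_mul]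
    have e2 : Ψ s * Ψ t = Ψ t * Ψ s ↔ Ψ (s * t * s⁻¹ * t⁻¹) = 1 := by
      rw [map_mul, map_mul, map_mul, map_inv, map_inv]
      constructor
      · intro h; rw [h]; group
      · intro h
        have : Ψ s * Ψ t = (Ψ s * Ψ t * (Ψ s)⁻¹ * (Ψ t)⁻¹) * (Ψ t * Ψ s) := by group
        rw [this, h, one_mul]
    rw [e1, e2, hΨ]
  have hxp : π x ^ p = 1 := by
    apply Subtype.ext
    rw [Subgroup.coe_pow, hπ, ← map_pow, Subgroup.coe_one, hΨ, map_pow]
    exact quadAct_pow_p hAp φ x hx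
  have hyp : π y ^ p = 1 := by
    apply Subtype.ext
    rw [Subgroup.coe_pow, hπ, ← map_pow, Subgroup.coe_one, hΨ, map_pow]
    exact quadAct_pow_p hAp φ y hy
  have hne : π x * π y ≠ π y * π x := by
    intro h
    have h0 := congrArg Subtype.val h
    rw [Subgroup.coe_mul, Subgroup.coe_mul, hπ, hπ] at h0
    have hφc : φ x * φ y = φ y * φ x := (hcomm x y).mpr h0
    apply hxy
    exact ⟨quadAct_trivial_of_comm φ x y hx hirr hφc,
      quadAct_trivial_of_comm φ y x hy (fun B h1 h2 => hirr B h2 h1) hφc.symm⟩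
  by_cases hp3 : p = 3
  · subst hp3
    have hclos : Subgroup.closure ({π x, π y} : Set ↥Ψ.range) = ⊤ := by
      have h1 := MonoidHom.map_closure π ({x, y} : Set Λ)
      rw [hgen, Subgroup.map_top_of_surjective π hπs] at h1
      rw [h1]
      congr 1
      ext w
      simp [Set.image_pair]
    obtain ⟨i, j, g, k1, k2, k3, k5, k6, hodd⟩ := three_data Ψ.range.subtype
      Ψ.range.subtype_injective (π x) (π y) hxp hyp hne hclos
    obtain ⟨e, m', hm', hem⟩ :=
      Nat.exists_eq_pow_mul_and_not_dvd (orderOf_pos g).ne' 3 (by norm_num)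
    have hmm : m' * m' % 3 = 1 := by
      have h1 : m' % 3 = 1 ∨ m' % 3 = 2 := by omega
      have h2 : m' * m' % 3 = ((m' % 3) * (m' % 3)) % 3 := Nat.mul_mod _ _ _
      rcases h1 with h1 | h1 <;> rw [h2, h1]
    obtain ⟨q, hq⟩ : ∃ q, m' * m' = 3 * q + 1 := ⟨m' * m' / 3, by omega⟩
    have hi4 : i ^ 4 = 1 := by rw [← k1]; exact pow_orderOf_eq_one i
    have h5 : g * (j * i ^ 3) * g⁻¹ = i := by
      have e1 : g * (j * i ^ 3) * g⁻¹ = (g * j * g⁻¹) * (g * i * g⁻¹) ^ 3 := by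
        rw [conj_pow]; group
      rw [e1, k6, k5]
      have hj3 : j ^ 3 = i ^ 2 * j := by rw [← k2, pow_succ, pow_two]
      rw [hj3]
      calc j * i ^ 3 * (i ^ 2 * j) = j * (i ^ 4 * i) * j := by group
        _ = j * i * j := by rw [hi4, one_mul]
        _ = j * (i * j) := by group
        _ = j * (j * i⁻¹) := by rw [k3]
        _ = j * j * i⁻¹ := by group
        _ = i := by rw [k2]; group
    have hg3i : g ^ 3 * i * (g ^ 3)⁻¹ = i := by
      have e1 : g ^ 3 * i * (g ^ 3)⁻¹ = g * (g * (g * i * g⁻¹) * g⁻¹) * g⁻¹ := by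
        rw [pow_succ, pow_two]; group
      rw [e1, k5, k6, h5]
    have hg3j : g ^ 3 * j * (g ^ 3)⁻¹ = j := by
      have e1 : g ^ 3 * j * (g ^ 3)⁻¹ = g * (g * (g * j * g⁻¹) * g⁻¹) * g⁻¹ := by
        rw [pow_succ, pow_two]; group
      rw [e1, k6, h5, k5]
    have hg3ji : g ^ 3 * (j * i ^ 3) * (g ^ 3)⁻¹ = j * i ^ 3 := by
      have e1 : g ^ 3 * (j * i ^ 3) * (g ^ 3)⁻¹ =
          (g ^ 3 * j * (g ^ 3)⁻¹) * (g ^ 3 * i * (g ^ 3)⁻¹) ^ 3 := by
        rw [conj_pow]; group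
      rw [e1, hg3i, hg3j]
    obtain ⟨uG, huG⟩ : ∃ uG : ↥Ψ.range, uG = g ^ (m' * m') := ⟨_, rfl⟩
    have huGi : uG * i * uG⁻¹ = j := by
      rw [huG, hq, pow_succ, pow_mul]
      have e1 : (g ^ 3) ^ q * g * i * ((g ^ 3) ^ q * g)⁻¹ =
          (g ^ 3) ^ q * (g * i * g⁻¹) * ((g ^ 3) ^ q)⁻¹ := by group
      rw [e1, k5]
      exact conj_pow_fix (g ^ 3) j hg3j q
    have huGj : uG * j * uG⁻¹ = j * i ^ 3 := by
      rw [huG, hq, pow_succ, pow_mul]
      have e1 : (g ^ 3) ^ q * g * j * ((g ^ 3) ^ q * g)⁻¹ =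
          (g ^ 3) ^ q * (g * j * g⁻¹) * ((g ^ 3) ^ q)⁻¹ := by group
      rw [e1, k6]
      exact conj_pow_fix (g ^ 3) (j * i ^ 3) hg3ji q
    have huGe : uG ^ 3 ^ e = 1 := by
      rw [huG, ← pow_mul]
      have e1 : m' * m' * 3 ^ e = (3 ^ e * m') * m' := by ring
      rw [e1, ← hem, pow_mul, pow_orderOf_eq_one, one_pow]
    obtain ⟨i₀, hi₀⟩ := hπs i
    obtain ⟨j₀, hj₀⟩ := hπs j
    obtain ⟨u₀, hu₀⟩ := hπs uG
    have hI4 : φ i₀ ^ 4 = 1 := by
      rw [← map_pow]; apply hone'; rw [map_pow, hi₀, hi4]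
    have hJJ : φ j₀ * φ j₀ = φ i₀ * φ i₀ := by
      rw [← map_mul, ← map_mul]; apply htr'; rw [map_mul, map_mul, hi₀, hj₀, k2, pow_two]
    have hIJ : φ i₀ * φ j₀ = φ j₀ * (φ i₀)⁻¹ := by
      rw [← map_inv, ← map_mul, ← map_mul]; apply htr'
      rw [map_mul, map_mul, map_inv, hi₀, hj₀, k3]
    have hUI : φ u₀ * φ i₀ * (φ u₀)⁻¹ = φ j₀ := by
      rw [← map_inv, ← map_mul, ← map_mul]; apply htr'
      rw [map_mul, map_mul, map_inv, hu₀, hi₀, huGi, hj₀]
    have hUJ : φ u₀ * φ j₀ * (φ u₀)⁻¹ = φ j₀ * φ i₀ ^ 3 := by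
      rw [← map_inv, ← map_mul, ← map_mul, ← map_pow, ← map_mul]; apply htr'
      rw [map_mul, map_mul, map_inv, map_mul, map_pow, hu₀, hi₀, hj₀, huGj]
    have hUe : φ u₀ ^ 3 ^ e = 1 := by
      rw [← map_pow]; apply hone'; rw [map_pow, hu₀, huGe]
    have huq : ∀ a : A, φ u₀ (φ u₀ a / a) = φ u₀ a / a := hQ u₀ e hUe
    have hU3 : φ u₀ ^ 3 = 1 := quadAct_pow_p hAp φ u₀ huq
    obtain ⟨v₀, hv₀⟩ : ∃ v₀ : Λ, v₀ = u₀⁻¹ * i₀ := ⟨_, rfl⟩
    have hV : φ v₀ = (φ u₀)⁻¹ * φ i₀ := by rw [hv₀, map_mul, map_inv]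
    have hV3 : φ v₀ ^ 3 = 1 := by rw [hV]; exact q8_cube _ _ _ hU3 hI4 hJJ hIJ hUI hUJ
    have hvq : ∀ a : A, φ v₀ (φ v₀ a / a) = φ v₀ a / a :=
      hQ v₀ 1 (by rw [pow_one]; exact hV3)
    have hζ2 : φ (i₀ * i₀) * φ (i₀ * i₀) = 1 := by
      rw [map_mul]
      have e1 : φ i₀ * φ i₀ * (φ i₀ * φ i₀) = φ i₀ ^ 4 := by
        rw [pow_succ, pow_succ, pow_two]; simp only [mul_assoc]
      rw [e1, hI4]
    have hζ1 : φ (i₀ * i₀) ≠ 1 := by
      intro h
      have h1 : Ψ (i₀ * i₀) = 1 := (hΨ _).mpr h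
      have h2 : π (i₀ * i₀) = 1 := Subtype.ext (by rw [hπ, h1]; rfl)
      rw [map_mul, hi₀] at h2
      have h3 : orderOf i ∣ 2 := orderOf_dvd_of_pow_eq_one (by rw [pow_two]; exact h2)
      rw [k1] at h3
      norm_num at h3
    have hζinv := hZ (i₀ * i₀) hζ2 hζ1
    have hζc : ∀ σ : MulAut A, φ (i₀ * i₀) * σ = σ * φ (i₀ * i₀) := by
      intro σ
      ext a
      rw [MulAut.mul_apply, MulAut.mul_apply, hζinv, hζinv, map_inv]
    have hUV : φ u₀ * φ v₀ * φ u₀ * φ v₀ = φ (i₀ * i₀) := by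
      rw [hV, map_mul]; group
    have hbr := braid_of_rel (φ u₀) (φ v₀) (φ (i₀ * i₀)) hU3 hV3 hζ2 (hζc _) (hζc _) hUV
    have hfix : ∀ a : A, φ u₀ a = a → φ v₀ a = a → a = 1 := by
      intro a hua hva
      have h1 : φ i₀ a = a := by
        rw [hV, MulAut.mul_apply] at hva
        have h6 := congrArg (φ u₀) hva
        rw [MulAut.apply_inv_self, hua] at h6
        exact h6
      have h2 : φ (i₀ * i₀) a = a := by rw [map_mul, MulAut.mul_apply, h1, h1]
      rw [hζinv] at h2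
      exact hodd1 a h2
    obtain ⟨w, w', hw⟩ := nat_data φ u₀ v₀ huq hvq hbr hfix hnt
    exact ⟨u₀, v₀, w, w', hw⟩
  · obtain ⟨f, hf⟩ := dickson_lite p hp2 hp3 _ ↥Ψ.range Ψ.range.subtype
      Ψ.range.subtype_injective rfl (π x) (π y) hxp hyp hne
    obtain ⟨u, hu⟩ := hπs (f (xm p))
    obtain ⟨v, hv⟩ := hπs (f (ym p))
    have huq : ∀ a : A, φ u (φ u a / a) = φ u a / a := by
      apply hQ u 1
      rw [pow_one, ← map_pow]
      apply hone'
      rw [map_pow, hu, ← map_pow, xm_pow_p, map_one]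
    have hvq : ∀ a : A, φ v (φ v a / a) = φ v a / a := by
      apply hQ v 1
      rw [pow_one, ← map_pow]
      apply hone'
      rw [map_pow, hv, ← map_pow, ym_pow_p, map_one]
    have hbr : φ u * (φ v)⁻¹ * φ u = (φ v)⁻¹ * φ u * (φ v)⁻¹ := by
      have h5 := htr' (u * v⁻¹ * u) (v⁻¹ * u * v⁻¹) (by
        rw [map_mul, map_mul, map_inv, map_mul, map_mul, map_inv, hu, hv, ← map_inv, ← map_mul,
          ← map_mul, ← map_mul, ← map_mul, braid_xy])
      rw [map_mul, map_mul, map_inv, map_mul, map_mul, map_inv] at h5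
      exact h5
    obtain ⟨z, hzdef⟩ : ∃ z : Λ, z = (u * v⁻¹ * u) * (u * v⁻¹ * u) := ⟨_, rfl⟩
    have hπz : π z = f (zm p) := by
      rw [hzdef, map_mul, map_mul, map_mul, map_inv, hu, hv, ← map_inv, ← map_mul, ← map_mul,
        ← map_mul, n_sq]
    have hz2 : φ z * φ z = 1 := by
      rw [← map_mul]; apply hone'; rw [map_mul, hπz, ← map_mul, zm_sq, map_one]
    have hz1 : φ z ≠ 1 := by
      intro h
      have h1 : Ψ z = 1 := (hΨ z).mpr h
      have h2 : π z = 1 := Subtype.ext (by rw [hπ, h1]; rfl)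
      rw [hπz] at h2
      have h3 : zm p = 1 := hf (by rw [h2, map_one])
      exact zm_ne_one p hp2 h3
    have hzinv := hZ z hz2 hz1
    have hfix : ∀ a : A, φ u a = a → φ v a = a → a = 1 := by
      intro a hua hva
      have hvia : (φ v)⁻¹ a = a := by
        have h6 := congrArg (fun t : A => (φ v)⁻¹ t) hva
        simp only [MulAut.inv_apply_self] at h6
        exact h6.symm
      have hza : φ z a = a := by
        rw [hzdef]
        simp only [map_mul, map_inv, MulAut.mul_apply, hua, hvia]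
      rw [hzinv] at hza
      exact hodd1 a hza
    obtain ⟨w, w', hw⟩ := nat_data φ u v huq hvq hbr hfix hnt
    exact ⟨u, v, w, w', hw⟩

end Main

end Cfsg.Agent.Lib.Helper14.QdIrr
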