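import Cfsg.Agent.Lib.Helper14.QdIrr
import Cfsg.Agent.Lib.Helper17.QuadNA
import Cfsg.Agent.Lib.Helper14.Cores
import Cfsg.Agent.S0199

set_option autoImplicit false
set_option maxHeartbeats 2000000
set_option linter.unusedSimpArgs false
set_option linter.unusedVariables false
set_option linter.style.haveILetI false

/-!
A finite group in which `Qd(p)` is not involved (`p` odd) is `p`-stable in the normalizer form.
-/

namespace Cfsg.Agent.Lib.Helper14.QdRed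

open Cfsg.Agent.Lib.Helper1 Cfsg.Agent.Lib.Helper5 Cfsg.Agent.Lib.Helper12 Cfsg.Agent.Lib.Helper17
open Cfsg.Agent.Lib.Helper14.QdRecog Cfsg.Agent.Lib.Helper14.QdEmbed
open Cfsg.Agent.Lib.Helper14.QdIrr

universe u v

/-- a natural plane in a section of the module -/
def NatSec {A : Type u} {Λ : Type v} [CommGroup A] [Group Λ] (φ : Λ →* MulAut A) : Prop :=
  ∃ (u v : Λ) (B : Subgroup A) (w w' : A), (∀ b ∈ B, φ u b ∈ B) ∧ (∀ b ∈ B, φ v b ∈ B) ∧ w ∉ B ∧
    φ u w / w ∈ B ∧ φ u w' / (w' * w) ∈ B ∧ φ v w / (w * w') ∈ B ∧ φ v w' / w' ∈ B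

theorem quad_nat (p : ℕ) [hp : Fact p.Prime] (hp2 : p ≠ 2) (Λ : Type v) [Group Λ]
    [Finite Λ] (x y : Λ) (hgen : Subgroup.closure {x, y} = ⊤) :
    ∀ n : ℕ, ∀ (A : Type u) [CommGroup A] [Finite A], Nat.card A = n → (∀ v : A, v ^ p = 1) →
    ∀ (φ : Λ →* MulAut A), QuadAct φ x → QuadAct φ y →
    NatSec φ ∨ ∀ g : Λ, ∃ k : ℕ, φ g ^ p ^ k = 1 := by
  classical
  intro n
  induction n using Nat.strong_induction_on with
  | _ n ih =>
  intro A _ _ hcard hAp φ hx hy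
  by_cases hirr : ∀ B : Subgroup A, (∀ b ∈ B, φ x b ∈ B) → (∀ b ∈ B, φ y b ∈ B) → B = ⊥ ∨ B = ⊤
  · by_cases hxy : φ x = 1 ∧ φ y = 1
    · right
      intro g
      obtain ⟨h1, h2⟩ := hxy
      have hle : Subgroup.closure {x, y} ≤ φ.ker := by
        rw [Subgroup.closure_le]
        intro z hz
        rcases hz with rfl | rfl
        · exact MonoidHom.mem_ker.mpr h1
        · exact MonoidHom.mem_ker.mpr h2
      rw [hgen] at hle
      exact ⟨0, by rw [pow_zero, pow_one]; exact MonoidHom.mem_ker.mp (hle (Subgroup.mem_top g))⟩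
    · left
      obtain ⟨u, v, w, w', hw1, h1, h2, h3, h4⟩ := irr_data hp2 hAp φ x y hgen hx hy hirr hxy
      refine ⟨u, v, ⊥, w, w', ?_, ?_, ?_, ?_, ?_, ?_, ?_⟩
      · intro b hb
        rw [Subgroup.mem_bot] at hb ⊢
        rw [hb, map_one]
      · intro b hb
        rw [Subgroup.mem_bot] at hb ⊢
        rw [hb, map_one]
      · rw [Subgroup.mem_bot]; exact hw1
      · rw [Subgroup.mem_bot, h1, div_self']
      · rw [Subgroup.mem_bot, h2, div_self']
      · rw [Subgroup.mem_bot, h3, div_self']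
      · rw [Subgroup.mem_bot, h4, div_self']
  · push Not at hirr
    obtain ⟨B, hBx, hBy, hBbot, hBtop⟩ := hirr
    have hBinv := invariant_of_gen φ x y hgen B hBx hBy
    obtain ⟨φB, hφB⟩ := exists_restrict_hom φ B hBinv
    obtain ⟨φQ, hφQ⟩ := exists_quotient_hom φ B hBinv
    have hcB : Nat.card ↥B < n := by
      rw [← hcard]
      exact lt_of_le_of_ne (Subgroup.card_le_card_group B)
        (fun h => hBtop (Subgroup.eq_top_of_card_eq B h))
    have hcQ : Nat.card (A ⧸ B) < n := by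
      rw [← hcard, Subgroup.card_eq_card_quotient_mul_card_subgroup B]
      have h1 : 1 < Nat.card ↥B := (Subgroup.one_lt_card_iff_ne_bot B).mpr hBbot
      have h2 : 0 < Nat.card (A ⧸ B) := Nat.card_pos
      nlinarith
    have hApB : ∀ v : ↥B, v ^ p = 1 := by
      intro v
      apply Subtype.ext
      rw [Subgroup.coe_pow, hAp]; rfl
    have hApQ : ∀ v : A ⧸ B, v ^ p = 1 := by
      intro q
      obtain ⟨v, rfl⟩ := QuotientGroup.mk_surjective q
      rw [← QuotientGroup.mk_pow, hAp]; rfl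
    have hqB : ∀ a : Λ, QuadAct φ a → QuadAct φB a := by
      intro a hq v
      apply Subtype.ext
      rw [hφB, Subgroup.coe_div, hφB]
      exact hq v
    have hqQ : ∀ a : Λ, QuadAct φ a → QuadAct φQ a := by
      intro a hq q
      obtain ⟨v, rfl⟩ := QuotientGroup.mk_surjective q
      rw [hφQ, ← QuotientGroup.mk_div, hφQ, hq v]
    rcases ih _ hcB ↥B rfl hApB φB (hqB x hx) (hqB y hy) with hsB | hpB
    · left
      obtain ⟨u, v, B', w, w', h1, h2, h3, h4, h5, h6, h7⟩ := hsB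
      refine ⟨u, v, B'.map B.subtype, (w : A), (w' : A), ?_, ?_, ?_, ?_, ?_, ?_, ?_⟩
      · rintro b ⟨b', hb', rfl⟩
        exact ⟨φB u b', h1 b' hb', (hφB u b')⟩
      · rintro b ⟨b', hb', rfl⟩
        exact ⟨φB v b', h2 b' hb', (hφB v b')⟩
      · rintro ⟨b', hb', hbw⟩
        have : b' = w := Subtype.ext hbw
        rw [this] at hb'
        exact h3 hb'
      · refine ⟨_, h4, ?_⟩
        show ((φB u w / w : ↥B) : A) = φ u (w : A) / (w : A)
        rw [Subgroup.coe_div, hφB]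
      · refine ⟨_, h5, ?_⟩
        show ((φB u w' / (w' * w) : ↥B) : A) = φ u (w' : A) / ((w' : A) * (w : A))
        rw [Subgroup.coe_div, hφB, Subgroup.coe_mul]
      · refine ⟨_, h6, ?_⟩
        show ((φB v w / (w * w') : ↥B) : A) = φ v (w : A) / ((w : A) * (w' : A))
        rw [Subgroup.coe_div, hφB, Subgroup.coe_mul]
      · refine ⟨_, h7, ?_⟩
        show ((φB v w' / w' : ↥B) : A) = φ v (w' : A) / (w' : A)
        rw [Subgroup.coe_div, hφB]
    rcases ih _ hcQ (A ⧸ B) rfl hApQ φQ (hqQ x hx) (hqQ y hy) with hsQ | hpQ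
    · left
      obtain ⟨u, v, B', wq, wq', h1, h2, h3, h4, h5, h6, h7⟩ := hsQ
      obtain ⟨w, rfl⟩ := QuotientGroup.mk_surjective wq
      obtain ⟨w', rfl⟩ := QuotientGroup.mk_surjective wq'
      refine ⟨u, v, B'.comap (QuotientGroup.mk' B), w, w', ?_, ?_, ?_, ?_, ?_, ?_, ?_⟩
      · intro b hb
        rw [Subgroup.mem_comap] at hb ⊢
        have h8 := h1 _ hb
        rw [QuotientGroup.mk'_apply, hφQ] at h8
        exact h8
      · intro b hb
        rw [Subgroup.mem_comap] at hb ⊢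
        have h8 := h2 _ hb
        rw [QuotientGroup.mk'_apply, hφQ] at h8
        exact h8
      · intro hb
        rw [Subgroup.mem_comap] at hb
        exact h3 hb
      · rw [Subgroup.mem_comap, QuotientGroup.mk'_apply, QuotientGroup.mk_div, ← hφQ]
        exact h4
      · rw [Subgroup.mem_comap, QuotientGroup.mk'_apply, QuotientGroup.mk_div,
          QuotientGroup.mk_mul, ← hφQ]
        exact h5
      · rw [Subgroup.mem_comap, QuotientGroup.mk'_apply, QuotientGroup.mk_div,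
          QuotientGroup.mk_mul, ← hφQ]
        exact h6
      · rw [Subgroup.mem_comap, QuotientGroup.mk'_apply, QuotientGroup.mk_div, ← hφQ]
        exact h7
    right
    intro g
    obtain ⟨k₁, hk₁⟩ := hpB g
    obtain ⟨k₂, hk₂⟩ := hpQ g
    refine ⟨k₁ + k₂ + 1, ?_⟩
    have e1 : φB (g ^ p ^ (k₁ + k₂)) = 1 := by
      rw [map_pow, pow_add, pow_mul, hk₁, one_pow]
    have e2 : φQ (g ^ p ^ (k₁ + k₂)) = 1 := by
      rw [map_pow, pow_add, mul_comm, pow_mul, hk₂, one_pow]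
    obtain ⟨m, hm⟩ : ∃ m, m = g ^ p ^ (k₁ + k₂) := ⟨_, rfl⟩
    rw [← hm] at e1 e2
    have hδ : ∀ v : A, φ m v / v ∈ B := by
      intro v
      have h := hφQ m v
      rw [e2] at h
      have h' : (QuotientGroup.mk v : A ⧸ B) = QuotientGroup.mk (φ m v) := h
      rw [QuotientGroup.eq] at h'
      rw [div_eq_mul_inv, mul_comm]; exact h'
    have hfixB : ∀ b ∈ B, φ m b = b := by
      intro b hb
      have h := hφB m ⟨b, hb⟩
      rw [e1] at h
      exact h.symm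
    have key : ∀ j : ℕ, ∀ v : A, φ (m ^ j) v = v * (φ m v / v) ^ j := by
      intro j
      induction j with
      | zero => intro v; simp
      | succ j ihj =>
        intro v
        rw [pow_succ', map_mul, MulAut.mul_apply, ihj, map_mul, map_pow, hfixB _ (hδ v),
          pow_succ', ← mul_assoc, mul_div_cancel]
    have e3 : φ g ^ p ^ (k₁ + k₂ + 1) = φ (m ^ p) := by
      rw [hm, ← pow_mul, ← pow_succ, map_pow]
    rw [e3]
    apply MulEquiv.ext
    intro v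
    rw [key, hAp, mul_one]; rfl

section Internal

open scoped commutatorElement

theorem mem_normalizer_of_conj {Y : Type u} [Group Y] [Finite Y] (B : Subgroup Y) (g : Y)
    (h : ∀ b ∈ B, g * b * g⁻¹ ∈ B) : g ∈ Subgroup.normalizer (B : Set Y) := by
  classical
  rw [Subgroup.mem_normalizer_iff]
  intro x
  constructor
  · exact h x
  · intro hx
    obtain ⟨f, hf⟩ : ∃ f : ↥B → ↥B, ∀ b : ↥B, ((f b : ↥B) : Y) = g * (b : Y) * g⁻¹ :=
      ⟨fun b => ⟨g * b * g⁻¹, h b b.2⟩, fun b => rfl⟩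
    have hinj : Function.Injective f := by
      intro a b hab
      have h5 := congrArg Subtype.val hab
      rw [hf, hf] at h5
      apply Subtype.ext
      exact mul_left_cancel (mul_right_cancel h5)
    have hsurj := Finite.surjective_of_injective hinj
    obtain ⟨b, hb⟩ := hsurj ⟨g * x * g⁻¹, hx⟩
    have h5 : g * (b : Y) * g⁻¹ = g * x * g⁻¹ := by rw [← hf, hb]
    have h6 : (b : Y) = x := mul_left_cancel (mul_right_cancel h5)
    rw [← h6]
    exact b.2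

theorem pair_pgroup {Y : Type u} [Group Y] [Finite Y] {p : ℕ} [hp : Fact p.Prime] (hp2 : p ≠ 2)
    (hno : ¬ Cfsg.Involves ↥(Cfsg.qd p) Y) (V : Subgroup Y)
    (hVc : ∀ a ∈ V, ∀ b ∈ V, a * b = b * a) (hVp : ∀ a ∈ V, a ^ p = 1) (a b : Y)
    (ha : ∀ x ∈ V, a * x * a⁻¹ ∈ V) (hb : ∀ x ∈ V, b * x * b⁻¹ ∈ V)
    (hqa : ∀ x ∈ V, a * (a * x * a⁻¹ * x⁻¹) * a⁻¹ = a * x * a⁻¹ * x⁻¹)
    (hqb : ∀ x ∈ V, b * (b * x * b⁻¹ * x⁻¹) * b⁻¹ = b * x * b⁻¹ * x⁻¹) :
    ∀ g ∈ Subgroup.closure ({a, b} : Set Y), ∃ k : ℕ,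
      ∀ x ∈ V, g ^ p ^ k * x * (g ^ p ^ k)⁻¹ = x := by
  classical
  obtain ⟨L, hL⟩ : ∃ L : Subgroup Y, L = Subgroup.closure ({a, b} : Set Y) := ⟨_, rfl⟩
  rw [← hL]
  have haN := mem_normalizer_of_conj V a ha
  have hbN := mem_normalizer_of_conj V b hb
  have hLN : L ≤ Subgroup.normalizer (V : Set Y) := by
    rw [hL, Subgroup.closure_le]
    rintro z (rfl | rfl)
    · exact haN
    · exact hbN
  letI : CommGroup ↥V :=
    { (inferInstance : Group ↥V) with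
      mul_comm := fun s t => Subtype.ext (hVc s s.2 t t.2) }
  have hLV : ∀ g : ↥L, ∀ x ∈ V, (MulAut.conj.comp L.subtype) g x ∈ V := by
    intro g x hx
    exact (Subgroup.mem_normalizer_iff.mp (hLN g.2) x).mp hx
  obtain ⟨ψ, hψ⟩ := exists_restrict_hom_na (MulAut.conj.comp L.subtype) V hLV
  have hψ' : ∀ (g : ↥L) (x : ↥V), ((ψ g x : ↥V) : Y) = (g : Y) * (x : Y) * (g : Y)⁻¹ :=
    fun g x => hψ g x
  have hc₁ : a ∈ L := by rw [hL]; exact Subgroup.subset_closure (by simp)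
  have hc₂ : b ∈ L := by rw [hL]; exact Subgroup.subset_closure (by simp)
  have hgen : Subgroup.closure ({⟨a, hc₁⟩, ⟨b, hc₂⟩} : Set ↥L) = ⊤ := by
    apply Subgroup.map_injective L.subtype_injective
    rw [MonoidHom.map_closure, ← MonoidHom.range_eq_map, Subgroup.range_subtype]
    conv_rhs => rw [hL]
    congr 1
    ext w
    simp [Set.image_pair]
  have hAp : ∀ v : ↥V, v ^ p = 1 := fun v =>
    Subtype.ext (by rw [Subgroup.coe_pow]; exact hVp v v.2)
  have hqx : QuadAct ψ ⟨a, hc₁⟩ := by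
    intro v
    apply Subtype.ext
    rw [hψ', Subgroup.coe_div, hψ', div_eq_mul_inv]
    exact hqa v v.2
  have hqy : QuadAct ψ ⟨b, hc₂⟩ := by
    intro v
    apply Subtype.ext
    rw [hψ', Subgroup.coe_div, hψ', div_eq_mul_inv]
    exact hqb v v.2
  rcases quad_nat p hp2 ↥L ⟨a, hc₁⟩ ⟨b, hc₂⟩ hgen _ ↥V rfl hAp ψ hqx hqy with hs | hpg
  · exfalso
    obtain ⟨u, v, B, w, w', h1, h2, h3, h4, h5, h6, h7⟩ := hs
    obtain ⟨B', hB'⟩ : ∃ B' : Subgroup Y, B' = B.map V.subtype := ⟨_, rfl⟩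
    have hB'V : B' ≤ V := by
      rw [hB']
      rintro _ ⟨b₀, _, rfl⟩
      exact b₀.2
    have hmemB' : ∀ t : ↥V, (t : Y) ∈ B' ↔ t ∈ B := by
      intro t
      rw [hB']
      constructor
      · rintro ⟨b₀, hb₀, hb₀t⟩
        have : b₀ = t := Subtype.ext hb₀t
        rw [← this]; exact hb₀
      · intro ht
        exact ⟨t, ht, rfl⟩
    have huN : (u : Y) ∈ Subgroup.normalizer (B' : Set Y) := by
      apply mem_normalizer_of_conj
      intro b hb
      have hbV := hB'V hb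
      have h8 := h1 ⟨b, hbV⟩ ((hmemB' ⟨b, hbV⟩).mp hb)
      rw [← hmemB', hψ'] at h8
      exact h8
    have hvN : (v : Y) ∈ Subgroup.normalizer (B' : Set Y) := by
      apply mem_normalizer_of_conj
      intro b hb
      have hbV := hB'V hb
      have h8 := h2 ⟨b, hbV⟩ ((hmemB' ⟨b, hbV⟩).mp hb)
      rw [← hmemB', hψ'] at h8
      exact h8
    have hVN : ∀ t : ↥V, (t : Y) ∈ Subgroup.normalizer (B' : Set Y) := by
      intro t
      apply mem_normalizer_of_conj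
      intro b hb
      have hbV := hB'V hb
      rw [hVc _ t.2 _ hbV, mul_inv_cancel_right]
      exact hb
    obtain ⟨N₂, hN₂⟩ : ∃ N₂ : Subgroup Y, N₂ = Subgroup.normalizer (B' : Set Y) := ⟨_, rfl⟩
    haveI hBn : (B'.subgroupOf N₂).Normal := by rw [hN₂]; exact Subgroup.normal_in_normalizer
    rw [← hN₂] at huN hvN hVN
    have hq : Cfsg.Involves ↥(Cfsg.qd p) (↥N₂ ⧸ B'.subgroupOf N₂) := by
      apply qd_recog hp2 (QuotientGroup.mk ⟨(w : Y), hVN w⟩ : ↥N₂ ⧸ B'.subgroupOf N₂)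
        (QuotientGroup.mk ⟨(w' : Y), hVN w'⟩) (QuotientGroup.mk ⟨(u : Y), huN⟩)
        (QuotientGroup.mk ⟨(v : Y), hvN⟩)
      · intro h8
        rw [QuotientGroup.eq_one_iff, Subgroup.mem_subgroupOf] at h8
        exact h3 ((hmemB' w).mp h8)
      · rw [← QuotientGroup.mk_pow, QuotientGroup.eq_one_iff, Subgroup.mem_subgroupOf,
          Subgroup.coe_pow]
        have h8 : (w : Y) ^ p = 1 := hVp _ w.2
        rw [h8]
        exact B'.one_mem
      · rw [← QuotientGroup.mk_pow, QuotientGroup.eq_one_iff, Subgroup.mem_subgroupOf,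
          Subgroup.coe_pow]
        have h8 : (w' : Y) ^ p = 1 := hVp _ w'.2
        rw [h8]
        exact B'.one_mem
      · rw [← QuotientGroup.mk_mul, ← QuotientGroup.mk_mul]
        congr 1
        exact Subtype.ext (hVc _ w.2 _ w'.2)
      · rw [← QuotientGroup.mk_inv, ← QuotientGroup.mk_mul, ← QuotientGroup.mk_mul,
          QuotientGroup.eq_iff_div_mem, Subgroup.mem_subgroupOf]
        have h8 := (hmemB' _).mpr h4
        rw [Subgroup.coe_div, hψ'] at h8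
        exact h8
      · rw [← QuotientGroup.mk_inv, ← QuotientGroup.mk_mul, ← QuotientGroup.mk_mul,
          ← QuotientGroup.mk_mul, QuotientGroup.eq_iff_div_mem, Subgroup.mem_subgroupOf]
        have h8 := (hmemB' _).mpr h5
        rw [Subgroup.coe_div, hψ', Subgroup.coe_mul] at h8
        exact h8
      · rw [← QuotientGroup.mk_inv, ← QuotientGroup.mk_mul, ← QuotientGroup.mk_mul,
          ← QuotientGroup.mk_mul, QuotientGroup.eq_iff_div_mem, Subgroup.mem_subgroupOf]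
        have h8 := (hmemB' _).mpr h6
        rw [Subgroup.coe_div, hψ', Subgroup.coe_mul] at h8
        exact h8
      · rw [← QuotientGroup.mk_inv, ← QuotientGroup.mk_mul, ← QuotientGroup.mk_mul,
          QuotientGroup.eq_iff_div_mem, Subgroup.mem_subgroupOf]
        have h8 := (hmemB' _).mpr h7
        rw [Subgroup.coe_div, hψ'] at h8
        exact h8
    have hN : Cfsg.Involves ↥(Cfsg.qd p) ↥N₂ :=
      involves_of_surjective_hom (QuotientGroup.mk' (B'.subgroupOf N₂))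
        (QuotientGroup.mk'_surjective _) hq
    obtain ⟨K₁, L₁, hn, hle, he⟩ := exists_section_of_involves_subgroup N₂ hN
    exact hno ⟨K₁, L₁, hn, he⟩
  · intro g hg
    obtain ⟨k, hk⟩ := hpg ⟨g, hg⟩
    refine ⟨k, fun x hx => ?_⟩
    have h8 : ψ (⟨g, hg⟩ ^ p ^ k) ⟨x, hx⟩ = ⟨x, hx⟩ := by rw [map_pow, hk]; rfl
    have h9 := congrArg Subtype.val h8
    rw [hψ'] at h9
    exact h9

theorem abelian_stable {Y : Type u} [Group Y] [Finite Y] {p : ℕ} [hp : Fact p.Prime]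
    (hp2 : p ≠ 2) (hno : ¬ Cfsg.Involves ↥(Cfsg.qd p) Y) (V : Subgroup Y) [hVn : V.Normal]
    (hVc : ∀ a ∈ V, ∀ b ∈ V, a * b = b * a) (hVp : ∀ a ∈ V, a ^ p = 1) (a : Y)
    (hqa : ∀ x ∈ V, a * (a * x * a⁻¹ * x⁻¹) * a⁻¹ = a * x * a⁻¹ * x⁻¹) :
    ∃ M : Subgroup Y, M.Normal ∧ a ∈ M ∧
      ∀ g ∈ M, ∃ k : ℕ, ∀ x ∈ V, g ^ p ^ k * x * (g ^ p ^ k)⁻¹ = x := by
  classical
  obtain ⟨C, hC⟩ : ∃ C : Subgroup Y, C = Subgroup.centralizer (V : Set Y) := ⟨_, rfl⟩
  haveI hCn : C.Normal := by rw [hC]; infer_instance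
  have hCmem : ∀ g : Y, g ∈ C ↔ ∀ x ∈ V, g * x * g⁻¹ = x := by
    intro g
    rw [hC, Subgroup.mem_centralizer_iff]
    constructor
    · intro h x hx
      rw [← h x hx, mul_inv_cancel_right]
    · intro h x hx
      have h5 := h x hx
      calc x * g = g * x * g⁻¹ * g := by rw [h5]
        _ = g * x := by group
  have hqconj : ∀ h : Y, ∀ x ∈ V, (h * a * h⁻¹) * ((h * a * h⁻¹) * x * (h * a * h⁻¹)⁻¹ * x⁻¹) *
      (h * a * h⁻¹)⁻¹ = (h * a * h⁻¹) * x * (h * a * h⁻¹)⁻¹ * x⁻¹ := by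
    intro h x hx
    have hx' : h⁻¹ * x * h ∈ V := by
      have h5 := hVn.conj_mem x hx h⁻¹
      rw [inv_inv] at h5
      exact h5
    have h5 := hqa _ hx'
    calc (h * a * h⁻¹) * ((h * a * h⁻¹) * x * (h * a * h⁻¹)⁻¹ * x⁻¹) * (h * a * h⁻¹)⁻¹
        = h * (a * (a * (h⁻¹ * x * h) * a⁻¹ * (h⁻¹ * x * h)⁻¹) * a⁻¹) * h⁻¹ := by group
      _ = h * (a * (h⁻¹ * x * h) * a⁻¹ * (h⁻¹ * x * h)⁻¹) * h⁻¹ := by rw [h5]
      _ = (h * a * h⁻¹) * x * (h * a * h⁻¹)⁻¹ * x⁻¹ := by group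
  have hconjV : ∀ h : Y, ∀ x ∈ V, (h * a * h⁻¹) * x * (h * a * h⁻¹)⁻¹ ∈ V :=
    fun h x hx => hVn.conj_mem x hx _
  obtain ⟨K, hK⟩ : ∃ K : Set (Y ⧸ C), K = {w | ∃ h : Y, w = QuotientGroup.mk (h * a * h⁻¹)} :=
    ⟨_, rfl⟩
  have hconj : ∀ g : Y ⧸ C, ∀ w ∈ K, g * w * g⁻¹ ∈ K := by
    intro g w hw
    rw [hK] at hw ⊢
    obtain ⟨h, rfl⟩ := hw
    obtain ⟨g₀, rfl⟩ := QuotientGroup.mk_surjective g
    refine ⟨g₀ * h, ?_⟩
    rw [← QuotientGroup.mk_inv, ← QuotientGroup.mk_mul, ← QuotientGroup.mk_mul]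
    congr 1
    group
  have hpair : ∀ w₁ ∈ K, ∀ w₂ ∈ K,
      IsPGroup p (Subgroup.closure ({w₁, w₂} : Set (Y ⧸ C))) := by
    intro w₁ hw₁ w₂ hw₂
    rw [hK] at hw₁ hw₂
    obtain ⟨h₁, rfl⟩ := hw₁
    obtain ⟨h₂, rfl⟩ := hw₂
    have hmap : Subgroup.closure ({(QuotientGroup.mk (h₁ * a * h₁⁻¹) : Y ⧸ C),
        QuotientGroup.mk (h₂ * a * h₂⁻¹)} : Set (Y ⧸ C))
        = (Subgroup.closure ({h₁ * a * h₁⁻¹, h₂ * a * h₂⁻¹} : Set Y)).map
          (QuotientGroup.mk' C) := by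
      rw [MonoidHom.map_closure, Set.image_pair]
      rfl
    rw [hmap]
    rintro ⟨_, g, hg, rfl⟩
    obtain ⟨k, hk⟩ := pair_pgroup hp2 hno V hVc hVp _ _ (hconjV h₁) (hconjV h₂) (hqconj h₁)
      (hqconj h₂) g hg
    refine ⟨k, ?_⟩
    apply Subtype.ext
    rw [Subgroup.coe_pow, Subgroup.coe_one]
    show (QuotientGroup.mk' C g) ^ p ^ k = 1
    rw [QuotientGroup.mk'_apply, ← QuotientGroup.mk_pow, QuotientGroup.eq_one_iff, hCmem]
    exact hk
  obtain ⟨N₀, hN₀n, hN₀p, hKN⟩ := Cfsg.Agent.S0199.baer_suzuki_set K hconj hpair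
  refine ⟨N₀.comap (QuotientGroup.mk' C), hN₀n.comap _, ?_, ?_⟩
  · rw [Subgroup.mem_comap]
    apply hKN
    rw [hK]
    exact ⟨1, by simp⟩
  · intro g hg
    obtain ⟨k, hk⟩ := hN₀p ⟨QuotientGroup.mk' C g, hg⟩
    refine ⟨k, ?_⟩
    rw [← hCmem]
    have h1 := congrArg Subtype.val hk
    rw [Subgroup.coe_pow, Subgroup.coe_one] at h1
    have h1' : (QuotientGroup.mk' C g) ^ p ^ k = 1 := h1
    rw [QuotientGroup.mk'_apply, ← QuotientGroup.mk_pow, QuotientGroup.eq_one_iff] at h1'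
    exact h1'

theorem general_stable (p : ℕ) [hp : Fact p.Prime] (hp2 : p ≠ 2) :
    ∀ n : ℕ, ∀ (Y : Type u) [Group Y] [Finite Y], ¬ Cfsg.Involves ↥(Cfsg.qd p) Y →
    ∀ (P : Subgroup Y), P.Normal → IsPGroup p P → Nat.card P = n → ∀ a : Y,
    (∀ x ∈ P, a * (a * x * a⁻¹ * x⁻¹) * a⁻¹ = a * x * a⁻¹ * x⁻¹) →
    ∃ M : Subgroup Y, M.Normal ∧ a ∈ M ∧
      ∀ g ∈ M, ∃ k : ℕ, ∀ x ∈ P, g ^ p ^ k * x * (g ^ p ^ k)⁻¹ = x := by
  classical
  intro n
  induction n using Nat.strong_induction_on with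
  | _ n ih =>
  intro Y _ _ hno P hPn hP hcard a hqa
  by_cases hbot : P = ⊥
  · refine ⟨⊤, inferInstance, Subgroup.mem_top a, fun g _ => ⟨0, fun x hx => ?_⟩⟩
    rw [hbot, Subgroup.mem_bot] at hx
    rw [hx, mul_one, mul_inv_cancel]
  obtain ⟨A, hA⟩ : ∃ A : Subgroup Y,
      ∀ x, x ∈ A ↔ x ∈ P ∧ (∀ q ∈ P, q * x = x * q) ∧ x ^ p = 1 := by
    refine ⟨{ carrier := {x | x ∈ P ∧ (∀ q ∈ P, q * x = x * q) ∧ x ^ p = 1}
              mul_mem' := ?_
              one_mem' := ?_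
              inv_mem' := ?_ }, fun x => Iff.rfl⟩
    · rintro s t ⟨hs1, hs2, hs3⟩ ⟨ht1, ht2, ht3⟩
      refine ⟨P.mul_mem hs1 ht1, ?_, ?_⟩
      · intro q hq
        rw [← mul_assoc, hs2 q hq, mul_assoc, ht2 q hq, mul_assoc]
      · have hc : Commute s t := (hs2 t ht1).symm
        rw [hc.mul_pow, hs3, ht3, one_mul]
    · exact ⟨P.one_mem, fun q _ => by rw [mul_one, one_mul], one_pow p⟩
    · rintro s ⟨hs1, hs2, hs3⟩
      refine ⟨P.inv_mem hs1, ?_, by rw [inv_pow, hs3, inv_one]⟩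
      intro q hq
      have h5 := hs2 q hq
      calc q * s⁻¹ = s⁻¹ * (s * q) * s⁻¹ := by group
        _ = s⁻¹ * (q * s) * s⁻¹ := by rw [h5]
        _ = s⁻¹ * q := by group
  have hAP : A ≤ P := fun x hx => ((hA x).mp hx).1
  haveI hAn : A.Normal := by
    refine ⟨fun x hx g => ?_⟩
    rw [hA] at hx ⊢
    obtain ⟨h1, h2, h3⟩ := hx
    refine ⟨hPn.conj_mem x h1 g, ?_, by rw [conj_pow, h3, mul_one, mul_inv_cancel]⟩
    intro q hq
    have hq' : g⁻¹ * q * g ∈ P := by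
      have h5 := hPn.conj_mem q hq g⁻¹
      rw [inv_inv] at h5
      exact h5
    have h5 := h2 _ hq'
    calc q * (g * x * g⁻¹) = g * ((g⁻¹ * q * g) * x) * g⁻¹ := by group
      _ = g * (x * (g⁻¹ * q * g)) * g⁻¹ := by rw [h5]
      _ = g * x * g⁻¹ * q := by group
  have hAc : ∀ s ∈ A, ∀ t ∈ A, s * t = t * s :=
    fun s hs t ht => (((hA t).mp ht).2.1 s ((hA s).mp hs).1)
  have hAp : ∀ s ∈ A, s ^ p = 1 := fun s hs => ((hA s).mp hs).2.2
  have hAne : ∃ z ∈ A, z ≠ 1 := by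
    haveI : Nontrivial ↥P := (Subgroup.nontrivial_iff_ne_bot P).mpr hbot
    haveI : Nontrivial (Subgroup.center ↥P) := hP.center_nontrivial
    have hZp : IsPGroup p (Subgroup.center ↥P) := hP.to_subgroup _
    obtain ⟨k, hk⟩ := hZp.exists_card_eq
    have hk0 : k ≠ 0 := by
      rintro rfl
      rw [pow_zero] at hk
      have hss : Subsingleton (Subgroup.center ↥P) := (Nat.card_eq_one_iff_unique.mp hk).1
      exact not_subsingleton _ hss
    have hdvd : p ∣ Nat.card (Subgroup.center ↥P) := by rw [hk]; exact dvd_pow_self p hk0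
    obtain ⟨z, hz⟩ := exists_prime_orderOf_dvd_card' p hdvd
    refine ⟨((z : ↥P) : Y), ?_, ?_⟩
    · rw [hA]
      refine ⟨(z : ↥P).2, ?_, ?_⟩
      · intro q hq
        have h1 := Subgroup.mem_center_iff.mp z.2 ⟨q, hq⟩
        exact congrArg Subtype.val h1
      · have h0 := pow_orderOf_eq_one z
        rw [hz] at h0
        have h2 := congrArg Subtype.val h0
        rw [Subgroup.coe_pow, Subgroup.coe_one] at h2
        have h3 := congrArg Subtype.val h2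
        rw [Subgroup.coe_pow, Subgroup.coe_one] at h3
        exact h3
    · intro h1
      have h2 : z = 1 := Subtype.ext (Subtype.ext h1)
      rw [h2, orderOf_one] at hz
      exact hp.1.one_lt.ne hz
  obtain ⟨M₁, hM₁n, haM₁, hM₁⟩ :=
    abelian_stable hp2 hno A hAc hAp a (fun x hx => hqa x (hAP hx))
  have hnoQ : ¬ Cfsg.Involves ↥(Cfsg.qd p) (Y ⧸ A) := fun h =>
    hno (involves_of_surjective_hom (QuotientGroup.mk' A) (QuotientGroup.mk'_surjective A) h)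
  obtain ⟨Pq, hPq⟩ : ∃ Pq : Subgroup (Y ⧸ A), Pq = P.map (QuotientGroup.mk' A) := ⟨_, rfl⟩
  have hPqn : Pq.Normal := by rw [hPq]; exact hPn.map _ (QuotientGroup.mk'_surjective A)
  have hPqp : IsPGroup p Pq := by rw [hPq]; exact hP.map _
  have hcardq : Nat.card Pq < n := by
    rw [← hcard, hPq]
    obtain ⟨z, hzA, hz1⟩ := hAne
    have hsurj := MonoidHom.subgroupMap_surjective (QuotientGroup.mk' A) P
    have hninj : ¬ Function.Injective ((QuotientGroup.mk' A).subgroupMap P) := by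
      intro hinj
      have h1 : (QuotientGroup.mk' A).subgroupMap P ⟨z, hAP hzA⟩ =
          (QuotientGroup.mk' A).subgroupMap P 1 := by
        apply Subtype.ext
        show QuotientGroup.mk' A z = QuotientGroup.mk' A 1
        rw [map_one]
        exact (QuotientGroup.eq_one_iff z).mpr hzA
      have h2 := hinj h1
      exact hz1 (congrArg Subtype.val h2)
    haveI : Fintype ↥P := Fintype.ofFinite _
    haveI : Fintype ↥(P.map (QuotientGroup.mk' A)) := Fintype.ofFinite _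
    rw [Nat.card_eq_fintype_card, Nat.card_eq_fintype_card]
    exact Fintype.card_lt_of_surjective_not_injective _ hsurj hninj
  have hqaq : ∀ x ∈ Pq, (QuotientGroup.mk a : Y ⧸ A) *
      (QuotientGroup.mk a * x * (QuotientGroup.mk a)⁻¹ * x⁻¹) * (QuotientGroup.mk a)⁻¹ =
      QuotientGroup.mk a * x * (QuotientGroup.mk a)⁻¹ * x⁻¹ := by
    intro x hx
    rw [hPq] at hx
    obtain ⟨x₀, hx₀, rfl⟩ := hx
    have h5 := congrArg (QuotientGroup.mk' A) (hqa x₀ hx₀)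
    rw [map_mul, map_mul, map_mul, map_mul, map_mul, map_inv, map_inv] at h5
    exact h5
  obtain ⟨M₂, hM₂n, haM₂, hM₂⟩ :=
    ih _ hcardq (Y ⧸ A) hnoQ Pq hPqn hPqp rfl (QuotientGroup.mk a) hqaq
  haveI := hM₁n
  haveI hM₂c : (M₂.comap (QuotientGroup.mk' A)).Normal := hM₂n.comap (QuotientGroup.mk' A)
  refine ⟨M₁ ⊓ M₂.comap (QuotientGroup.mk' A), inferInstance, ⟨haM₁, haM₂⟩, ?_⟩
  rintro g ⟨hg1, hg2⟩
  obtain ⟨k₁, hk₁⟩ := hM₁ g hg1
  obtain ⟨k₂, hk₂⟩ := hM₂ _ hg2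
  refine ⟨k₁ + k₂ + 1, ?_⟩
  obtain ⟨m, hm⟩ : ∃ m, m = g ^ p ^ (k₁ + k₂) := ⟨_, rfl⟩
  have hmA : ∀ x ∈ A, m * x * m⁻¹ = x := by
    intro x hx
    rw [hm, pow_add, pow_mul]
    exact conj_pow_fix _ x (hk₁ x hx) _
  have hmP : ∀ x ∈ P, m * x * m⁻¹ * x⁻¹ ∈ A := by
    intro x hx
    have h1 : ∀ xq ∈ Pq, (QuotientGroup.mk' A m) * xq * (QuotientGroup.mk' A m)⁻¹ = xq := by
      intro xq hxq
      rw [hm, map_pow, pow_add, mul_comm, pow_mul]
      exact conj_pow_fix _ xq (hk₂ xq hxq) _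
    have h2 := h1 (QuotientGroup.mk' A x) (by rw [hPq]; exact ⟨x, hx, rfl⟩)
    rw [← map_inv, ← map_mul, ← map_mul] at h2
    have h3 : m * x * m⁻¹ / x ∈ A := QuotientGroup.eq_iff_div_mem.mp h2
    rw [div_eq_mul_inv] at h3
    exact h3
  have key : ∀ j : ℕ, ∀ x ∈ P, m ^ j * x * (m ^ j)⁻¹ = (m * x * m⁻¹ * x⁻¹) ^ j * x := by
    intro j
    induction j with
    | zero => intro x hx; simp
    | succ j ihj =>
      intro x hx
      have e1 : m ^ (j + 1) * x * (m ^ (j + 1))⁻¹ = m * (m ^ j * x * (m ^ j)⁻¹) * m⁻¹ := by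
        rw [pow_succ']; group
      have hc := hmA _ (hmP x hx)
      have e2 : m * ((m * x * m⁻¹ * x⁻¹) ^ j * x) * m⁻¹ =
          (m * (m * x * m⁻¹ * x⁻¹) * m⁻¹) ^ j * (m * x * m⁻¹) := by
        rw [conj_pow]; group
      rw [e1, ihj x hx]
      calc m * ((m * x * m⁻¹ * x⁻¹) ^ j * x) * m⁻¹
          = (m * (m * x * m⁻¹ * x⁻¹) * m⁻¹) ^ j * (m * x * m⁻¹) := e2
        _ = (m * x * m⁻¹ * x⁻¹) ^ j * (m * x * m⁻¹) := by rw [hc]
        _ = (m * x * m⁻¹ * x⁻¹) ^ j * ((m * x * m⁻¹ * x⁻¹) * x) := by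
            congr 1
            group
        _ = (m * x * m⁻¹ * x⁻¹) ^ (j + 1) * x := by
            rw [pow_succ]; exact (mul_assoc _ _ _).symm
  intro x hx
  have e3 : g ^ p ^ (k₁ + k₂ + 1) = m ^ p := by rw [hm, ← pow_mul, ← pow_succ]
  rw [e3, key p x hx, hAp _ (hmP x hx), one_mul]

/-- **`Qd(p)`-free groups are `p`-stable** (`p` odd), in the normalizer form. -/
theorem qd_stable {G : Type u} [Group G] [Finite G] {p : ℕ} [hp : Fact p.Prime] (hp2 : p ≠ 2)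
    (hno : ¬ Cfsg.Involves ↥(Cfsg.qd p) G) : Cfsg.IsNormalizerPStable p G := by
  classical
  intro P hP g hg hquad
  have hnoN : ¬ Cfsg.Involves ↥(Cfsg.qd p) ↥(Subgroup.normalizer (P : Set G)) := by
    intro h
    obtain ⟨K₁, L₁, hn, hle, he⟩ := exists_section_of_involves_subgroup _ h
    exact hno ⟨K₁, L₁, hn, he⟩
  have hPN : P ≤ Subgroup.normalizer (P : Set G) := Subgroup.le_normalizer
  haveI hP'n : (P.subgroupOf (Subgroup.normalizer (P : Set G))).Normal :=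
    Subgroup.normal_in_normalizer
  have hP'p : IsPGroup p ↥(P.subgroupOf (Subgroup.normalizer (P : Set G))) := hP.comap_subtype
  have hq : ∀ x ∈ P.subgroupOf (Subgroup.normalizer (P : Set G)),
      (⟨g, hg⟩ : ↥(Subgroup.normalizer (P : Set G))) * (⟨g, hg⟩ * x * ⟨g, hg⟩⁻¹ * x⁻¹) *
        ⟨g, hg⟩⁻¹ = ⟨g, hg⟩ * x * ⟨g, hg⟩⁻¹ * x⁻¹ := by
    intro x hx
    apply Subtype.ext
    simp only [Subgroup.coe_mul, Subgroup.coe_inv]
    have hxP : (x : G) ∈ P := hx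
    have h1 : ⁅(x : G), g⁆ ∈ ⁅P, Subgroup.zpowers g⁆ :=
      Subgroup.commutator_mem_commutator hxP (Subgroup.mem_zpowers g)
    have h2 : ⁅⁅(x : G), g⁆, g⁆ ∈ ⁅⁅P, Subgroup.zpowers g⁆, Subgroup.zpowers g⁆ :=
      Subgroup.commutator_mem_commutator h1 (Subgroup.mem_zpowers g)
    rw [hquad, Subgroup.mem_bot, commutatorElement_def, commutatorElement_def] at h2
    calc g * (g * (x : G) * g⁻¹ * (x : G)⁻¹) * g⁻¹
        = (g * (x : G) * g⁻¹ * (x : G)⁻¹) * ((x : G) * g * (x : G)⁻¹ * g⁻¹ * g *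
            ((x : G) * g * (x : G)⁻¹ * g⁻¹)⁻¹ * g⁻¹) := by group
      _ = g * (x : G) * g⁻¹ * (x : G)⁻¹ := by rw [h2, mul_one]
  obtain ⟨M, hMn, haM, hM⟩ := general_stable p hp2 _ ↥(Subgroup.normalizer (P : Set G)) hnoN
    (P.subgroupOf (Subgroup.normalizer (P : Set G))) hP'n hP'p rfl ⟨g, hg⟩ hq
  have hMp : IsPGroup p ↥(M.map (QuotientGroup.mk'
      ((Subgroup.centralizer (P : Set G)).subgroupOf (Subgroup.normalizer (P : Set G))))) := by
    rintro ⟨_, m, hm, rfl⟩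
    obtain ⟨k, hk⟩ := hM m hm
    refine ⟨k, Subtype.ext ?_⟩
    rw [Subgroup.coe_pow, Subgroup.coe_one]
    show (QuotientGroup.mk' _ m) ^ p ^ k = 1
    rw [QuotientGroup.mk'_apply, ← QuotientGroup.mk_pow, QuotientGroup.eq_one_iff,
      Subgroup.mem_subgroupOf, Subgroup.mem_centralizer_iff]
    intro x hx
    have h5 := hk ⟨x, hPN hx⟩ (show (⟨x, hPN hx⟩ : ↥(Subgroup.normalizer (P : Set G))) ∈
      P.subgroupOf (Subgroup.normalizer (P : Set G)) from hx)
    have h6 := congrArg Subtype.val h5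
    simp only [Subgroup.coe_mul, Subgroup.coe_inv] at h6
    calc x * ((m ^ p ^ k : ↥(Subgroup.normalizer (P : Set G))) : G)
        = ((m ^ p ^ k : ↥(Subgroup.normalizer (P : Set G))) : G) * x *
          ((m ^ p ^ k : ↥(Subgroup.normalizer (P : Set G))) : G)⁻¹ *
          ((m ^ p ^ k : ↥(Subgroup.normalizer (P : Set G))) : G) := by rw [h6]
      _ = ((m ^ p ^ k : ↥(Subgroup.normalizer (P : Set G))) : G) * x := by group
  have hMnq := hMn.map (QuotientGroup.mk'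
      ((Subgroup.centralizer (P : Set G)).subgroupOf (Subgroup.normalizer (P : Set G))))
    (QuotientGroup.mk'_surjective _)
  exact Cfsg.Agent.Lib.Helper14.le_pCore p hMnq hMp ⟨⟨g, hg⟩, haM, rfl⟩

end Internal

end Cfsg.Agent.Lib.Helper14.QdRed
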