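import Cfsg.Prelude.Def_Local
import Cfsg.Agent.Lib.Helper14.SylowRel
import Cfsg.Agent.Lib.Helper14.ConjFamily
import Cfsg.Agent.Lib.Helper14.CardAux

set_option autoImplicit false

namespace Cfsg.Agent.Lib.Helper14

open Cfsg

universe u

variable {G : Type u} [Group G]

/-- A `2`-group of odd order is trivial. -/
theorem eq_bot_of_isPGroup_two_of_odd [Finite G] {X : Subgroup G} (hX : IsPGroup 2 X)
    (hodd : Odd (Nat.card X)) : X = ⊥ := by
  obtain ⟨n, hn⟩ := IsPGroup.iff_card.mp hX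
  rw [hn] at hodd
  have h0 : n = 0 := by
    by_contra h
    have : Even (2 ^ n) := (Nat.even_pow' h).mpr even_two
    exact (Nat.not_even_iff_odd.mpr hodd) this
  rw [h0, pow_zero] at hn
  exact Subgroup.card_eq_one.mp hn

/-- A `2`-subgroup of `Q ∩ Q^k` is trivial when `Q` is tightly embedded and `k` does not
normalize `Q`. -/
theorem tight_inf_eq_bot [Finite G] {Q : Subgroup G} (hQ : Cfsg.IsTightlyEmbedded Q)
    {k : G} (hk : k ∉ Subgroup.normalizer (Q : Set G)) {X : Subgroup G}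
    (hXQ : X ≤ Q) (hXQ' : X ≤ Q.map (MulAut.conj k).toMonoidHom) (hX : IsPGroup 2 X) :
    X = ⊥ := by
  apply eq_bot_of_isPGroup_two_of_odd hX
  have hodd := hQ.2 k hk
  have hdvd : Nat.card X ∣ Nat.card ↥(Q ⊓ Q.map (MulAut.conj k).toMonoidHom) :=
    Subgroup.card_dvd_of_le (le_inf hXQ hXQ')
  exact Odd.of_dvd_nat hodd hdvd

/-- A conjugate of a tightly embedded subgroup is tightly embedded. -/
theorem tightlyEmbedded_map_conj {Q : Subgroup G} (hQ : Cfsg.IsTightlyEmbedded Q) (g : G) :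
    Cfsg.IsTightlyEmbedded (Q.map (MulAut.conj g).toMonoidHom) := by
  refine ⟨?_, ?_⟩
  · rw [card_map_conj]; exact hQ.1
  · intro k hk
    rw [mem_normalizer_map_conj_iff] at hk
    have h := hQ.2 _ hk
    have e : Q.map (MulAut.conj g).toMonoidHom ⊓
        (Q.map (MulAut.conj g).toMonoidHom).map (MulAut.conj k).toMonoidHom =
        (Q ⊓ Q.map (MulAut.conj (g⁻¹ * k * g)).toMonoidHom).map (MulAut.conj g).toMonoidHom := by
      rw [map_conj_inf, map_conj_map_conj, map_conj_map_conj]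
      have e1 : g * (g⁻¹ * k * g) = k * g := by group
      rw [e1]
    rw [e, card_map_conj]
    exact h

/-- The normalizer of a nontrivial `2`-subgroup of a tightly embedded subgroup `Q` normalizes
`Q`. -/
theorem normalizer_le_of_tight [Finite G] {Q : Subgroup G} (hQ : Cfsg.IsTightlyEmbedded Q)
    {X : Subgroup G} (hXQ : X ≤ Q) (hX1 : X ≠ ⊥) (hX : IsPGroup 2 X) :
    Subgroup.normalizer (X : Set G) ≤ Subgroup.normalizer (Q : Set G) := by
  intro x hx
  by_contra hxQ
  apply hX1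
  apply tight_inf_eq_bot hQ hxQ hXQ _ hX
  have h1 := map_conj_eq_self_of_mem_normalizer hx
  calc X = X.map (MulAut.conj x).toMonoidHom := h1.symm
    _ ≤ Q.map (MulAut.conj x).toMonoidHom := Subgroup.map_mono hXQ

/-- `|AB| = |A| |B|` when `B` normalizes `A` and `A ∩ B = 1`. -/
theorem card_sup_eq_mul_of_le_normalizer [Finite G] (A B : Subgroup G)
    (hLE : B ≤ Subgroup.normalizer (A : Set G)) (h : A ⊓ B = ⊥) :
    Nat.card ↥(A ⊔ B) = Nat.card A * Nat.card B := by
  have hA : A ≤ Subgroup.normalizer (A : Set G) := Subgroup.le_normalizer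
  have : (A.subgroupOf (Subgroup.normalizer (A : Set G))).Normal :=
    Subgroup.normal_in_normalizer
  have h0 : B.subgroupOf (Subgroup.normalizer (A : Set G)) ⊓
      A.subgroupOf (Subgroup.normalizer (A : Set G)) = ⊥ := by
    rw [Subgroup.eq_bot_iff_forall]
    intro x hx
    have hx1 : (x : G) ∈ B := Subgroup.mem_subgroupOf.mp hx.1
    have hx2 : (x : G) ∈ A := Subgroup.mem_subgroupOf.mp hx.2
    have hx3 : (x : G) ∈ A ⊓ B := Subgroup.mem_inf.mpr ⟨hx2, hx1⟩
    rw [h, Subgroup.mem_bot] at hx3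
    exact Subtype.ext hx3
  have h1 := card_sup_eq_mul_of_inf_eq_bot (B.subgroupOf (Subgroup.normalizer (A : Set G)))
    (A.subgroupOf (Subgroup.normalizer (A : Set G))) h0
  rw [← Subgroup.subgroupOf_sup hLE hA,
    Nat.card_congr (Subgroup.subgroupOfEquivOfLe (sup_le hLE hA)).toEquiv,
    Nat.card_congr (Subgroup.subgroupOfEquivOfLe hLE).toEquiv,
    Nat.card_congr (Subgroup.subgroupOfEquivOfLe hA).toEquiv] at h1
  rw [sup_comm, h1, mul_comm]

/-- `[B : A] |A| = |B|` for `A ≤ B`. -/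
theorem relIndex_mul_card_of_le [Finite G] {A B : Subgroup G} (hAB : A ≤ B) :
    A.relIndex B * Nat.card A = Nat.card B := by
  have := Subgroup.card_mul_index (A.subgroupOf B)
  rw [Nat.card_congr (Subgroup.subgroupOfEquivOfLe hAB).toEquiv] at this
  rw [mul_comm]; exact this

/-- An element normalizing two subgroups normalizes their intersection. -/
theorem mem_normalizer_inf {A B : Subgroup G} {y : G}
    (hA : y ∈ Subgroup.normalizer (A : Set G)) (hB : y ∈ Subgroup.normalizer (B : Set G)) :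
    y ∈ Subgroup.normalizer ((A ⊓ B : Subgroup G) : Set G) := by
  rw [mem_normalizer_iff_map_conj_eq] at hA hB ⊢
  rw [map_conj_inf, hA, hB]

/-- Conjugation into a subgroup gives an injective homomorphism. -/
theorem exists_injective_of_conj_mem {X Y : Subgroup G} {k : G}
    (h : ∀ x ∈ X, k * x * k⁻¹ ∈ Y) : ∃ f : X →* Y, Function.Injective f := by
  refine ⟨MonoidHom.mk' (fun x => ⟨k * x * k⁻¹, h x x.2⟩) ?_, ?_⟩
  · intro a b
    apply Subtype.ext
    show k * (a * b : G) * k⁻¹ = (k * a * k⁻¹) * (k * b * k⁻¹)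
    group
  · intro a b hab
    have h1 : k * (a : G) * k⁻¹ = k * (b : G) * k⁻¹ := congrArg Subtype.val hab
    apply Subtype.ext
    have h2 : (a : G) = k⁻¹ * (k * (a : G) * k⁻¹) * k := by group
    rw [h2, h1]; group

/-- A subgroup conjugate into another embeds into it. -/
theorem exists_injective_of_map_conj_le {X Y : Subgroup G} {k : G}
    (h : X.map (MulAut.conj k).toMonoidHom ≤ Y) : ∃ f : X →* Y, Function.Injective f :=
  exists_injective_of_conj_mem (k := k) (fun _ hx => h (conj_mem_map_conj hx))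

/-- In a direct product `T × R` (inside `G`), a subgroup meeting `T` trivially embeds in `R`
by projection. -/
theorem exists_injective_of_le_sup_of_inf_eq_bot {T R X : Subgroup G}
    (hcomm : ∀ t ∈ T, ∀ r ∈ R, t * r = r * t) (hTR : T ⊓ R = ⊥)
    (hX : X ≤ T ⊔ R) (hXT : X ⊓ T = ⊥) : ∃ f : X →* R, Function.Injective f := by
  have hRN : R ≤ Subgroup.normalizer (T : Set G) := by
    intro r hr
    rw [Subgroup.mem_normalizer_iff]
    intro t
    constructor
    · intro ht
      have : r * t * r⁻¹ = t := by rw [← hcomm t ht r hr]; group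
      rw [this]; exact ht
    · intro ht
      have h1 : r⁻¹ * (r * t * r⁻¹) * r = r * t * r⁻¹ := by
        have := hcomm (r * t * r⁻¹) ht r hr
        calc r⁻¹ * (r * t * r⁻¹) * r = r⁻¹ * ((r * t * r⁻¹) * r) := by group
          _ = r⁻¹ * (r * (r * t * r⁻¹)) := by rw [this]
          _ = r * t * r⁻¹ := by group
      have h2 : r⁻¹ * (r * t * r⁻¹) * r = t := by group
      rw [← h2, h1]; exact ht
  have hdec : ∀ x : X, ∃ p : T × R, (x : G) = (p.1 : G) * (p.2 : G) := by
    intro x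
    have hx : (x : G) ∈ ((T ⊔ R : Subgroup G) : Set G) := hX x.2
    rw [Subgroup.coe_mul_of_right_le_normalizer_left T R hRN] at hx
    obtain ⟨t, ht, r, hr, htr⟩ := Set.mem_mul.mp hx
    exact ⟨(⟨t, ht⟩, ⟨r, hr⟩), htr.symm⟩
  choose c hc using hdec
  have huniq : ∀ p q : T × R, (p.1 : G) * (p.2 : G) = (q.1 : G) * (q.2 : G) → p = q := by
    intro p q hpq
    have h1 : (q.1 : G)⁻¹ * (p.1 : G) = (q.2 : G) * (p.2 : G)⁻¹ := by
      calc (q.1 : G)⁻¹ * (p.1 : G) = (q.1 : G)⁻¹ * ((p.1 : G) * (p.2 : G)) * (p.2 : G)⁻¹ := by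
            group
        _ = (q.1 : G)⁻¹ * ((q.1 : G) * (q.2 : G)) * (p.2 : G)⁻¹ := by rw [hpq]
        _ = (q.2 : G) * (p.2 : G)⁻¹ := by group
    have h2 : (q.1 : G)⁻¹ * (p.1 : G) ∈ T ⊓ R :=
      Subgroup.mem_inf.mpr ⟨T.mul_mem (T.inv_mem q.1.2) p.1.2,
        by rw [h1]; exact R.mul_mem q.2.2 (R.inv_mem p.2.2)⟩
    rw [hTR, Subgroup.mem_bot] at h2
    have h3 : (p.1 : G) = (q.1 : G) := by
      calc (p.1 : G) = (q.1 : G) * ((q.1 : G)⁻¹ * (p.1 : G)) := by group
        _ = (q.1 : G) := by rw [h2, mul_one]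
    have h4 : (p.2 : G) = (q.2 : G) := by
      rw [h3] at hpq
      exact mul_left_cancel hpq
    exact Prod.ext (Subtype.ext h3) (Subtype.ext h4)
  have hmul : ∀ a b : X, c (a * b) = c a * c b := by
    intro a b
    apply huniq
    rw [← hc (a * b)]
    show (a : G) * (b : G) = ((c a).1 : G) * ((c b).1 : G) * (((c a).2 : G) * ((c b).2 : G))
    rw [hc a, hc b]
    have := hcomm _ (c b).1.2 _ (c a).2.2
    calc ((c a).1 : G) * ((c a).2 : G) * (((c b).1 : G) * ((c b).2 : G))
        = ((c a).1 : G) * (((c a).2 : G) * ((c b).1 : G)) * ((c b).2 : G) := by group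
      _ = ((c a).1 : G) * (((c b).1 : G) * ((c a).2 : G)) * ((c b).2 : G) := by rw [this]
      _ = ((c a).1 : G) * ((c b).1 : G) * (((c a).2 : G) * ((c b).2 : G)) := by group
  refine ⟨(MonoidHom.snd T R).comp (MonoidHom.mk' c hmul), ?_⟩
  rw [injective_iff_map_eq_one]
  intro a ha
  have ha' : (c a).2 = 1 := ha
  have h1 : (a : G) = ((c a).1 : G) := by
    rw [hc a, ha']; simp
  have h2 : (a : G) ∈ X ⊓ T := ⟨a.2, by rw [h1]; exact (c a).1.2⟩
  rw [hXT, Subgroup.mem_bot] at h2
  exact Subtype.ext h2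

end Cfsg.Agent.Lib.Helper14
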